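import Cfsg.Agent.H65.CIT.Main
import Cfsg.Agent.Linear.Order

/-!
Simple groups with centralisers of involutions 2-groups, Sylow 2-subgroups of order 64 and not
intersecting trivially, are `PSL(3, 4)`.
-/

set_option autoImplicit false
set_option linter.unusedSectionVars false

namespace Cfsg.Agent.H55.Suz.LThree

open Subgroup Matrix

theorem exists_conj_transvection {K : Type*} [Field K] (u : Matrix.SpecialLinearGroup (Fin 3) K)
    (hne : u ≠ 1) (hsq : ((u : Matrix (Fin 3) (Fin 3) K) - 1) * ((u : Matrix (Fin 3) (Fin 3) K) - 1) = 0) :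
    ∃ P : Matrix.SpecialLinearGroup (Fin 3) K,
      (u : Matrix (Fin 3) (Fin 3) K) * P.1 = P.1 * (1 + Matrix.single 0 2 1) := by
  set N := (u : Matrix (Fin 3) (Fin 3) K) - 1 with hN
  have hN0 : N ≠ 0 := fun h => hne (Subtype.ext (sub_eq_zero.mp h))
  obtain ⟨y, hy⟩ : ∃ y, N *ᵥ y ≠ 0 := by
    by_contra! h
    exact hN0 (Matrix.toLin'.injective (LinearMap.ext fun y => by simp [h y]))
  set v := N *ᵥ y with hv
  have hNv : N *ᵥ v = 0 := by rw [hv, Matrix.mulVec_mulVec, hsq, Matrix.zero_mulVec]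
  obtain ⟨x, hx, hxv⟩ : ∃ x, N *ᵥ x = 0 ∧ x ∉ Submodule.span K {v} := by
    by_contra! h
    have h1 : LinearMap.ker N.toLin' ≤ Submodule.span K {v} := fun x hx => h x (by simpa using hx)
    have h2 : LinearMap.range N.toLin' ≤ LinearMap.ker N.toLin' := by
      rintro _ ⟨w, rfl⟩
      simp [Matrix.mulVec_mulVec, hsq]
    have h3 := N.toLin'.finrank_range_add_finrank_ker
    have h4 := Submodule.finrank_mono h1
    have h5 := Submodule.finrank_mono h2
    rw [finrank_span_singleton hy] at h4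
    rw [Module.finrank_fin_fun] at h3
    omega
  let P0 : Matrix (Fin 3) (Fin 3) K := Matrix.of fun i j => ![v, x, y] j i
  have hcol : ∀ w, P0 *ᵥ w = w 0 • v + w 1 • x + w 2 • y := fun w => by
    ext i; simp [P0, Matrix.mulVec, dotProduct, Fin.sum_univ_three]; ring
  have hdet : P0.det ≠ 0 := by
    intro h
    obtain ⟨w, hw0, hw⟩ := Matrix.exists_mulVec_eq_zero_iff.mpr h
    rw [hcol] at hw
    have h2 : w 2 = 0 := by
      have := congrArg (fun z => N *ᵥ z) hw
      simp only [Matrix.mulVec_add, Matrix.mulVec_smul, hNv, hx, smul_zero, zero_add,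
        Matrix.mulVec_zero, ← hv] at this
      exact (smul_eq_zero.mp this).resolve_right hy
    rw [h2, zero_smul, add_zero] at hw
    have h1 : w 1 = 0 := by
      by_contra h1
      refine hxv (Submodule.mem_span_singleton.mpr ⟨-(w 0) / w 1, ?_⟩)
      rw [div_eq_inv_mul, mul_smul, neg_smul, ← eq_neg_of_add_eq_zero_right hw, smul_smul,
        inv_mul_cancel₀ h1, one_smul]
    rw [h1, zero_smul, add_zero] at hw
    exact hw0 (funext fun i => by
      fin_cases i
      · exact (smul_eq_zero.mp hw).resolve_right hy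
      · exact h1
      · exact h2)
  let D : Matrix (Fin 3) (Fin 3) K := Matrix.diagonal ![1, P0.det⁻¹, 1]
  refine ⟨⟨P0 * D, by simp [D, Fin.prod_univ_three, hdet]⟩, ?_⟩
  have hNP : N * P0 = P0 * Matrix.single 0 2 1 := by
    refine Matrix.toLin'.injective (LinearMap.ext fun w => ?_)
    rw [Matrix.toLin'_apply, Matrix.toLin'_apply, ← Matrix.mulVec_mulVec, ← Matrix.mulVec_mulVec,
      hcol, hcol, Matrix.mulVec_add, Matrix.mulVec_add, Matrix.mulVec_smul, Matrix.mulVec_smul,
      Matrix.mulVec_smul, hNv, hx]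
    simp [Matrix.mulVec, dotProduct, Matrix.single, ← hv]
  have hD : Matrix.single 0 2 1 * D = D * Matrix.single 0 2 1 := by
    ext i j; fin_cases i <;> fin_cases j <;> simp [D, Matrix.single]
  show (u : Matrix (Fin 3) (Fin 3) K) * (P0 * D) = P0 * D * (1 + Matrix.single 0 2 1)
  rw [show (u : Matrix (Fin 3) (Fin 3) K) = 1 + N by rw [hN]; abel, add_mul, one_mul, ← mul_assoc,
    hNP, mul_assoc, hD, mul_add, mul_one, mul_assoc]

/-- The involutions of `PSL(3, 4)` are conjugate. -/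
theorem conj_invol {K : Type*} [Field K] [Fintype K] (hK : Fintype.card K = 4) :
    ∀ a b : Matrix.ProjectiveSpecialLinearGroup (Fin 3) K,
      a ^ 2 = 1 → a ≠ 1 → b ^ 2 = 1 → b ≠ 1 → ∃ c, c * a * c⁻¹ = b := by
  classical
  have htwoK : (1 : K) + 1 = 0 := by
    have h := FiniteField.cast_card_eq_zero K
    rw [hK] at h
    have : ((1 : K) + 1) * (1 + 1) = 0 := by rw [← h]; push_cast; ring
    exact mul_self_eq_zero.mp this
  have lift : ∀ a : Matrix.ProjectiveSpecialLinearGroup (Fin 3) K, a ^ 2 = 1 → a ≠ 1 →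
      ∃ P u : Matrix.SpecialLinearGroup (Fin 3) K, QuotientGroup.mk u = a ∧
        u.1 * P.1 = P.1 * (1 + Matrix.single 0 2 1) := by
    intro a ha ha1
    obtain ⟨A, rfl⟩ := QuotientGroup.mk_surjective a
    rw [← QuotientGroup.mk_pow, QuotientGroup.eq_one_iff] at ha
    have ha2 := ha
    obtain ⟨x, hx, hxA⟩ := Matrix.SpecialLinearGroup.mem_center_iff.mp ha
    have h6 : (A ^ 3) ^ 2 = 1 := by
      rw [← pow_mul, show 3 * 2 = 2 * 3 from rfl, pow_mul]
      apply Subtype.ext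
      rw [Matrix.SpecialLinearGroup.coe_pow, ← hxA, ← map_pow,
        show x ^ 3 = 1 by simpa using hx, map_one]
      rfl
    have hmk : (QuotientGroup.mk (A ^ 3) : Matrix.ProjectiveSpecialLinearGroup (Fin 3) K) =
        QuotientGroup.mk A := by
      rw [pow_succ, QuotientGroup.mk_mul, (QuotientGroup.eq_one_iff _).mpr ha2, one_mul]
    have hne : A ^ 3 ≠ 1 := fun h => ha1 (by rw [← hmk, h, QuotientGroup.mk_one])
    obtain ⟨P, hP⟩ := exists_conj_transvection (A ^ 3) hne (by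
      have h := congrArg Subtype.val h6
      simp only [pow_two, Matrix.SpecialLinearGroup.coe_mul, Matrix.SpecialLinearGroup.coe_one] at h
      simp only [sub_mul, mul_sub, one_mul, mul_one, h]
      have h2 : ∀ M : Matrix (Fin 3) (Fin 3) K, M + M = 0 := fun M => by
        ext i j
        show M i j + M i j = 0
        rw [← mul_one (M i j), ← mul_add, htwoK, mul_zero]
      have := h2 (1 - ((A ^ 3 : Matrix.SpecialLinearGroup (Fin 3) K) : Matrix (Fin 3) (Fin 3) K))
      rw [← this]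
      abel)
    exact ⟨P, A ^ 3, hmk, hP⟩
  intro a b ha ha1 hb hb1
  obtain ⟨P, u, hu, hP⟩ := lift a ha ha1
  obtain ⟨Q, w, hw, hQ⟩ := lift b hb hb1
  have hT : (1 + Matrix.single 0 2 1 : Matrix (Fin 3) (Fin 3) K).det = 1 := by
    simp [Matrix.det_fin_three, Matrix.single]
  let T : Matrix.SpecialLinearGroup (Fin 3) K := ⟨_, hT⟩
  have e1 : u * P = P * T := Subtype.ext hP
  have e2 : w * Q = Q * T := Subtype.ext hQ
  refine ⟨QuotientGroup.mk (Q * P⁻¹), ?_⟩
  rw [← hu, ← hw, ← QuotientGroup.mk_inv, ← QuotientGroup.mk_mul, ← QuotientGroup.mk_mul]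
  congr 1
  rw [eq_mul_inv_of_mul_eq e1, eq_mul_inv_of_mul_eq e2]
  group

theorem psl_two_four {F : Type*} [Field F] [Fintype F] (h : Fintype.card F = 4) :
    Nat.card (ProjectiveSpecialLinearGroup (Fin 2) F) = 60 := by
  have h1 := Cfsg.Agent.Linear.card_PSL_mul (F := F) 2 (by norm_num)
  rw [h, Fin.prod_univ_two] at h1
  norm_num at h1 ⊢
  omega

theorem psl_two_nine {F : Type*} [Field F] [Fintype F] (h : Fintype.card F = 9) :
    Nat.card (ProjectiveSpecialLinearGroup (Fin 2) F) = 360 := by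
  have h1 := Cfsg.Agent.Linear.card_PSL_mul (F := F) 2 (by norm_num)
  rw [h, Fin.prod_univ_two] at h1
  norm_num at h1 ⊢
  omega

theorem psl_two_not (p k N : ℕ) (hp : p.Prime) (hk : p = 2 ^ k + 1 ∨ p = 2 ^ k - 1)
    (hN : 2 * N = p * ((p + 1) * (p - 1))) (h64 : 64 ∣ N) (h128 : ¬ 128 ∣ N) : False := by
  have hp2 := hp.two_le
  rcases lt_or_ge k 2 with hk2 | hk2
  · have hp3 : p = 2 ∨ p = 3 := by
      interval_cases k <;> norm_num at hk <;> omega
    rcases hp3 with rfl | rfl <;> omega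
  have hodd : p % 2 = 1 := by
    have : 2 ^ k % 2 = 0 := Nat.mod_eq_zero_of_dvd ⟨2 ^ (k - 1), by rw [← pow_succ']; congr 1; omega⟩
    omega
  obtain ⟨m, hm⟩ : ∃ m, 2 ^ k = 4 * m := ⟨2 ^ (k - 2), by
    rw [show 4 = 2 ^ 2 from rfl, ← pow_add]; congr 1; omega⟩
  obtain ⟨c, hc, hN'⟩ : ∃ c, Odd c ∧ N = 2 ^ k * c := by
    rcases hk with e | e
    · refine ⟨p * (2 * m + 1), ?_, ?_⟩
      · exact (Odd.mul (Nat.odd_iff.mpr hodd) ⟨m, rfl⟩)
      · rw [show p + 1 = 2 * (2 * m + 1) by omega, show p - 1 = 2 ^ k by omega] at hN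
        have : 2 * N = 2 * (2 ^ k * (p * (2 * m + 1))) := by rw [hN]; ring
        omega
    · have hm0 : m ≠ 0 := by rintro rfl; simp at hm
      refine ⟨p * (2 * m - 1), ?_, ?_⟩
      · exact (Odd.mul (Nat.odd_iff.mpr hodd) ⟨m - 1, by omega⟩)
      · rw [show p + 1 = 2 ^ k by omega, show p - 1 = 2 * (2 * m - 1) by omega] at hN
        have : 2 * N = 2 * (2 ^ k * (p * (2 * m - 1))) := by rw [hN]; ring
        omega
  rw [hN', show 64 = 2 ^ 6 from rfl] at h64
  rw [hN', show 128 = 2 ^ 7 from rfl] at h128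
  have h6 : 6 ≤ k := (Nat.pow_dvd_pow_iff_le_right (show 1 < 2 by norm_num)).mp
    ((Nat.Coprime.pow_left 6 (Nat.coprime_two_left.mpr hc)).dvd_of_dvd_mul_right h64)
  have h7 : k ≤ 6 := by
    by_contra h
    exact h128 (dvd_mul_of_dvd_left (pow_dvd_pow 2 (by omega)) c)
  obtain rfl : k = 6 := by omega
  rcases hk with rfl | rfl <;> norm_num at hp

universe u

/-- Recognition of `PSL(3, 4)`. -/
theorem recognise_iso {G : Type u} [Group G] [Finite G] [IsSimpleGroup G]
    (hC : H65.CIT.CIT G) (h64 : 64 ∣ Nat.card G) (h128 : ¬ 128 ∣ Nat.card G)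
    (hG : ∃ a b : G, a * b ≠ b * a)
    (hTI : ∃ S T : Sylow 2 G, S ≠ T ∧ (S : Subgroup G) ⊓ (T : Subgroup G) ≠ ⊥) :
    ∃ (F : Type) (_ : Field F) (_ : Fintype F), Fintype.card F = 4 ∧
      Nonempty (G ≃* Matrix.ProjectiveSpecialLinearGroup (Fin 3) F) := by
  classical
  haveI : Fact (Nat.Prime 2) := ⟨Nat.prime_two⟩
  have hna : ¬ IsMulCommutative G := fun h => by
    obtain ⟨a, b, hab⟩ := hG
    exact hab (h.is_comm.comm a b)
  have hO : Cfsg.pCore 2 G = ⊥ := by
    refine (inferInstance : (Cfsg.pCore 2 G).Normal).eq_bot_or_eq_top.resolve_right fun h => hna ?_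
    have hp : IsPGroup 2 G := fun x => by
      obtain ⟨k, hk⟩ := (Cores.pCore_isPGroup (p := 2) (G := G)) ⟨x, h ▸ mem_top x⟩
      exact ⟨k, congrArg Subtype.val hk⟩
    haveI : Nontrivial G := IsSimpleGroup.toNontrivial
    haveI := hp.center_nontrivial
    rcases (inferInstance : (center G).Normal).eq_bot_or_eq_top with hz | hz
    · exact absurd hz ((Subgroup.nontrivial_iff_ne_bot _).1 inferInstance)
    · exact ⟨⟨fun a b => mem_center_iff.1 (hz ▸ mem_top b) a⟩⟩
  have hL := H65.CIT.loc_of hC hO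
  obtain ⟨A⟩ := hL.exists_amalgam hTI
  have hq4 := hL.q_le_four A
  have hq2 := A.two_le
  obtain ⟨k, hk⟩ := IsPGroup.iff_card.1 A.hT₁.2.1
  rw [A.cardT] at hk
  obtain hq | hq : A.q = 2 ∨ A.q = 4 := by
    rcases Nat.lt_or_ge A.q 3 with h | h
    · exact Or.inl (by omega)
    rcases Nat.lt_or_ge A.q 4 with h' | h'
    · exfalso
      have h3 : A.q = 3 := by omega
      rw [h3] at hk
      have hodd : Odd ((3 : ℕ) ^ 3) := by decide
      rw [hk] at hodd
      rcases Nat.eq_zero_or_pos k with rfl | hk0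
      · norm_num at hk
      · exact absurd (even_iff_two_dvd.2 (dvd_pow_self 2 hk0.ne')) (Nat.not_even_iff_odd.2 hodd)
    · exact Or.inr (by omega)
  · exfalso
    obtain ⟨F, iF, iFt, hF, ⟨e⟩⟩ := A.psl_two hna hL hq
    rw [Nat.card_congr e.toEquiv] at h64 h128
    rcases hF with h | h | ⟨hp, j, h⟩
    · rw [psl_two_four h] at h64; omega
    · rw [psl_two_nine h] at h64; omega
    · refine psl_two_not _ j _ hp h ?_ h64 h128
      have h1 := Cfsg.Agent.Linear.card_PSL_mul (F := F) 2 (by norm_num)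
      have hp2 := hp.two_le
      rcases hp.eq_two_or_odd with e2 | hodd
      · exfalso
        rw [e2] at h1 h
        rw [Fin.prod_univ_two] at h1
        norm_num at h1
        simp only [Nat.card_eq_fintype_card] at h1 h64
        omega
      rw [Fin.prod_univ_two] at h1
      generalize Nat.card (ProjectiveSpecialLinearGroup (Fin 2) F) = N at h1 ⊢
      generalize Fintype.card F = p at h1 hodd hp2 ⊢
      simp only [Fin.val_zero, Fin.val_one, pow_zero, pow_one] at h1
      rw [show Nat.gcd 2 (p - 1) = 2 from Nat.gcd_eq_left (by omega)] at h1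
      obtain ⟨q, rfl⟩ : ∃ q, p = q + 1 := ⟨p - 1, by omega⟩
      simp only [Nat.add_sub_cancel] at h1 ⊢
      rw [show (q + 1) ^ 2 - 1 = q * (q + 2) from Nat.sub_eq_of_eq_add (by ring),
        show (q + 1) ^ 2 - (q + 1) = q * (q + 1) from Nat.sub_eq_of_eq_add (by ring)] at h1
      have hq0 : 0 < q := by omega
      refine Nat.eq_of_mul_eq_mul_left hq0 ?_
      calc q * (2 * N) = 2 * (q * N) := by ring
        _ = q * (q + 2) * (q * (q + 1)) := h1
        _ = _ := by ring
  · exact A.psl_three_four hL (A.sylow_four hL hG hq) hq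

theorem recognise {G : Type u} [Group G] [Finite G] [IsSimpleGroup G]
    (hC : H65.CIT.CIT G) (h64 : 64 ∣ Nat.card G) (h128 : ¬ 128 ∣ Nat.card G)
    (hG : ∃ a b : G, a * b ≠ b * a)
    (hTI : ∃ S T : Sylow 2 G, S ≠ T ∧ (S : Subgroup G) ⊓ (T : Subgroup G) ≠ ⊥) :
    Nat.card G = 20160 ∧ ∀ a b : G, orderOf a = 2 → orderOf b = 2 → IsConj a b := by
  classical
  obtain ⟨F, iF, iFt, hF, ⟨e⟩⟩ := recognise_iso hC h64 h128 hG hTI
  refine ⟨?_, fun a b ha hb => ?_⟩
  · rw [Nat.card_congr e.toEquiv]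
    have h1 := Cfsg.Agent.Linear.card_PSL_mul (F := F) 3 (by norm_num)
    rw [hF, Fin.prod_univ_three] at h1
    norm_num [Nat.gcd_self] at h1
    simp only [Nat.card_eq_fintype_card] at h1 ⊢
    omega
  · have hpw : ∀ x : G, orderOf x = 2 → e x ^ 2 = 1 ∧ e x ≠ 1 := fun x hx =>
      ⟨by rw [← map_pow, show x ^ 2 = 1 by rw [← hx, pow_orderOf_eq_one], map_one],
        fun h1 => by rw [MulEquiv.map_eq_one_iff] at h1; rw [h1, orderOf_one] at hx; omega⟩
    obtain ⟨c, hc⟩ := conj_invol hF _ _ (hpw a ha).1 (hpw a ha).2 (hpw b hb).1 (hpw b hb).2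
    refine isConj_iff.2 ⟨e.symm c, e.injective ?_⟩
    rw [map_mul, map_mul, map_inv, e.apply_symm_apply, hc]

end Cfsg.Agent.H55.Suz.LThree
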