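import Mathlib.GroupTheory.Sylow
import Mathlib.GroupTheory.Nilpotent

/-!
Generalities on `p`-subgroups inside a given subgroup.
-/

set_option autoImplicit false

namespace Cfsg.Agent.H55.Suz

open Subgroup
open scoped Pointwise

variable {G : Type*} [Group G]

/-- The conjugate of a subgroup. -/
abbrev cj (g : G) (P : Subgroup G) : Subgroup G := P.map (MulAut.conj g).toMonoidHom

theorem mem_cj {g x : G} {P : Subgroup G} : x ∈ cj g P ↔ g⁻¹ * x * g ∈ P := by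
  rw [cj, Subgroup.mem_map]
  constructor
  · rintro ⟨y, hy, rfl⟩
    simpa [mul_assoc] using hy
  · intro hx
    exact ⟨_, hx, by simp [mul_assoc]⟩

theorem conj_mem_cj {g x : G} {P : Subgroup G} (hx : x ∈ P) : g * x * g⁻¹ ∈ cj g P :=
  mem_cj.mpr (by simpa [mul_assoc] using hx)

theorem card_cj (g : G) (P : Subgroup G) : Nat.card (cj g P) = Nat.card P :=
  Nat.card_congr (Subgroup.equivMapOfInjective P _ (MulAut.conj g).injective).toEquiv.symm

theorem isPGroup_cj {p : ℕ} (g : G) {P : Subgroup G} (hP : IsPGroup p P) : IsPGroup p (cj g P) :=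
  hP.map _

/-- A `p`-subgroup of `H` of largest order absorbs every `p`-subgroup of `H` up to conjugation. -/
theorem exists_conj_le [Finite G] {p : ℕ} [Fact p.Prime] {H T P : Subgroup G} (hT : T ≤ H)
    (hTp : IsPGroup p T)
    (hmax : ∀ U : Subgroup G, U ≤ H → IsPGroup p U → Nat.card U ≤ Nat.card T)
    (hP : P ≤ H) (hPp : IsPGroup p P) : ∃ g ∈ H, ∀ x ∈ P, g * x * g⁻¹ ∈ T := by
  obtain ⟨S₁, hS₁⟩ := (IsPGroup.of_equiv hPp (subgroupOfEquivOfLe hP).symm).exists_le_sylow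
  obtain ⟨S₂, hS₂⟩ := (IsPGroup.of_equiv hTp (subgroupOfEquivOfLe hT).symm).exists_le_sylow
  obtain ⟨g, hg⟩ := MulAction.exists_smul_eq H S₁ S₂
  refine ⟨g, g.2, fun x hx => ?_⟩
  have hx2 : g * ⟨x, hP hx⟩ * g⁻¹ ∈ (S₂ : Subgroup H) := by
    rw [← hg]
    exact ⟨⟨x, hP hx⟩, hS₁ (show (⟨x, hP hx⟩ : H) ∈ P.subgroupOf H from hx), rfl⟩
  have hle : T ≤ (S₂ : Subgroup H).map H.subtype := fun y hy =>
    ⟨⟨y, hT hy⟩, hS₂ (show (⟨y, hT hy⟩ : H) ∈ T.subgroupOf H from hy), rfl⟩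
  have heq := eq_of_le_of_card_ge hle
    (hmax _ (map_subtype_le _) (S₂.isPGroup'.map _))
  rw [heq]
  exact ⟨_, hx2, rfl⟩

/-- A proper subgroup of a `p`-group is normalised by an outside element. -/
theorem exists_normalizing [Finite G] {p : ℕ} [Fact p.Prime] {R P : Subgroup G} (hRP : R ≤ P)
    (hP : IsPGroup p P) (hne : R ≠ P) : ∃ x ∈ P, x ∉ R ∧ ∀ y ∈ R, x⁻¹ * y * x ∈ R ∧ x * y * x⁻¹ ∈ R := by
  haveI := hP.isNilpotent
  have hlt : R.subgroupOf P < ⊤ := lt_top_iff_ne_top.mpr fun e => hne (le_antisymm hRP fun y hy => by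
    have hy' : (⟨y, hy⟩ : P) ∈ R.subgroupOf P := by rw [e]; trivial
    exact hy')
  obtain ⟨x, hxn, hxR⟩ := SetLike.exists_of_lt (normalizerCondition_of_isNilpotent (R.subgroupOf P) hlt)
  refine ⟨x, x.2, hxR, fun y hy => ⟨?_, ?_⟩⟩
  · exact (mem_normalizer_iff'.mp hxn ((x⁻¹ * ⟨y, hRP hy⟩ : P))).mpr (by
      show (x : G) * ((x : G)⁻¹ * y) ∈ R
      rwa [mul_inv_cancel_left])
  · exact (mem_normalizer_iff.mp hxn ⟨y, hRP hy⟩).mp hy

end Cfsg.Agent.H55.Suz
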