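import Cfsg.Agent.H55.Suz.Hex
import Cfsg.Agent.H70.Sixty
import Cfsg.Agent.S0494

/-!
The centraliser of the four generators is alternating of degree five.
-/

set_option autoImplicit false
set_option linter.unusedSectionVars false
set_option linter.style.haveILetI false

namespace Cfsg.Agent.H55.Suz

open Cfsg.Agent.H73.Suz Subgroup

/-- A group of order 60 whose involutions have centralisers of order four, two commuting ones of them
conjugate to their product, is simple. -/
theorem simple_sixty {X : Type*} [Group X] [Finite X] (hX : Nat.card X = 60) {a b : X}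
    (ha : orderOf a = 2) (h4 : Nat.card ↥(centralizer ({a * b} : Set X)) = 4)
    (hconj : IsConj a b) : IsSimpleGroup X := by
  haveI : Fact (Nat.Prime 5) := ⟨by norm_num⟩
  refine (H70.simple_of_card_sixty hX fun h1 => ?_).1
  let P : Sylow 5 X := default
  obtain ⟨p, hp⟩ := exists_prime_orderOf_dvd_card' (G := X) 5 (by rw [hX]; norm_num)
  haveI hsub : Subsingleton (Sylow 5 X) := (Nat.card_eq_one_iff_unique.mp h1).1
  have hmem : ∀ c : X, c * p * c⁻¹ ∈ zpowers p := by
    intro c
    obtain ⟨S, hS⟩ := (IsPGroup.of_card (p := 5) (n := 1) (G := zpowers p)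
      (by rw [Nat.card_zpowers, hp, pow_one])).exists_le_sylow
    obtain ⟨T, hT⟩ := (IsPGroup.of_card (p := 5) (n := 1) (G := zpowers (c * p * c⁻¹))
      (by rw [Nat.card_zpowers, H65.orderOf_conj', hp, pow_one])).exists_le_sylow
    have hS5 : Nat.card (S : Subgroup X) = 5 := by
      rw [show Nat.card (S : Subgroup X) = Nat.card S from rfl, S.card_eq_multiplicity, hX,
        show (60 : ℕ) = 5 ^ 1 * 12 from rfl, Nat.factorization_mul (by norm_num) (by norm_num),
        Finsupp.add_apply, (show Nat.Prime 5 by norm_num).factorization_pow, Finsupp.single_eq_same,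
        Nat.factorization_eq_zero_of_not_dvd (by norm_num)]
      rfl
    have e : zpowers p = (S : Subgroup X) :=
      eq_of_le_of_card_ge hS (by rw [Nat.card_zpowers, hp, hS5])
    rw [e, Subsingleton.elim S T]
    exact hT (mem_zpowers _)
  have hpow : ∀ c : X, ∃ k : ℕ, c * p * c⁻¹ = p ^ k := fun c => by
    have := hmem c
    rw [← mem_powers_iff_mem_zpowers, Submonoid.mem_powers_iff] at this
    obtain ⟨k, hk⟩ := this
    exact ⟨k, hk.symm⟩
  obtain ⟨c, hc⟩ := isConj_iff.mp hconj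
  obtain ⟨m, hm⟩ := hpow a
  obtain ⟨k, hk⟩ := hpow c⁻¹
  have hb' : b * p * b⁻¹ = p ^ m := by
    have hk' : c⁻¹ * p * c = p ^ k := by simpa using hk
    calc b * p * b⁻¹ = c * (a * (c⁻¹ * p * c) * a⁻¹) * c⁻¹ := by rw [← hc]; group
      _ = c * (c⁻¹ * p * c) ^ m * c⁻¹ := by
        rw [hk', ← conj_pow, hm, ← pow_mul, ← pow_mul, mul_comm]
      _ = p ^ m := by
        rw [← conj_pow]; congr 1; group
  have haa : a * a = 1 := H65.mul_self_eq_one ha
  have hcomm : (a * b) * p * (a * b)⁻¹ = p := by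
    calc a * b * p * (a * b)⁻¹ = a * (b * p * b⁻¹) * a⁻¹ := by group
      _ = a * (a * p * a⁻¹) * a⁻¹ := by rw [hb', hm]
      _ = (a * a) * p * (a * a)⁻¹ := by group
      _ = p := by rw [haa]; simp
  have h5 := orderOf_dvd_natCard (⟨p, mem_centralizer_singleton_iff.mpr
    (mul_inv_eq_iff_eq_mul.mp hcomm).symm⟩ : ↥(centralizer ({a * b} : Set X)))
  rw [h4, ← Subgroup.orderOf_coe, hp] at h5
  norm_num at h5

namespace Frame

variable {G : Type*} [Group G] [Finite G] {z : G} {Q : Subgroup G}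
variable {h : Setup z Q} {s w t om hh : G} (F : Frame h s w t om hh)
variable {s' w' g r : G}

/-- The alternating group of degree five centralising the four generators. -/
structure Five5 (F : Frame h s w t om hh) (b f g u : G) where
  χ : alternatingGroup (Fin 5) →* G
  inj : Function.Injective χ
  ht : χ Six.t5 = t
  hv : χ Six.v5 ∈ F.Vsub
  cz : ∀ p, χ p * z = z * χ p
  cb : ∀ p, χ p * b = b * χ p
  cf : ∀ p, χ p * f = f * χ p
  cg : ∀ p, χ p * g = g * χ p
  hu : ∃ p, χ p = u
  decomp : ∀ x : G, x * (z * b) = z * b * x → ∃ p, ∃ n ∈ zpowers (z * b), x = χ p * n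
  disj : ∀ p, χ p ∈ zpowers (z * b) → p = 1

include F

set_option maxHeartbeats 1600000 in
theorem exists_five5 (D : Five h s' w' g r) {b f gg u : G} (H : F.Hex b f gg u) :
    Nonempty (F.Five5 b f gg u) := by
  classical
  haveI : Fact (Nat.Prime 5) := ⟨by norm_num⟩
  set y := z * b with hydef
  have hbK : b ∈ F.Ksub := (F.zK H.tc.1.symm H.bz).1
  have hfK : f ∈ F.Ksub := (F.zK H.tc.2.1.symm H.fz).1
  have hgK : gg ∈ F.Ksub := (F.zK H.tc.2.2.symm H.gz).1
  have hy : y ∈ F.Ksub := mul_mem F.z_mem_K hbK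
  have hy5 : orderOf y = 5 := H.yB.1
  have hodd : Odd 5 := by decide
  obtain ⟨hC, hone, -, -⟩ := F.X_y D (p := 5) (Or.inl rfl) hy hy5
  have h60 : Nat.card (CentQuot.XQ y) = 60 := by
    have := CentQuot.card_mul hy5 (x := y)
    rw [F.card_Cy_five D hy hy5] at this
    omega
  set A : Subgroup G := centralizer ({z, b, f, gg} : Set G) with hA
  have memA : ∀ x, x ∈ A ↔ x * z = z * x ∧ x * b = b * x ∧ x * f = f * x ∧ x * gg = gg * x := by
    intro x
    rw [hA, mem_centralizer_iff]
    simp only [Set.mem_insert_iff, Set.mem_singleton_iff, forall_eq_or_imp, forall_eq]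
    exact ⟨fun ⟨a1, a2, a3, a4⟩ => ⟨a1.symm, a2.symm, a3.symm, a4.symm⟩,
      fun ⟨a1, a2, a3, a4⟩ => ⟨a1.symm, a2.symm, a3.symm, a4.symm⟩⟩
  have hAy : A ≤ centralizer ({y} : Set G) := fun x hx => mem_centralizer_singleton_iff.mpr (by
    obtain ⟨a1, a2, -⟩ := (memA x).mp hx
    exact ((show Commute x z from a1).mul_right a2).eq)
  have hbi : b⁻¹ = b := inv_eq_of_mul_eq_one_left H.sq.1
  have hdisj : ∀ x ∈ A, x ∈ zpowers y → x = 1 := by
    intro x hx hxy
    obtain ⟨k, hk⟩ := mem_zpowers_iff.mp hxy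
    have hzy : z * y * z⁻¹ = y⁻¹ := by
      rw [hydef, mul_inv_rev, hbi, h.z_inv, ← mul_assoc, h.zz, one_mul]
    have h1 : z * x * z⁻¹ = x := mul_inv_eq_iff_eq_mul.mpr ((memA x).mp hx).1.symm
    rw [← hk, ← conj_zpow, hzy, inv_zpow, hk] at h1
    exact CentQuot.eq_one_of_sq hodd hy5 hxy (mul_eq_one_iff_eq_inv.mpr h1.symm)
  have hVA : F.Vsub ≤ A := fun v hv => (memA v).mpr
    ⟨(F.V_comm hv F.z_mem_K).symm, (F.V_comm hv hbK).symm, (F.V_comm hv hfK).symm,
      (F.V_comm hv hgK).symm⟩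
  have huA : u ∈ A := (memA u).mpr H.uc
  have htV : t ∈ F.Vsub := Or.inr (Or.inl rfl)
  have hvV : F.vv ∈ F.Vsub := Or.inr (Or.inr (Or.inl rfl))
  let j : A →* CentQuot.XQ y := (CentQuot.pr y).comp (inclusion hAy)
  have hj : Function.Injective j := (injective_iff_map_eq_one j).mpr fun x hx =>
    Subtype.ext (hdisj x x.2 (CentQuot.pr_one.mp hx))
  -- simplicity
  have hord : ∀ x : G, x ∈ F.Vsub → x ≠ 1 → ∀ hx : x ∈ A, orderOf (j ⟨x, hx⟩) = 2 :=
    fun x hxV hx1 hx => by
    rw [orderOf_injective j hj, Subgroup.orderOf_mk]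
    exact F.ord_two (F.V_sq hxV) hx1
  set tA : A := ⟨t, hVA htV⟩
  set vA : A := ⟨F.vv, hVA hvV⟩
  have htv1 : t * F.vv ≠ 1 := fun e => tb_ne.2.2.1 (isW_unique F.P (isW_mul F.P F.ht F.hv)
    (by rw [e]; exact isW_one F.P))
  have ht2 : orderOf (j tA) = 2 := hord t htV F.t_ne _
  have hv2 : orderOf (j vA) = 2 := hord _ hvV F.v_ne _
  have htv2 : orderOf (j tA * j vA) = 2 := by
    rw [← map_mul]; exact hord (t * F.vv) (mul_mem htV hvV) htv1 _
  haveI hsimple : IsSimpleGroup (CentQuot.XQ y) := simple_sixty h60 (a := j tA) (b := j vA) ht2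
    (hC _ htv2).1 (hone _ _ ht2 hv2)
  have hsurj : Function.Surjective j := by
    have hcard : Nat.card j.range = Nat.card A :=
      (Nat.card_congr (Equiv.ofInjective j hj)).symm
    have h20 : 20 ∣ Nat.card A := by
      refine (show Nat.lcm 4 5 ∣ Nat.card A from Nat.lcm_dvd ?_ ?_)
      · rw [← F.card_V]; exact card_dvd_of_le hVA
      · have := orderOf_dvd_natCard (⟨u, huA⟩ : A)
        rwa [← Subgroup.orderOf_coe, H.ord] at this
    rw [← MonoidHom.range_eq_top]
    by_contra hne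
    have hidx : j.range.index ≤ 3 := by
      have h1 := j.range.card_mul_index
      rw [h60, hcard] at h1
      have := Nat.le_of_dvd Nat.card_pos h20
      nlinarith
    have hinj : Function.Injective (MulAction.toPermHom (CentQuot.XQ y) (CentQuot.XQ y ⧸ j.range)) := by
      rw [← MonoidHom.ker_eq_bot_iff, ← normalCore_eq_ker]
      exact (normalCore_normal _).eq_bot_or_eq_top.resolve_right fun e =>
        hne (top_le_iff.mp (e ▸ normalCore_le _))
    have h2 := Nat.card_le_card_of_injective _ hinj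
    rw [h60, Nat.card_perm, ← index_eq_card] at h2
    have := Nat.factorial_le hidx
    rw [show (3 : ℕ).factorial = 6 from rfl] at this
    omega
  obtain ⟨e⟩ := S0494.result h60
  let π0 : A ≃* alternatingGroup (Fin 5) := (MulEquiv.ofBijective j ⟨hj, hsurj⟩).trans e
  have htt : π0 tA * π0 tA = 1 := by
    rw [← map_mul, show tA * tA = 1 from Subtype.ext F.t2, map_one]
  obtain ⟨p, hp⟩ := Six.five_conj (π0 tA) htt
    fun e1 => F.t_ne (congrArg Subtype.val ((map_eq_one_iff π0 π0.injective).mp e1))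
  let π : A ≃* alternatingGroup (Fin 5) := π0.trans (MulAut.conj p)
  have hπt : π tA = Six.t5 := hp
  let χ : alternatingGroup (Fin 5) →* G := A.subtype.comp π.symm.toMonoidHom
  have hχA : ∀ q, χ q ∈ A := fun q => (π.symm q).2
  have hχπ : ∀ x : A, χ (π x) = x := fun x => congrArg Subtype.val (π.symm_apply_apply x)
  have hvc : π vA * Six.t5 = Six.t5 * π vA := by
    rw [← hπt, ← map_mul, ← map_mul, show vA * tA = tA * vA from Subtype.ext F.tv_comm.symm]
  have hv : χ Six.v5 ∈ F.Vsub := by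
    rcases Six.five_cent _ hvc with e1 | e1 | e1 | e1
    · exact absurd (congrArg Subtype.val ((map_eq_one_iff π π.injective).mp e1)) F.v_ne
    · exact absurd (congrArg Subtype.val (π.injective (e1.trans hπt.symm))) (fun e2 : F.vv = t =>
        tb_ne.2.2.1 (isW_unique F.P (isW_mul F.P F.ht F.hv) (by rw [e2, F.t2]; exact isW_one F.P)))
    · rw [← e1, hχπ]; exact hvV
    · have : Six.v5 = π (tA * vA) := by
        rw [map_mul, hπt, e1, ← mul_assoc, Six.five_rels.1, one_mul]
      rw [this, hχπ]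
      exact mul_mem htV hvV
  refine ⟨⟨χ, Subtype.val_injective.comp π.symm.injective, by rw [← hπt, hχπ], hv,
    fun q => ((memA _).mp (hχA q)).1, fun q => ((memA _).mp (hχA q)).2.1,
    fun q => ((memA _).mp (hχA q)).2.2.1, fun q => ((memA _).mp (hχA q)).2.2.2,
    ⟨π ⟨u, huA⟩, hχπ _⟩, ?_, ?_⟩⟩
  · intro x hx
    obtain ⟨x', hx'⟩ := hsurj (CentQuot.pr y ⟨x, mem_centralizer_singleton_iff.mpr hx⟩)
    obtain ⟨n, hn, e1⟩ := CentQuot.pr_eq hx'
    exact ⟨π x', n, hn, by rw [hχπ]; exact e1⟩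
  · intro q hq
    exact (map_eq_one_iff π.symm π.symm.injective).mp (Subtype.ext (hdisj _ (hχA q) hq))

end Frame

end Cfsg.Agent.H55.Suz
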