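import Mathlib

/-!
The centraliser of an element of odd prime order modulo the subgroup it generates.
-/

set_option autoImplicit false
set_option linter.unusedSectionVars false

namespace Cfsg.Agent.H55.Suz.CentQuot

open Subgroup

variable {G : Type*} [Group G] [Finite G]

/-- The subgroup generated by `x` inside its centraliser. -/
def Nx (x : G) : Subgroup ↥(centralizer ({x} : Set G)) :=
  (zpowers x).subgroupOf (centralizer ({x} : Set G))

instance Nx_normal (x : G) : (Nx x).Normal := ⟨fun n hn c => by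
  obtain ⟨k, hk⟩ := mem_zpowers_iff.mp (mem_subgroupOf.mp hn)
  have e : c * n * c⁻¹ = n := by
    apply Subtype.ext
    show (c : G) * n * (c : G)⁻¹ = n
    rw [← hk, ((show Commute (c : G) x from
      mem_centralizer_singleton_iff.mp c.2).zpow_right k).eq, mul_inv_cancel_right]
  rw [e]; exact hn⟩

/-- The quotient. -/
abbrev XQ (x : G) := ↥(centralizer ({x} : Set G)) ⧸ Nx x

/-- The projection. -/
abbrev pr (x : G) : ↥(centralizer ({x} : Set G)) →* XQ x := QuotientGroup.mk' (Nx x)

variable {x : G} {p : ℕ}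

theorem pr_surj (x : G) : Function.Surjective (pr x) := QuotientGroup.mk'_surjective _

theorem pr_one {c : ↥(centralizer ({x} : Set G))} : pr x c = 1 ↔ (c : G) ∈ zpowers x :=
  QuotientGroup.eq_one_iff c

theorem pr_eq {a b : ↥(centralizer ({x} : Set G))} (e : pr x a = pr x b) :
    ∃ n ∈ zpowers x, (b : G) = a * n :=
  ⟨(a : G)⁻¹ * b, (QuotientGroup.eq (s := Nx x)).mp e, by group⟩

theorem card_Nx (hx : orderOf x = p) : Nat.card (Nx x) = p := by
  rw [Nx, Nat.card_congr (subgroupOfEquivOfLe (zpowers_le.mpr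
    (mem_centralizer_singleton_iff.mpr rfl : x ∈ centralizer ({x} : Set G)))).toEquiv,
    Nat.card_zpowers, hx]

theorem card_mul (hx : orderOf x = p) :
    Nat.card (XQ x) * p = Nat.card ↥(centralizer ({x} : Set G)) := by
  rw [← card_Nx hx]
  exact (card_eq_card_quotient_mul_card_subgroup (Nx x)).symm

theorem eq_one_of_sq (hp : Odd p) (hx : orderOf x = p) {n : G} (hn : n ∈ zpowers x)
    (h2 : n * n = 1) : n = 1 := by
  have h1 : orderOf n ∣ p := hx ▸ orderOf_dvd_of_mem_zpowers hn
  have h2' : orderOf n ∣ 2 := orderOf_dvd_of_pow_eq_one (by rw [pow_two, h2])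
  exact orderOf_eq_one_iff.mp (Nat.eq_one_of_dvd_coprimes
    (Nat.coprime_two_left.mpr hp) h2' h1)

theorem pow_p (hx : orderOf x = p) {n : G} (hn : n ∈ zpowers x) : n ^ p = 1 :=
  orderOf_dvd_iff_pow_eq_one.mp (hx ▸ orderOf_dvd_of_mem_zpowers hn)

theorem commute_N {c : ↥(centralizer ({x} : Set G))} {n : G} (hn : n ∈ zpowers x) :
    Commute (c : G) n := by
  obtain ⟨k, rfl⟩ := mem_zpowers_iff.mp hn
  exact (show Commute (c : G) x from mem_centralizer_singleton_iff.mp c.2).zpow_right k

theorem pr_orderOf (hp : Odd p) (hx : orderOf x = p) {i : ↥(centralizer ({x} : Set G))}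
    (hi : orderOf (i : G) = 2) : orderOf (pr x i) = 2 := by
  have h2 : (i : G) * i = 1 := by rw [← pow_two, ← hi, pow_orderOf_eq_one]
  refine orderOf_eq_prime ?_ fun e => ?_
  · rw [← map_pow, pow_two, show i * i = 1 from Subtype.ext h2, map_one]
  · have := eq_one_of_sq hp hx (pr_one.mp e) h2
    rw [this, orderOf_one] at hi
    norm_num at hi

theorem invol_lift (hp : Odd p) (hx : orderOf x = p) {a : XQ x} (ha : orderOf a = 2) :
    ∃ i : ↥(centralizer ({x} : Set G)), orderOf (i : G) = 2 ∧ pr x i = a := by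
  obtain ⟨c, rfl⟩ := pr_surj x a
  have h2 : (c : G) * c ∈ zpowers x := by
    apply pr_one (c := c * c) |>.mp
    rw [map_mul, ← pow_two, ← ha, pow_orderOf_eq_one]
  refine ⟨c ^ p, ?_, ?_⟩
  · refine orderOf_eq_prime ?_ ?_
    · rw [SubmonoidClass.coe_pow, ← pow_mul, mul_comm, pow_mul, pow_two]
      exact pow_p hx h2
    · intro e
      obtain ⟨m, hm⟩ := hp
      have h1 : pr x c ^ p = 1 := by
        rw [← map_pow, show c ^ p = 1 from Subtype.ext (by simpa using e), map_one]
      rw [hm, pow_succ, pow_mul, ← ha, pow_orderOf_eq_one, one_pow, one_mul] at h1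
      rw [h1, orderOf_one] at ha
      norm_num at ha
  · obtain ⟨m, hm⟩ := hp
    rw [map_pow, hm, pow_succ, pow_mul, ← ha, pow_orderOf_eq_one, one_pow, one_mul]

theorem conj_lift (hp : Odd p) (hx : orderOf x = p) {i j c : ↥(centralizer ({x} : Set G))}
    (hi : orderOf (i : G) = 2) (hj : orderOf (j : G) = 2)
    (e : pr x c * pr x i * (pr x c)⁻¹ = pr x j) : (c : G) * i * (c : G)⁻¹ = j := by
  rw [← map_inv, ← map_mul, ← map_mul] at e
  obtain ⟨n, hn, e'⟩ := pr_eq e
  have e'' : (j : G) = (c : G) * i * (c : G)⁻¹ * n := e'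
  have hi2 : (i : G) * i = 1 := by rw [← pow_two, ← hi, pow_orderOf_eq_one]
  have hj2 : (j : G) * j = 1 := by rw [← pow_two, ← hj, pow_orderOf_eq_one]
  have hc : Commute n ((c : G) * i * (c : G)⁻¹) :=
    (commute_N (c := c * i * c⁻¹) hn).symm
  have hn2 : n * n = 1 := by
    rw [e''] at hj2
    calc n * n = ((c : G) * i * (c : G)⁻¹ * ((c : G) * i * (c : G)⁻¹)) * (n * n) := by
          rw [conj_mul, hi2, mul_one, mul_inv_cancel, one_mul]
      _ = (c : G) * i * (c : G)⁻¹ * (((c : G) * i * (c : G)⁻¹) * n) * n := by group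
      _ = (c : G) * i * (c : G)⁻¹ * (n * ((c : G) * i * (c : G)⁻¹)) * n := by rw [hc.eq]
      _ = 1 := by rw [← hj2]; group
  rw [e'', eq_one_of_sq hp hx hn hn2, mul_one]

theorem commute_lift (hp : Odd p) (hx : orderOf x = p) {i c : ↥(centralizer ({x} : Set G))}
    (hi : orderOf (i : G) = 2) (e : pr x c * pr x i = pr x i * pr x c) :
    (c : G) * i = i * c :=
  mul_inv_eq_iff_eq_mul.mp (conj_lift hp hx hi hi (mul_inv_eq_iff_eq_mul.mpr e))

theorem card_cent (hp : Odd p) (hx : orderOf x = p) {i : ↥(centralizer ({x} : Set G))}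
    (hi : orderOf (i : G) = 2) :
    Nat.card ↥(centralizer ({pr x i} : Set (XQ x))) * p =
      Nat.card ↥(centralizer ({x} : Set G) ⊓ centralizer ({(i : G)} : Set G)) := by
  set A := centralizer ({i} : Set ↥(centralizer ({x} : Set G)))
  have hmap : A.map (pr x) = centralizer ({pr x i} : Set (XQ x)) := by
    ext a
    rw [mem_centralizer_singleton_iff]
    constructor
    · rintro ⟨c, hc, rfl⟩
      rw [← map_mul, ← map_mul, mem_centralizer_singleton_iff.mp hc]
    · intro ha
      obtain ⟨c, rfl⟩ := pr_surj x a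
      exact ⟨c, mem_centralizer_singleton_iff.mpr (Subtype.ext (commute_lift hp hx hi ha)), rfl⟩
  have hA : Nat.card A = Nat.card ↥(centralizer ({x} : Set G) ⊓ centralizer ({(i : G)} : Set G)) := by
    rw [Nat.card_congr (equivMapOfInjective A _ (centralizer ({x} : Set G)).subtype_injective).toEquiv]
    congr 2
    ext c
    constructor
    · rintro ⟨d, hd, rfl⟩
      exact ⟨d.2, mem_centralizer_singleton_iff.mpr
        (congrArg Subtype.val (mem_centralizer_singleton_iff.mp hd))⟩
    · rintro ⟨h1, h2⟩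
      exact ⟨⟨c, h1⟩, mem_centralizer_singleton_iff.mpr
        (Subtype.ext (mem_centralizer_singleton_iff.mp h2)), rfl⟩
  have hle : Nx x ≤ A := fun n hn =>
    mem_centralizer_singleton_iff.mpr (Subtype.ext (commute_N (c := i) (mem_subgroupOf.mp hn)).eq.symm)
  rw [← hA, ← hmap]
  have h1 := ((pr x).domRestrict A).ker.card_mul_index
  rw [index_ker, MonoidHom.domRestrict_range] at h1
  have h2 : Nat.card ((pr x).domRestrict A).ker = p := by
    rw [MonoidHom.ker_domRestrict, QuotientGroup.ker_mk',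
      Nat.card_congr (subgroupOfEquivOfLe hle).toEquiv, card_Nx hx]
  rw [h2] at h1
  rw [← h1, mul_comm]

end Cfsg.Agent.H55.Suz.CentQuot
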