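import Mathlib

/-!
Four involutions generating the alternating group of degree six, and facts on the alternating
group of degree five.
-/

set_option autoImplicit false
set_option maxRecDepth 20000
set_option synthInstance.maxSize 4000
set_option synthInstance.maxHeartbeats 400000

namespace Cfsg.Agent.H55.Suz.Six

open Equiv

/-- The first generator. -/
def a6 : alternatingGroup (Fin 6) := ⟨swap 0 1 * swap 2 3, Equiv.Perm.mem_alternatingGroup.2 (by decide)⟩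
/-- The second generator. -/
def b6 : alternatingGroup (Fin 6) := ⟨swap 0 2 * swap 1 4, Equiv.Perm.mem_alternatingGroup.2 (by decide)⟩
/-- The third generator. -/
def f6 : alternatingGroup (Fin 6) := ⟨swap 2 3 * swap 4 5, Equiv.Perm.mem_alternatingGroup.2 (by decide)⟩
/-- The fourth generator. -/
def g6 : alternatingGroup (Fin 6) := ⟨swap 0 2 * swap 1 3, Equiv.Perm.mem_alternatingGroup.2 (by decide)⟩

theorem rels : a6 * a6 = 1 ∧ b6 * b6 = 1 ∧ f6 * f6 = 1 ∧ g6 * g6 = 1 ∧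
    (a6 * b6) ^ 5 = 1 ∧ (b6 * f6) ^ 3 = 1 ∧ (b6 * g6) ^ 3 = 1 ∧ (f6 * g6) ^ 4 = 1 ∧
    f6 * g6 * (f6 * g6) = a6 ∧ (b6 * f6 * g6) ^ 5 = 1 ∧ a6 * f6 = f6 * a6 ∧ a6 * g6 = g6 * a6 := by
  decide

theorem ne : a6 ≠ 1 ∧ b6 ≠ 1 ∧ f6 ≠ 1 ∧ g6 ≠ 1 ∧ a6 * b6 ≠ 1 ∧ a6 * b6 ≠ b6 * a6 := by decide

theorem fix_eq : ∀ x : alternatingGroup (Fin 6),
    x * a6 = a6 * x → x * f6 = f6 * x → x * g6 = g6 * x → x = 1 ∨ x = a6 := by decide +kernel

theorem fix_all : ∀ x : alternatingGroup (Fin 6),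
    x * a6 = a6 * x → x * b6 = b6 * x → x = 1 := by decide +kernel

theorem partner : ∀ b : alternatingGroup (Fin 6), b * b = 1 → (a6 * b) ^ 5 = 1 →
    (b * f6) ^ 3 = 1 → (b * g6) ^ 3 = 1 → (b * f6 * g6) ^ 5 = 1 →
    b = b6 ∨ b = a6 * b6 * a6 ∨ ∀ x : alternatingGroup (Fin 6), x * (a6 * b6) * x⁻¹ ≠ a6 * b := by
  decide +kernel

/-- The image of `t`. -/
def t5 : alternatingGroup (Fin 5) := ⟨swap 0 1 * swap 2 3, Equiv.Perm.mem_alternatingGroup.2 (by decide)⟩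
/-- Another element of the four-group. -/
def v5 : alternatingGroup (Fin 5) := ⟨swap 0 3 * swap 1 2, Equiv.Perm.mem_alternatingGroup.2 (by decide)⟩
/-- The element of order three fixing the four-group's orbit structure. -/
def Y5 : alternatingGroup (Fin 5) := ⟨swap 0 1 * swap 1 2, Equiv.Perm.mem_alternatingGroup.2 (by decide)⟩
/-- The element moving the fifth point. -/
def d5 : alternatingGroup (Fin 5) := ⟨swap 0 1 * swap 3 4, Equiv.Perm.mem_alternatingGroup.2 (by decide)⟩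

theorem five_rels : t5 * t5 = 1 ∧ d5 * d5 = 1 ∧ Y5 ^ 3 = 1 ∧ Y5 ≠ 1 ∧ (d5 * t5) ^ 3 = 1 ∧
    (Y5 * t5) ^ 3 = 1 ∧ (Y5⁻¹ * t5) ^ 3 = 1 ∧ Y5 * t5 * Y5⁻¹ = v5 ∧ Y5 * v5 * Y5⁻¹ = t5 * v5 ∧
    t5 * v5 = v5 * t5 ∧ (d5 * Y5 * t5) ^ 5 = 1 ∧ d5 * Y5 * t5 ≠ 1 := by decide

theorem five_conj : ∀ x : alternatingGroup (Fin 5), x * x = 1 → x ≠ 1 →
    ∃ p : alternatingGroup (Fin 5), p * x * p⁻¹ = t5 := by decide +kernel

theorem five_cent : ∀ x : alternatingGroup (Fin 5), x * t5 = t5 * x →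
    x = 1 ∨ x = t5 ∨ x = v5 ∨ x = t5 * v5 := by decide +kernel

/-- The point stabiliser. -/
def Fix4 (x : alternatingGroup (Fin 5)) : Prop := (x : Equiv.Perm (Fin 5)) 4 = 4

instance (x : alternatingGroup (Fin 5)) : Decidable (Fix4 x) := by unfold Fix4; infer_instance

theorem five_stab : Fix4 t5 ∧ Fix4 v5 ∧ Fix4 (t5 * v5) ∧ Fix4 Y5 ∧ ¬ Fix4 (d5 * t5 * d5) := by decide

theorem five_fix : ∀ x : alternatingGroup (Fin 5), Fix4 x → Fix4 (d5 * x * d5) →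
    x = 1 ∨ x = Y5 ∨ x = Y5⁻¹ := by decide +kernel

theorem five_klein : (Y5 * t5 ≠ t5 * Y5) ∧ (Y5 * v5 ≠ v5 * Y5) ∧
    (Y5 * (t5 * v5) ≠ t5 * v5 * Y5) := by decide

theorem five_A4 : ∀ x : alternatingGroup (Fin 5), Fix4 x →
    ∃ v ∈ [1, t5, v5, t5 * v5], ∃ y ∈ [1, Y5, Y5⁻¹], x = v * y := by decide +kernel

theorem point_fix : ∀ p Y : Equiv.Perm (Fin 5), p * p = 1 → Y ^ 3 = 1 →
    p * (Y * p * Y⁻¹) = Y * p * Y⁻¹ * p → Y * (Y * p * Y⁻¹) * Y⁻¹ = p * (Y * p * Y⁻¹) →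
    ∃ i, p i = i ∧ Y i = i := by decide +kernel

end Cfsg.Agent.H55.Suz.Six
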