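import Cfsg.Agent.H55.Suz.SylowFive
import Cfsg.Agent.H55.Suz.SixModel
import Cfsg.Agent.S0497

/-!
The centraliser of `g` is `⟨g⟩ × X` with `X` alternating of degree six, four generators placed with
`z` first.
-/

set_option autoImplicit false
set_option linter.unusedSectionVars false
set_option linter.style.haveILetI false

namespace Cfsg.Agent.H55.Suz

open Cfsg.Agent.H73.Suz Subgroup

variable {G : Type*} [Group G] [Finite G]

open scoped IsMulCommutative in
/-- A central element of order five in a group of order 1800 with commutative Sylow 5-subgroup lies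
outside the commutator subgroup. -/
theorem central_five_not_comm {C : Type*} [Group C] [Finite C] (hC : Nat.card C = 1800) {g : C}
    (hg : orderOf g = 5) (hcen : ∀ c : C, c * g = g * c) : g ∉ commutator C := by
  classical
  haveI : Fact (Nat.Prime 5) := ⟨by norm_num⟩
  obtain ⟨P, hP, hgP⟩ := Sylow.exists_subgroup_card_pow_succ (p := 5) (n := 1)
    (show 5 ^ (1 + 1) ∣ Nat.card C by rw [hC]; norm_num) (H := zpowers g)
    (by rw [Nat.card_zpowers, hg, pow_one])
  haveI := IsPGroup.isMulCommutative_of_card_eq_prime_sq (p := 5) (G := P) (by rw [hP])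
  have hidx : P.index = 72 := by
    have := P.card_mul_index
    rw [hP, hC] at this
    omega
  intro hmem
  have h1 : MonoidHom.transfer (MonoidHom.id P) g = 1 :=
    MonoidHom.mem_ker.mp (Abelianization.commutator_subset_ker _ hmem)
  have hkey : ∀ (k : ℕ) (g₀ : C), g₀⁻¹ * g ^ k * g₀ ∈ P → g₀⁻¹ * g ^ k * g₀ = g ^ k := fun k g₀ _ => by
    rw [mul_assoc, ← ((show Commute g₀ g from hcen g₀).pow_right k).eq, inv_mul_cancel_left]
  rw [MonoidHom.transfer_eq_pow (MonoidHom.id P) g hkey] at h1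
  have h2 : g ^ P.index = 1 := congrArg Subtype.val h1
  rw [hidx] at h2
  have := hg ▸ orderOf_dvd_of_pow_eq_one h2
  norm_num at this

/-- The four generators in `C(g)`. -/
structure Quad (z : G) (Q : Subgroup G) (g : G) where
  ψ : alternatingGroup (Fin 6) →* G
  inj : Function.Injective ψ
  ha : ψ Six.a6 = z
  fQ : ψ Six.f6 ∈ Q
  gQ : ψ Six.g6 ∈ Q
  comm : ∀ x, ψ x * g = g * ψ x
  decomp : ∀ c : G, c * g = g * c → ∃ x, ∃ n ∈ zpowers g, c = ψ x * n
  trivial : ∀ x, ψ x ∈ zpowers g → x = 1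

namespace Five

variable {z : G} {Q : Subgroup G} {h : Setup z Q} {s' w' g r : G} (D : Five h s' w' g r)

include D

/-- An element of `C(z) ∩ C(g)` of order dividing four lies in `Q`. -/
theorem mem_Q_of_four {c : G} (hc : c * z = z * c) (hcg : c * g = g * c) (h4 : c ^ 4 = 1) :
    c ∈ D.Dg := by
  obtain ⟨q, i, hq, hqg, e⟩ := D.cent hc hcg
  rw [e, (show Commute q (g ^ i) from (show Commute q g from hqg).pow_right i).mul_pow,
    h.pow_four hq, one_mul] at h4
  have hgi : g ^ i = 1 := orderOf_eq_one_iff.mp (Nat.eq_one_of_dvd_coprimes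
    (by norm_num : Nat.Coprime 4 5) (orderOf_dvd_of_pow_eq_one h4)
    (D.ord ▸ orderOf_dvd_of_mem_zpowers (pow_mem (mem_zpowers g) i)))
  rw [e, hgi, mul_one]
  exact ⟨hq, (D.mem_C q).mpr hqg⟩

theorem exists_quad (h1800 : Nat.card (centralizer ({g} : Set G)) = 1800) :
    Nonempty (Quad z Q g) := by
  classical
  haveI hs := D.X_simple
  have hcard : Nat.card (CentQuot.XQ g) = 360 := by
    have := CentQuot.card_mul D.ord (x := g)
    rw [h1800] at this
    omega
  set C := centralizer ({g} : Set G)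
  set gC : C := ⟨g, (D.mem_C g).mpr rfl⟩
  have hgC : gC ∉ commutator C := central_five_not_comm h1800
    (by rw [← Subgroup.orderOf_coe]; exact D.ord) fun c => Subtype.ext ((D.mem_C _).mp c.2)
  have hsurj : Function.Surjective ((CentQuot.pr g).comp (commutator C).subtype) := by
    rw [← MonoidHom.range_eq_top, MonoidHom.range_comp, range_subtype, _root_.commutator_def,
      map_commutator, map_top_of_surjective _ (CentQuot.pr_surj g), ← _root_.commutator_def]
    refine (inferInstance : (commutator (CentQuot.XQ g)).Normal).eq_bot_or_eq_top.resolve_left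
      fun hb => ?_
    haveI : IsMulCommutative (CentQuot.XQ g) :=
      ⟨⟨fun a b => by
        have := commutator_mem_commutator (mem_top a) (mem_top b)
        rw [← _root_.commutator_def, hb, mem_bot] at this
        exact commutatorElement_eq_one_iff_mul_comm.mp this⟩⟩
    letI : CommGroup (CentQuot.XQ g) :=
      { (inferInstance : Group (CentQuot.XQ g)) with
        mul_comm := fun a b => IsMulCommutative.is_comm.comm a b }
    have := (IsSimpleGroup.prime_card (α := CentQuot.XQ g))
    rw [hcard] at this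
    norm_num at this
  have hinj : Function.Injective ((CentQuot.pr g).comp (commutator C).subtype) := by
    rw [injective_iff_map_eq_one]
    intro x hx
    by_contra hne
    have hmem : ((x : C) : G) ∈ zpowers g := CentQuot.pr_one.mp hx
    haveI : Fact (Nat.Prime 5) := ⟨by norm_num⟩
    obtain ⟨k, hk⟩ := mem_zpowers_iff.mp
      (show g ∈ zpowers ((x : C) : G) by
        have he : zpowers ((x : C) : G) = zpowers g :=
          eq_of_le_of_card_ge (zpowers_le.mpr hmem) (by
            rw [Nat.card_zpowers, Nat.card_zpowers, D.ord]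
            rcases (Nat.dvd_prime (by norm_num)).mp
              (D.ord ▸ orderOf_dvd_of_mem_zpowers hmem) with e | e
            · exact absurd (Subtype.ext (Subtype.ext (orderOf_eq_one_iff.mp e))) hne
            · omega)
        rw [he]; exact mem_zpowers g)
    exact hgC (by
      have e : gC = (x : C) ^ k := Subtype.ext (by simpa using hk.symm)
      rw [e]; exact zpow_mem x.2 k)
  obtain ⟨e⟩ := S0497.result hcard
  let π : commutator C ≃* CentQuot.XQ g := MulEquiv.ofBijective _ ⟨hinj, hsurj⟩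
  let ψ0 : alternatingGroup (Fin 6) →* C :=
    (commutator C).subtype.comp (e.symm.trans π.symm).toMonoidHom
  have hψπ : ∀ x, CentQuot.pr g (ψ0 x) = e.symm x := fun x => π.apply_symm_apply (e.symm x)
  -- move the image of `z` to `a6`
  have h5 : Odd 5 := by decide
  set zC : C := ⟨z, (D.mem_C z).mpr D.gz.symm⟩
  have hζ := CentQuot.pr_orderOf h5 D.ord (i := zC) h.hzo
  have hα : orderOf (e.symm Six.a6) = 2 := by
    rw [MulEquiv.orderOf_eq]
    exact orderOf_eq_prime (by rw [pow_two]; exact Six.rels.1) Six.ne.1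
  obtain ⟨i, hi, hiα⟩ := CentQuot.invol_lift h5 D.ord hα
  obtain ⟨u, hu, hui⟩ := D.invol_conj ((D.mem_C _).mp i.2) hi
  set uC : C := ⟨u, (D.mem_C u).mpr hu⟩
  obtain ⟨x0, hx0⟩ : ∃ x0, CentQuot.pr g (ψ0 x0) = (CentQuot.pr g uC)⁻¹ :=
    ⟨e (CentQuot.pr g uC)⁻¹, by rw [hψπ, e.symm_apply_apply]⟩
  let ψ : alternatingGroup (Fin 6) →* G :=
    C.subtype.comp (ψ0.comp (MulAut.conj x0).toMonoidHom)
  have hψmem : ∀ x, ψ x ∈ C := fun x => (ψ0 _).2
  have hψc : ∀ x, ψ x * g = g * ψ x := fun x => (D.mem_C _).mp (hψmem x)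
  have hψinj : Function.Injective ψ := by
    intro x y exy
    have h1 : ψ0 (x0 * x * x0⁻¹) = ψ0 (x0 * y * x0⁻¹) := Subtype.ext exy
    have h2 := congrArg (CentQuot.pr g) h1
    rw [hψπ, hψπ] at h2
    exact mul_left_cancel (mul_right_cancel (e.symm.injective h2))
  have hψ4 : ∀ x, x ^ 4 = 1 → ψ x ^ 4 = 1 := fun x hx => by rw [← map_pow, hx, map_one]
  have ha2 : orderOf (ψ Six.a6) = 2 := orderOf_eq_prime (by
    rw [pow_two, ← map_mul, Six.rels.1, map_one])
    fun e1 => Six.ne.1 (hψinj (by rw [e1, map_one]))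
  have ha : ψ Six.a6 = z := by
    have h1 : CentQuot.pr g (ψ0 (x0 * Six.a6 * x0⁻¹)) = CentQuot.pr g zC := by
      rw [map_mul, map_mul, map_inv, map_mul, map_mul, map_inv, hx0, hψπ, ← hiα, inv_inv,
        ← map_inv, ← map_mul, ← map_mul]
      refine congrArg _ (Subtype.ext ?_)
      show u⁻¹ * (i : G) * u = z
      rw [← hui]; group
    have := CentQuot.conj_lift h5 D.ord (i := ⟨ψ Six.a6, hψmem _⟩) (j := zC) (c := 1) ha2 h.hzo
      (by rw [map_one, one_mul, inv_one, mul_one]; exact h1)
    simpa using this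
  have hcz : ∀ x, x * Six.a6 = Six.a6 * x → ψ x * z = z * ψ x := fun x hx => by
    rw [← ha, ← map_mul, ← map_mul, hx]
  obtain ⟨-, -, hf, hg, -, -, -, -, -, -, haf, hag⟩ := Six.rels
  refine ⟨⟨ψ, hψinj, ha, ?_, ?_, hψc, ?_, ?_⟩⟩
  · exact (D.mem_Q_of_four (hcz _ haf.symm) (hψc _)
      (hψ4 _ (by rw [show (4 : ℕ) = 2 * 2 from rfl, pow_mul, pow_two Six.f6, hf, one_pow]))).1
  · exact (D.mem_Q_of_four (hcz _ hag.symm) (hψc _)
      (hψ4 _ (by rw [show (4 : ℕ) = 2 * 2 from rfl, pow_mul, pow_two Six.g6, hg, one_pow]))).1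
  · intro c hc
    set cC : C := ⟨c, (D.mem_C c).mpr hc⟩
    refine ⟨x0⁻¹ * e (CentQuot.pr g cC) * x0, ?_⟩
    have h1 : CentQuot.pr g (ψ0 (e (CentQuot.pr g cC))) = CentQuot.pr g cC := by
      rw [hψπ, e.symm_apply_apply]
    obtain ⟨n, hn, e1⟩ := CentQuot.pr_eq h1
    refine ⟨n, hn, e1.trans ?_⟩
    congr 2
    show ψ0 _ = ψ0 _
    congr 1
    show _ = x0 * (x0⁻¹ * e (CentQuot.pr g cC) * x0) * x0⁻¹
    group
  · intro x hx
    apply hψinj
    rw [map_one]
    have h1 : CentQuot.pr g (ψ0 (x0 * x * x0⁻¹)) = 1 := CentQuot.pr_one.mpr hx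
    rw [hψπ, map_eq_one_iff e.symm e.symm.injective, conj_eq_one_iff] at h1
    rw [h1, map_one]

end Five

end Cfsg.Agent.H55.Suz
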