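import Cfsg.Agent.H55.Suz.Fusion
import Cfsg.Agent.Cores.GlaubermanZStar

/-!
The four-group `{1, t, v, t v}` is normal in `C(t)`.
-/

set_option autoImplicit false
set_option linter.unusedSectionVars false
set_option linter.style.haveILetI false

namespace Cfsg.Agent.H55.Suz

open Cfsg.Agent.H73.Suz Cfsg.Agent.H92.ExtraForm Subgroup

/-- An involution acting without fixed points on a group of odd order inverts it. -/
theorem inverts_of_fpf {X : Type*} [Group X] [Finite X] {N : Subgroup X} (hodd : Odd (Nat.card N))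
    {x : X} (hx : x * x = 1) (hxN : ∀ n ∈ N, x * n * x⁻¹ ∈ N)
    (hfix : ∀ n ∈ N, x * n * x⁻¹ = n → n = 1) {n : X} (hn : n ∈ N) : x * n * x⁻¹ = n⁻¹ := by
  let f : N → N := fun m => ⟨(m : X)⁻¹ * (x * m * x⁻¹), mul_mem (inv_mem m.2) (hxN m m.2)⟩
  have hinj : Function.Injective f := by
    intro a b e
    have e' : (a : X)⁻¹ * (x * a * x⁻¹) = (b : X)⁻¹ * (x * b * x⁻¹) := congrArg Subtype.val e
    have hba : x * ((b : X) * (a : X)⁻¹) * x⁻¹ = (b : X) * (a : X)⁻¹ := by
      calc x * ((b : X) * (a : X)⁻¹) * x⁻¹ = b * ((b : X)⁻¹ * (x * b * x⁻¹)) * (x * a * x⁻¹)⁻¹ := by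
            group
        _ = b * ((a : X)⁻¹ * (x * a * x⁻¹)) * (x * a * x⁻¹)⁻¹ := by rw [e']
        _ = (b : X) * (a : X)⁻¹ := by group
    exact (Subtype.ext (mul_inv_eq_one.mp (hfix _ (mul_mem b.2 (inv_mem a.2)) hba))).symm
  obtain ⟨m, hm⟩ := Finite.injective_iff_surjective.mp hinj ⟨n, hn⟩
  have hm' : (m : X)⁻¹ * (x * m * x⁻¹) = n := congrArg Subtype.val hm
  have hxi : x⁻¹ = x := inv_eq_of_mul_eq_one_left hx
  have hxx : ∀ y : X, x * (x * y * x⁻¹) * x⁻¹ = y := fun y => by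
    rw [show x * (x * y * x⁻¹) * x⁻¹ = x * x * y * (x * x)⁻¹ by group, hx]; group
  rw [← hm']
  calc x * ((m : X)⁻¹ * (x * m * x⁻¹)) * x⁻¹
      = (x * m * x⁻¹)⁻¹ * (x * (x * m * x⁻¹) * x⁻¹) := by group
    _ = ((m : X)⁻¹ * (x * m * x⁻¹))⁻¹ := by rw [hxx]; group

/-- A group of odd order on which a four-group acts without fixed points is trivial. -/
theorem eq_bot_of_fpf {X : Type*} [Group X] [Finite X] {N : Subgroup X} [hN : N.Normal]
    (hodd : Odd (Nat.card N)) {x y : X} (hx : x * x = 1) (hy : y * y = 1) (hxy : x * y = y * x)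
    (h1 : ∀ n ∈ N, x * n * x⁻¹ = n → n = 1) (h2 : ∀ n ∈ N, y * n * y⁻¹ = n → n = 1)
    (h3 : ∀ n ∈ N, x * y * n * (x * y)⁻¹ = n → n = 1) : N = ⊥ := by
  refine (eq_bot_iff_forall _).mpr fun n hn => h3 n hn ?_
  calc x * y * n * (x * y)⁻¹ = x * (y * n * y⁻¹) * x⁻¹ := by group
    _ = x * n⁻¹ * x⁻¹ := by rw [inverts_of_fpf hodd hy (fun m hm => hN.conj_mem m hm y) h2 hn]
    _ = (x * n * x⁻¹)⁻¹ := by group
    _ = n := by rw [inverts_of_fpf hodd hx (fun m hm => hN.conj_mem m hm x) h1 hn, inv_inv]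

theorem eq_one_of_odd_pow {X : Type*} [Group X] {N : Subgroup X} (hodd : Odd (Nat.card N))
    {n : X} (hn : n ∈ N) {k : ℕ} (hk : n ^ 2 ^ k = 1) : n = 1 := by
  have h1 : orderOf n ∣ Nat.card N := Subgroup.orderOf_dvd_natCard N hn
  have h2 : orderOf n ∣ 2 ^ k := orderOf_dvd_of_pow_eq_one hk
  exact orderOf_eq_one_iff.mp (Nat.eq_one_of_dvd_coprimes
    ((Nat.coprime_two_left.mpr hodd).pow_left k) h2 h1)

theorem odd_of_coprime_two {n : ℕ} (h : n.Coprime 2) : Odd n := Nat.coprime_two_right.mp h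

namespace Frame

variable {G : Type*} [Group G] [Finite G] {z : G} {Q : Subgroup G}
variable {h : Setup z Q} {s w t om hh : G} (F : Frame h s w t om hh)

include F

local notation "W[" x ", " p "]" => IsW h s w x p

/-- Elements of `C(t)` centralising a conjugate of `z` have `2`-power order. -/
theorem two_power_of_comm {y c : G} (hyt : y * t = t * y) (hyz : IsConj y z)
    (hct : c * t = t * c) (hcy : c * y = y * c) : ∃ k : ℕ, c ^ 2 ^ k = 1 := by
  obtain ⟨f, hft, hfy⟩ := F.z_class hyt hyz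
  have hcT : f * c * f⁻¹ ∈ F.Tsub := by
    refine F.mem_T.mpr ⟨?_, ?_⟩
    · rw [← hfy, conj_mul, conj_mul, hcy]
    · have hft' : f * t * f⁻¹ = t := mul_inv_eq_iff_eq_mul.mpr hft
      rw [← hft', conj_mul, conj_mul, hct]
  obtain ⟨k, hk⟩ := F.T_two ⟨_, hcT⟩
  refine ⟨k, ?_⟩
  have := congrArg Subtype.val hk
  simp only [SubmonoidClass.coe_pow, conj_pow, OneMemClass.coe_one, conj_eq_one_iff] at this
  exact this

theorem zs_type : IsConj z z ∧ IsConj s z ∧ IsConj (z * s) z := by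
  refine ⟨IsConj.refl z, F.P.conj_Q F.P.hs F.P.ss F.P.s_ne, F.P.conj_Q (mul_mem h.hzQ F.P.hs) ?_ ?_⟩
  · calc z * s * (z * s) = z * (s * z) * s := by group
      _ = 1 := by rw [F.P.sz, ← mul_assoc, h.zz, one_mul, F.P.ss]
  · intro e
    exact F.P.s_ne_z ((inv_eq_of_mul_eq_one_right e).symm.trans h.z_inv)

theorem t_mul_not_z {x : G} (hx : W[x, 0]) (hx2 : x * x = 1) : ¬ IsConj (t * x) z := by
  have hW : W[t * x, tb] := by simpa using isW_mul F.P F.ht hx
  have h2 : t * x * (t * x) = 1 := by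
    have hc : x * t = t * x := by
      obtain ⟨i, j, rfl⟩ := isW_eq_tt F.P hx
      exact (isW_commute_tt F.P F.ht i j).eq.symm
    calc t * x * (t * x) = t * (x * t) * x := by group
      _ = 1 := by rw [hc, ← mul_assoc, F.t2, one_mul, hx2]
  have h1 : t * x ≠ 1 := fun e => tb_ne.1 (isW_unique F.P hW (e.symm ▸ isW_one F.P))
  intro e
  have := (F.isConj_z_iff hW h2 h1).mp e
  rw [qU_tb.1] at this
  exact one_ne_zero this

/-- Conjugation by elements of `C(t)` preserves `{v, t v}`. -/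
theorem v_normal {g : G} (hg : g * t = t * g) :
    g * F.vv * g⁻¹ = F.vv ∨ g * F.vv * g⁻¹ = t * F.vv := by
  classical
  haveI : Fact (Nat.Prime 2) := ⟨Nat.prime_two⟩
  set H := centralizer ({t} : Set G) with hH
  set tH : H := ⟨t, mem_centralizer_singleton_iff.mpr rfl⟩
  set N := zpowers tH with hN
  haveI hNn : N.Normal := ⟨fun n hn x => by
    obtain ⟨k, rfl⟩ := mem_zpowers_iff.mp hn
    have hc : Commute x (tH ^ k) :=
      (show Commute x tH from Subtype.ext (mem_centralizer_singleton_iff.mp x.2)).zpow_right k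
    rw [hc.eq, mul_inv_cancel_right]
    exact hn⟩
  have htH : orderOf tH = 2 := by rw [← Subgroup.orderOf_coe]; exact ord_two F F.t2 F.t_ne
  have hmemN : ∀ x : H, x ∈ N ↔ (x : G) = 1 ∨ (x : G) = t := by
    intro x
    rw [hN, mem_zpowers_iff]
    constructor
    · rintro ⟨k, rfl⟩
      rw [← zpow_mod_orderOf, htH]
      rcases Int.emod_two_eq_zero_or_one k with e | e
      · left; rw [show ((2 : ℕ) : ℤ) = 2 from rfl, e, zpow_zero]; rfl
      · right; rw [show ((2 : ℕ) : ℤ) = 2 from rfl, e, zpow_one]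
    · rintro (e | e)
      · exact ⟨0, Subtype.ext (by rw [zpow_zero]; exact e.symm)⟩
      · exact ⟨1, Subtype.ext (by rw [zpow_one]; exact e.symm)⟩
  set π := QuotientGroup.mk' N
  have hπ : Function.Surjective π := QuotientGroup.mk'_surjective N
  have hπeq : ∀ a b : H, π a = π b → (b : G) = a ∨ (b : G) = a * t := by
    intro a b e
    have := (hmemN _).mp (QuotientGroup.eq.mp e)
    rcases this with e' | e'
    · exact Or.inl (inv_mul_eq_one.mp (by simpa using e')).symm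
    · exact Or.inr (eq_mul_of_inv_mul_eq (by simpa using e'))
  have hTH : F.Tsub ≤ H := fun x hx => hx.2
  obtain ⟨S₀, hS₀⟩ := (IsPGroup.of_equiv F.T_two (subgroupOfEquivOfLe hTH).symm).exists_le_sylow
  have hT : ∀ x : H, x ∈ (S₀ : Subgroup H) ↔ (x : G) ∈ F.Tsub := by
    have hU := F.T_max (U := (S₀ : Subgroup H).map H.subtype) (map_subtype_le _)
      (S₀.isPGroup'.map _) (fun y hy => ⟨⟨y, hTH hy⟩, hS₀ (show (⟨y, hTH hy⟩ : H) ∈
        F.Tsub.subgroupOf H from hy), rfl⟩)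
    intro x
    refine ⟨fun hx => hU ▸ ⟨x, hx, rfl⟩, fun hx => hS₀ hx⟩
  set P := S₀.mapSurjective hπ with hP
  set vH : H := ⟨F.vv, mem_centralizer_singleton_iff.mpr F.tv_comm.symm⟩
  have hvne : π vH ≠ 1 := fun e => by
    rcases (hmemN _).mp ((QuotientGroup.eq_one_iff vH).mp e) with e' | e'
    · exact F.v_ne e'
    · have : W[t, vb] := e' ▸ F.hv
      exact tb_ne.2.2.2 (isW_unique F.P F.ht this)
  have hvord : orderOf (π vH) = 2 := orderOf_eq_prime (by
    rw [← map_pow, pow_two, show vH * vH = 1 from Subtype.ext F.v2, map_one]) hvne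
  have hvP : π vH ∈ (P : Subgroup (H ⧸ N)) := by
    rw [hP, Sylow.coe_mapSurjective]
    exact ⟨vH, (hT _).mpr (F.S_le_T F.v_mem_S), rfl⟩
  have hiso : ∀ x : H ⧸ N, x * π vH * x⁻¹ ∈ (P : Subgroup (H ⧸ N)) → x * π vH * x⁻¹ = π vH := by
    intro x hx
    obtain ⟨a, rfl⟩ := hπ x
    rw [← map_inv, ← map_mul, ← map_mul, hP, Sylow.coe_mapSurjective] at hx
    obtain ⟨b, hb, hba⟩ := hx
    have hb' := (hT b).mp hb
    have hat : (a : G) * t = t * a := mem_centralizer_singleton_iff.mp a.2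
    have haT : (a : G) * F.vv * (a : G)⁻¹ ∈ F.Tsub := by
      rcases hπeq b _ hba with e | e
      · rw [show (a : G) * F.vv * (a : G)⁻¹ = (b : G) from e]; exact hb'
      · rw [show (a : G) * F.vv * (a : G)⁻¹ = (b : G) * t from e]
        exact mul_mem hb' (F.S_le_T F.t_mem_S)
    rcases F.fusion hat (F.mem_T.mp haT).1 with e | e
    · rw [← map_inv, ← map_mul, ← map_mul]
      exact congrArg π (Subtype.ext e)
    · rw [← map_inv, ← map_mul, ← map_mul]
      refine (QuotientGroup.eq.mpr ((hmemN _).mpr (Or.inr ?_))).symm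
      show F.vv⁻¹ * ((a : G) * F.vv * (a : G)⁻¹) = t
      rw [e, F.v_inv, F.tv_comm, ← mul_assoc, F.v2, one_mul]
  have hO : oddCore (H ⧸ N) = ⊥ := by
    rw [eq_bot_iff]
    refine sSup_le fun M hM => ?_
    obtain ⟨hMn, hMc⟩ := hM
    have hodd := odd_of_coprime_two hMc
    have hfix : ∀ y : H, (y : G) ∈ F.Ssub → W[(y : G), 0] → IsConj (y : G) z →
        ∀ n ∈ M, π y * n * (π y)⁻¹ = n → n = 1 := by
      intro y hyS hy0 hyz n hn e
      obtain ⟨c, rfl⟩ := hπ n
      rw [← map_inv, ← map_mul, ← map_mul] at e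
      have hct : (c : G) * t = t * c := mem_centralizer_singleton_iff.mp c.2
      have hyt : (y : G) * t = t * y := mem_centralizer_singleton_iff.mp y.2
      have hyy : (y : G) * y = 1 := by
        obtain ⟨i, j, hij⟩ := isW_eq_tt F.P hy0
        rw [hij, tt_self F.P]
      have hcy : (c : G) * y = y * c := by
        rcases hπeq _ _ e with e' | e'
        · have e'' : (c : G) = y * c * (y : G)⁻¹ := e'
          calc (c : G) * y = y * c * (y : G)⁻¹ * y := by rw [← e'']
            _ = y * c := by group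
        · exfalso
          have e'' : (c : G) = y * c * (y : G)⁻¹ * t := e'
          refine F.t_mul_not_z hy0 hyy ((isConj_iff.mpr ⟨(c : G)⁻¹, ?_⟩ : IsConj (y : G) (t * y)).symm.trans hyz)
          calc (c : G)⁻¹ * y * (c : G)⁻¹⁻¹ = (c : G)⁻¹ * (y * c * (y : G)⁻¹ * t) * (t⁻¹ * y) := by group
            _ = (c : G)⁻¹ * c * (t⁻¹ * y) := by rw [← e'']
            _ = t * y := by rw [inv_mul_cancel, one_mul, F.t_inv]
      obtain ⟨k, hk⟩ := F.two_power_of_comm hyt hyz hct hcy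
      exact eq_one_of_odd_pow hodd hn (k := k) (by
        rw [← map_pow, show c ^ 2 ^ k = 1 from Subtype.ext hk, map_one])
    obtain ⟨-, hsz, hzsz⟩ := F.zs_type
    set zH : H := ⟨z, mem_centralizer_singleton_iff.mpr F.t_z.symm⟩
    set sH : H := ⟨s, mem_centralizer_singleton_iff.mpr F.t_s.symm⟩
    refine le_of_eq (eq_bot_of_fpf hodd (x := π zH) (y := π sH) ?_ ?_ ?_
      (hfix zH F.z_mem_S F.isW_z (IsConj.refl z)) (hfix sH F.s_mem_S F.isW_s hsz) ?_)
    · rw [← map_mul, show zH * zH = 1 from Subtype.ext h.zz, map_one]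
    · rw [← map_mul, show sH * sH = 1 from Subtype.ext F.P.ss, map_one]
    · rw [← map_mul, ← map_mul, show zH * sH = sH * zH from Subtype.ext F.P.sz.symm]
    · rw [← map_mul]
      exact hfix (zH * sH) (mul_mem F.z_mem_S F.s_mem_S)
        (by simpa using isW_mul F.P F.isW_z F.isW_s) hzsz
  set gH : H := ⟨g, mem_centralizer_singleton_iff.mpr hg⟩
  have := Cores.glaubermanZStar P hvord hvP hiso (π gH)
  rw [hO, mem_bot] at this
  rw [← map_inv, ← map_inv, ← map_mul, ← map_mul, ← map_mul] at this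
  rcases (hmemN _).mp ((QuotientGroup.eq_one_iff _).mp this) with e | e
  · left
    have e' : F.vv * g * F.vv⁻¹ * g⁻¹ = 1 := e
    calc g * F.vv * g⁻¹ = (F.vv * g * F.vv⁻¹ * g⁻¹)⁻¹ * F.vv := by group
      _ = F.vv := by rw [e', inv_one, one_mul]
  · right
    have e' : F.vv * g * F.vv⁻¹ * g⁻¹ = t := e
    calc g * F.vv * g⁻¹ = (F.vv * g * F.vv⁻¹ * g⁻¹)⁻¹ * F.vv := by group
      _ = t * F.vv := by rw [e', F.t_inv]

end Frame

end Cfsg.Agent.H55.Suz
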