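import Cfsg.Agent.H55.Suz.CyclicNorm
import Cfsg.Agent.H55.Suz.VNormal

/-!
Sylow 5- and 7-subgroups of a simple group of order 20160 in which centralisers of involutions are
2-groups.
-/

set_option autoImplicit false
set_option linter.unusedSectionVars false
set_option linter.style.haveILetI false

namespace Cfsg.Agent.H55.Suz.CitArith

open Subgroup H65.CIT

variable {X : Type*} [Group X] [Finite X] [IsSimpleGroup X]

theorem pow_fact {p n a m : ℕ} (hp : p.Prime) (hn : n = p ^ a * m) (hm : ¬ p ∣ m) :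
    p ^ n.factorization p = p ^ a := by
  have hm0 : m ≠ 0 := fun e => hm (e ▸ dvd_zero p)
  subst hn
  rw [Nat.factorization_mul (pow_ne_zero a hp.pos.ne') hm0, Finsupp.add_apply,
    hp.factorization_pow, Finsupp.single_eq_same, Nat.factorization_eq_zero_of_not_dvd hm, add_zero]

theorem no_root_three : ∀ x : ZMod 3, x * x + 1 ≠ 0 := by decide

theorem no_root_seven : ∀ x : ZMod 7, x * x + 1 ≠ 0 := by decide

theorem ninth_root_five : ∀ a : ZMod 5, (1 : ZMod 5) = a ^ 9 → a = 1 := by decide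

theorem odd_centralizer (hC : CIT X) {g : X} (hg : Odd (orderOf g)) (hg1 : g ≠ 1) :
    Odd (Nat.card (centralizer ({g} : Set X))) := by
  rcases Nat.even_or_odd (Nat.card (centralizer ({g} : Set X))) with he | ho
  · exfalso
    haveI : Fact (Nat.Prime 2) := ⟨Nat.prime_two⟩
    obtain ⟨a, ha⟩ := exists_prime_orderOf_dvd_card' 2 he.two_dvd
    have ha' : orderOf (a : X) = 2 := by rw [Subgroup.orderOf_coe, ha]
    refine hg1 (eq_one_of_mem_two (hC (a : X) ha') ?_ hg)
    exact mem_centralizer_singleton_iff.mpr (mem_centralizer_singleton_iff.mp a.2).symm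
  · exact ho

/-- An involution of the normaliser outside the centraliser inverts the centraliser. -/
theorem invert_centralizer (hC : CIT X) {g : X} (hg : Odd (orderOf g)) (hg1 : g ≠ 1) {f : X}
    (hf : f ∈ normalizer ((zpowers g : Subgroup X) : Set X)) (hf2 : f * f = 1)
    (hfC : f ∉ centralizer ({g} : Set X)) :
    ∀ c ∈ centralizer ({g} : Set X), f * c * f⁻¹ = c⁻¹ := by
  have hf1 : f ≠ 1 := fun e => hfC (e ▸ one_mem _)
  have hford : orderOf f = 2 := orderOf_eq_prime (by rw [pow_two, hf2]) hf1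
  intro c hc
  refine inverts_of_fpf (odd_centralizer hC hg hg1) hf2 (fun n hn => ?_) (fun n hn e => ?_) hc
  · obtain ⟨i, hi⟩ := CyclicNorm.exists_pow ((normalizer _).inv_mem hf)
    rw [mem_centralizer_singleton_iff] at hn ⊢
    have hn' : Commute n (g ^ i) := (show Commute n g from hn).pow_right i
    calc f * n * f⁻¹ * g = f * (n * (f⁻¹ * g * f⁻¹⁻¹)) * f⁻¹ := by group
      _ = f * (f⁻¹ * g * f⁻¹⁻¹ * n) * f⁻¹ := by rw [hi, hn'.eq]
      _ = g * (f * n * f⁻¹) := by group
  · obtain ⟨k, hk⟩ := hC f hford ⟨n, mem_centralizer_singleton_iff.mpr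
      (mul_inv_eq_iff_eq_mul.mp e).symm⟩
    exact eq_one_of_odd_pow (odd_centralizer hC hg hg1) hn (k := k) (congrArg Subtype.val hk)

theorem exists_invol_normalizer {g : X} (he : Even (Nat.card (normalizer ((zpowers g : Subgroup X) : Set X))))
    (ho : Odd (Nat.card (centralizer ({g} : Set X)))) :
    ∃ f ∈ normalizer ((zpowers g : Subgroup X) : Set X), f * f = 1 ∧
      f ∉ centralizer ({g} : Set X) := by
  haveI : Fact (Nat.Prime 2) := ⟨Nat.prime_two⟩
  obtain ⟨a, ha⟩ := exists_prime_orderOf_dvd_card' 2 he.two_dvd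
  have ha' : orderOf (a : X) = 2 := by rw [Subgroup.orderOf_coe, ha]
  refine ⟨a, a.2, H65.mul_self_eq_one ha', fun hc => ?_⟩
  have := Subgroup.orderOf_dvd_natCard _ hc
  rw [ha'] at this
  exact Nat.not_even_iff_odd.mpr ho (even_iff_two_dvd.mpr this)

theorem comm_of_inverted {C : Subgroup X} {f : X} (hinv : ∀ c ∈ C, f * c * f⁻¹ = c⁻¹) {a b : X}
    (ha : a ∈ C) (hb : b ∈ C) : a * b = b * a := by
  have h1 := hinv _ (mul_mem ha hb)
  rw [← conj_mul, hinv a ha, hinv b hb, ← mul_inv_rev, inv_inj] at h1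
  exact h1.symm

theorem pow_mod_eq {g : X} {p i j : ℕ} (hg : orderOf g = p) (e : g ^ i = g ^ j) :
    (i : ZMod p) = j := by
  rw [ZMod.natCast_eq_natCast_iff, ← hg]
  exact pow_eq_pow_iff_modEq.mp e

/-- An element whose square inverts an abelian group cannot normalise its subgroup of order 3 or 7
when that is a full Sylow subgroup. -/
theorem no_square_inverts {C : Subgroup X} {f : X} (hinv : ∀ c ∈ C, f * c * f⁻¹ = c⁻¹) {e : X}
    (hee : e * e = f) (heC : ∀ c ∈ C, e * c * e⁻¹ ∈ C) {r : ℕ} (hr : r = 3 ∨ r = 7)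
    (hd : r ∣ Nat.card C) (hd2 : ¬ r ^ 2 ∣ Nat.card C) : False := by
  haveI : Fact r.Prime := ⟨by rcases hr with rfl | rfl <;> norm_num⟩
  obtain ⟨c, hc⟩ := exists_prime_orderOf_dvd_card' r hd
  have hc' : orderOf (c : X) = r := by rw [Subgroup.orderOf_coe, hc]
  set c' : C := ⟨e * c * e⁻¹, heC c c.2⟩
  have hc'o : orderOf c' = r := by
    rw [← Subgroup.orderOf_coe, H65.orderOf_conj', hc']
  have hmem : c' ∈ zpowers c := by
    by_contra hnot
    have hle : zpowers c ⊔ zpowers c' ≤ (⊤ : Subgroup C) := le_top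
    haveI : IsMulCommutative C :=
      ⟨⟨fun a b => Subtype.ext (comm_of_inverted hinv a.2 b.2)⟩⟩
    have hp : IsPGroup r (zpowers c ⊔ zpowers c' : Subgroup C) :=
      (IsPGroup.of_card (n := 1) (by rw [Nat.card_zpowers, hc, pow_one]) : IsPGroup r (zpowers c)).to_sup_of_normal_left
        (IsPGroup.of_card (n := 1) (by rw [Nat.card_zpowers, hc'o, pow_one]))
    obtain ⟨n, hn⟩ := IsPGroup.iff_card.mp hp
    have h1 : n ≤ 1 := by
      by_contra h2
      exact hd2 ((pow_dvd_pow r (by omega : 2 ≤ n)).trans (hn ▸ card_subgroup_dvd_card _))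
    have heq := eq_of_le_of_card_ge (le_sup_left : zpowers c ≤ zpowers c ⊔ zpowers c') (by
      rw [hn, Nat.card_zpowers, hc]
      exact (Nat.pow_le_pow_right (Fact.out : r.Prime).pos h1).trans_eq (pow_one r))
    exact hnot (heq ▸ (le_sup_right : zpowers c' ≤ _) (mem_zpowers c'))
  rw [← mem_powers_iff_mem_zpowers, Submonoid.mem_powers_iff] at hmem
  obtain ⟨i, hi⟩ := hmem
  have hi' : e * (c : X) * e⁻¹ = (c : X) ^ i := (congrArg Subtype.val hi).symm
  have h2 : (c : X) ^ (i * i + 1) = 1 := by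
    have : e * (e * (c : X) * e⁻¹) * e⁻¹ = (c : X) ^ (i * i) := by
      rw [hi', ← conj_pow, hi', pow_mul]
    rw [show e * (e * (c : X) * e⁻¹) * e⁻¹ = e * e * c * (e * e)⁻¹ by group, hee, hinv c c.2] at this
    rw [pow_succ, ← this, inv_mul_cancel]
  have h3 := orderOf_dvd_of_pow_eq_one h2
  rw [hc'] at h3
  have h4 : ((i * i + 1 : ℕ) : ZMod r) = 0 := (ZMod.natCast_eq_zero_iff _ _).mpr h3
  push_cast at h4
  rcases hr with rfl | rfl
  · exact no_root_three _ h4
  · exact no_root_seven _ h4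

theorem five_pre (hC : CIT X) (hX : Nat.card X = 20160) {y : X} (hy : orderOf y = 5) :
    (Nat.card (centralizer ({y} : Set X)) = 5 ∨ Nat.card (centralizer ({y} : Set X)) = 105) ∧
      Nat.card (normalizer ((zpowers y : Subgroup X) : Set X)) =
        2 * Nat.card (centralizer ({y} : Set X)) ∧
      ∀ a ∈ centralizer ({y} : Set X), ∀ b ∈ centralizer ({y} : Set X), a * b = b * a := by
  classical
  have hy1 : y ≠ 1 := fun e => by rw [e, orderOf_one] at hy; norm_num at hy
  have hodd : Odd (orderOf y) := by rw [hy]; decide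
  have hCodd := odd_centralizer hC hodd hy1
  set C := centralizer ({y} : Set X)
  set N := normalizer ((zpowers y : Subgroup X) : Set X)
  obtain ⟨k, hk, hN⟩ := CyclicNorm.card_normalizer (by norm_num : Nat.Prime 5) hy
  have hne := CyclicNorm.normalizer_ne_centralizer (by norm_num : Nat.Prime 5) hy
    (by rw [hX]; norm_num) (by rw [hX]; norm_num)
  have hidx : N.index % 5 = 1 :=
    CyclicNorm.index_normalizer_mod (by norm_num : Nat.Prime 5) hy (by rw [hX]; norm_num)
  have hci := card_mul_index N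
  have hd5 : 5 ∣ Nat.card C := hy ▸ Subgroup.orderOf_dvd_natCard C (mem_centralizer_singleton_iff.mpr rfl)
  have hdX : Nat.card C ∣ 315 := by
    have h1 : Nat.card C ∣ 2 ^ 6 * 315 := by
      rw [show 2 ^ 6 * 315 = 20160 from rfl, ← hX]; exact card_subgroup_dvd_card C
    exact ((Nat.coprime_two_right.mpr hCodd).pow_right 6).dvd_of_dvd_mul_left h1
  rw [hN] at hne hci
  rw [hX] at hci
  obtain ⟨c, hc⟩ : ∃ c, Nat.card C = c := ⟨_, rfl⟩
  rw [hc] at hN hne hci hd5 hdX
  have hk1 : k ≠ 1 := fun e => hne (by rw [e, one_mul])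
  have hcase : (k = 2 ∧ (c = 5 ∨ c = 105)) ∨ (k = 4 ∧ (c = 15 ∨ c = 315)) := by
    have hk' : k ∈ ({1, 2, 4} : Finset ℕ) := by
      have hk2 : k ∈ Nat.divisors 4 := Nat.mem_divisors.mpr ⟨hk, by norm_num⟩
      exact (by decide : Nat.divisors 4 ⊆ {1, 2, 4}) hk2
    have hc' : c ∈ ({5, 15, 35, 45, 105, 315} : Finset ℕ) := by
      have hc2 : c ∈ (Nat.divisors 315).filter (5 ∣ ·) :=
        Finset.mem_filter.mpr ⟨Nat.mem_divisors.mpr ⟨hdX, by norm_num⟩, hd5⟩
      exact (by decide : (Nat.divisors 315).filter (5 ∣ ·) ⊆ {5, 15, 35, 45, 105, 315}) hc2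
    simp only [Finset.mem_insert, Finset.mem_singleton] at hk' hc'
    rcases hk' with rfl | rfl | rfl
    · exact absurd rfl hk1
    all_goals rcases hc' with rfl | rfl | rfl | rfl | rfl | rfl <;> omega
  have heven : Even (Nat.card N) := by
    rcases hcase with ⟨rfl, -⟩ | ⟨rfl, -⟩ <;> rw [hN] <;> exact ((by decide : Even _)).mul_right c
  obtain ⟨f, hfN, hf2, hfC⟩ := exists_invol_normalizer heven hCodd
  have hinv := invert_centralizer hC hodd hy1 hfN hf2 hfC
  have hcomm : ∀ a ∈ C, ∀ b ∈ C, a * b = b * a := fun a ha b hb => comm_of_inverted hinv ha hb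
  rcases hcase with ⟨rfl, h⟩ | ⟨rfl, h⟩
  · rw [hc]; exact ⟨h, hN, hcomm⟩
  exfalso
  -- an element acting with order four
  haveI : Fact (Nat.Prime 2) := ⟨Nat.prime_two⟩
  obtain ⟨P⟩ : Nonempty (Sylow 2 N) := inferInstance
  have hPc : Nat.card (P : Subgroup N) = 4 := by
    rw [P.card_eq_multiplicity, hN]
    rcases h with rfl | rfl
    · exact (pow_fact Nat.prime_two (a := 2) (m := 15) (by norm_num) (by norm_num)).trans (by norm_num)
    · exact (pow_fact Nat.prime_two (a := 2) (m := 315) (by norm_num) (by norm_num)).trans (by norm_num)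
  have hconj : ∀ (x : N), ∀ a ∈ C, (x : X) * a * (x : X)⁻¹ ∈ C := by
    intro x a ha
    obtain ⟨i, hi⟩ := CyclicNorm.exists_pow ((normalizer _).inv_mem x.2)
    rw [mem_centralizer_singleton_iff] at ha ⊢
    have ha' : Commute a (y ^ i) := (show Commute a y from ha).pow_right i
    calc (x : X) * a * (x : X)⁻¹ * y = x * (a * ((x : X)⁻¹ * y * (x : X)⁻¹⁻¹)) * (x : X)⁻¹ := by group
      _ = x * ((x : X)⁻¹ * y * (x : X)⁻¹⁻¹ * a) * (x : X)⁻¹ := by rw [hi, ha'.eq]
      _ = y * ((x : X) * a * (x : X)⁻¹) := by group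
  have hPinv : ∀ x ∈ (P : Subgroup N), ((x : X) ^ 4 = 1) := by
    intro x hx
    have h4 : orderOf x ∣ 4 := hPc ▸ Subgroup.orderOf_dvd_natCard _ hx
    exact congrArg Subtype.val (orderOf_dvd_iff_pow_eq_one.mp h4)
  -- some element of `P` acts with order four
  obtain ⟨e, heP, hee⟩ : ∃ e ∈ (P : Subgroup N), ((e : X) * e) ∉ C := by
    by_contra hall
    push Not at hall
    have hsub : ∀ x ∈ (P : Subgroup N), (x : X) * y * (x : X)⁻¹ = y ∨ (x : X) * y * (x : X)⁻¹ = y⁻¹ := by
      intro x hx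
      obtain ⟨i, hi⟩ := CyclicNorm.exists_pow x.2
      have h2 := mem_centralizer_singleton_iff.mp (hall x hx)
      have h3 : y ^ (i * i) = y ^ 1 := by
        rw [pow_one, pow_mul, ← hi, conj_pow, ← hi]
        calc (x : X) * ((x : X) * y * (x : X)⁻¹) * (x : X)⁻¹ = (x : X) * x * y * ((x : X) * x)⁻¹ := by group
          _ = y := by rw [h2, mul_inv_cancel_right]
      have h4 := pow_mod_eq hy h3
      push_cast at h4
      rcases (by decide : ∀ a : ZMod 5, a * a = 1 → a = 1 ∨ a = 4) _ h4 with e | e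
      · left
        rw [hi, ← pow_one y, ← pow_mul, one_mul, pow_eq_pow_iff_modEq, hy]
        exact (ZMod.natCast_eq_natCast_iff _ _ 5).mp (by rw [Nat.cast_one, e])
      · right
        rw [hi, show y⁻¹ = y ^ 4 from inv_eq_of_mul_eq_one_right (by
          rw [← pow_succ']; show y ^ 5 = 1; rw [← hy, pow_orderOf_eq_one]), pow_eq_pow_iff_modEq, hy]
        exact (ZMod.natCast_eq_natCast_iff _ _ 5).mp (by rw [e]; rfl)
    let θ : ↥(P : Subgroup N) → X := fun x => ((x : N) : X) * y * ((x : N) : X)⁻¹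
    have hinj : Function.Injective θ := by
      intro a b e
      have hmem : ((a : N) : X)⁻¹ * (b : N) ∈ C := mem_centralizer_singleton_iff.mpr (by
        have e' : ((a : N) : X) * y * ((a : N) : X)⁻¹ = ((b : N) : X) * y * ((b : N) : X)⁻¹ := e
        calc ((a : N) : X)⁻¹ * (b : N) * y
            = ((a : N) : X)⁻¹ * (((b : N) : X) * y * ((b : N) : X)⁻¹) * (b : N) := by group
          _ = y * (((a : N) : X)⁻¹ * (b : N)) := by rw [← e']; group)
      have h4 := hPinv ((a : N)⁻¹ * b) (mul_mem (inv_mem a.2) b.2)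
      have := eq_one_of_odd_pow hCodd hmem (k := 2) h4
      exact Subtype.ext (Subtype.ext (inv_mul_eq_one.mp this))
    have h1 : Nat.card (P : Subgroup N) ≤ ({y, y⁻¹} : Set X).ncard := by
      rw [← Nat.card_coe_set_eq]
      exact Nat.card_le_card_of_injective (fun a => (⟨θ a, hsub a a.2⟩ : ({y, y⁻¹} : Set X)))
        fun a b e => hinj (congrArg Subtype.val e)
    have h2 := Set.ncard_insert_le y ({y⁻¹} : Set X)
    rw [Set.ncard_singleton] at h2
    omega
  have hf2' : (e : X) * e * ((e : X) * e) = 1 := by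
    rw [← hPinv e heP]; simp [pow_succ, mul_assoc]
  have hinv' := invert_centralizer hC hodd hy1
    (f := (e : X) * e) ((normalizer _).mul_mem e.2 e.2) hf2' hee
  rcases h with rfl | rfl
  · exact no_square_inverts hinv' rfl (hconj e) (Or.inl rfl) (by rw [hc]; norm_num) (by rw [hc]; norm_num)
  · exact no_square_inverts hinv' rfl (hconj e) (Or.inr rfl) (by rw [hc]; norm_num) (by rw [hc]; norm_num)

theorem seven_aux (hC : CIT X) (hX : Nat.card X = 20160) {b : X} (hb : orderOf b = 7) :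
    (Nat.card (centralizer ({b} : Set X)) = 7 ∧
      Nat.card (normalizer ((zpowers b : Subgroup X) : Set X)) = 21) ∨
    (Nat.card (centralizer ({b} : Set X)) = 35 ∨
      (Nat.card (centralizer ({b} : Set X)) = 105 ∧
        Nat.card (normalizer ((zpowers b : Subgroup X) : Set X)) = 315)) := by
  classical
  have hb1 : b ≠ 1 := fun e => by rw [e, orderOf_one] at hb; norm_num at hb
  have hCodd := odd_centralizer hC (g := b) (by rw [hb]; decide) hb1
  obtain ⟨k, hk, hN⟩ := CyclicNorm.card_normalizer (by norm_num : Nat.Prime 7) hb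
  have hne := CyclicNorm.normalizer_ne_centralizer (by norm_num : Nat.Prime 7) hb
    (by rw [hX]; norm_num) (by rw [hX]; norm_num)
  have hidx := CyclicNorm.index_normalizer_mod (by norm_num : Nat.Prime 7) hb (by rw [hX]; norm_num)
  have hci := card_mul_index (normalizer ((zpowers b : Subgroup X) : Set X))
  have hd : 7 ∣ Nat.card (centralizer ({b} : Set X)) :=
    hb ▸ Subgroup.orderOf_dvd_natCard (centralizer ({b} : Set X)) (mem_centralizer_singleton_iff.mpr rfl)
  have hdX : Nat.card (centralizer ({b} : Set X)) ∣ 315 := by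
    have h1 : Nat.card (centralizer ({b} : Set X)) ∣ 2 ^ 6 * 315 := by
      rw [show 2 ^ 6 * 315 = 20160 from rfl, ← hX]; exact card_subgroup_dvd_card _
    exact ((Nat.coprime_two_right.mpr hCodd).pow_right 6).dvd_of_dvd_mul_left h1
  rw [hN] at hne hci
  rw [hX] at hci
  rw [hN]
  generalize Nat.card (centralizer ({b} : Set X)) = c at *
  generalize (normalizer ((zpowers b : Subgroup X) : Set X)).index = i at *
  have hk' : k ∈ ({1, 2, 3, 6} : Finset ℕ) := by
    have hk2 : k ∈ Nat.divisors 6 := Nat.mem_divisors.mpr ⟨hk, by norm_num⟩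
    exact (by decide : Nat.divisors 6 ⊆ {1, 2, 3, 6}) hk2
  have hc' : c ∈ ({7, 21, 35, 63, 105, 315} : Finset ℕ) := by
    have hc2 : c ∈ (Nat.divisors 315).filter (7 ∣ ·) :=
      Finset.mem_filter.mpr ⟨Nat.mem_divisors.mpr ⟨hdX, by norm_num⟩, hd⟩
    exact (by decide : (Nat.divisors 315).filter (7 ∣ ·) ⊆ {7, 21, 35, 63, 105, 315}) hc2
  simp only [Finset.mem_insert, Finset.mem_singleton] at hk' hc'
  rcases hk' with rfl | rfl | rfl | rfl
  · exact absurd (one_mul c) hne
  all_goals rcases hc' with rfl | rfl | rfl | rfl | rfl | rfl <;> omega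

theorem five (hC : CIT X) (hX : Nat.card X = 20160) {y : X} (hy : orderOf y = 5) :
    Nat.card (centralizer ({y} : Set X)) = 5 ∧
      Nat.card (normalizer ((zpowers y : Subgroup X) : Set X)) = 10 := by
  obtain ⟨hc, hN, hcomm⟩ := five_pre hC hX hy
  rcases hc with hc | hc
  · exact ⟨hc, by rw [hN, hc]⟩
  exfalso
  set C := centralizer ({y} : Set X) with hCdef
  haveI : Fact (Nat.Prime 7) := ⟨by norm_num⟩
  obtain ⟨b, hb⟩ := exists_prime_orderOf_dvd_card' (G := C) 7 (by rw [hc]; norm_num)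
  have hb' : orderOf (b : X) = 7 := by rw [Subgroup.orderOf_coe, hb]
  have hle : C ≤ centralizer ({(b : X)} : Set X) := fun a ha =>
    mem_centralizer_singleton_iff.mpr (hcomm a ha b b.2)
  have h15 : 15 ∣ Nat.card (centralizer ({(b : X)} : Set X)) :=
    (by norm_num : 15 ∣ 105).trans (hc ▸ card_dvd_of_le hle)
  rcases seven_aux hC hX hb' with ⟨h1, -⟩ | h1 | ⟨h1, h2⟩
  · rw [h1] at h15; norm_num at h15
  · rw [h1] at h15; norm_num at h15
  have heq := eq_of_le_of_card_ge hle (by rw [h1, hc])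
  -- an element of order three outside acts trivially on `y`
  set N := normalizer ((zpowers (b : X) : Subgroup X) : Set X)
  haveI : Fact (Nat.Prime 3) := ⟨by norm_num⟩
  obtain ⟨P⟩ : Nonempty (Sylow 3 N) := inferInstance
  have hPc : Nat.card (P : Subgroup N) = 9 := by
    rw [P.card_eq_multiplicity, h2]
    exact (pow_fact Nat.prime_three (a := 2) (m := 35) (by norm_num) (by norm_num)).trans (by norm_num)
  obtain ⟨e, heP, heC⟩ : ∃ e ∈ (P : Subgroup N), (e : X) ∉ C := by
    by_contra hall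
    push Not at hall
    have h9 : Nat.card ((P : Subgroup N).map N.subtype) ∣ Nat.card C :=
      card_dvd_of_le (by rintro _ ⟨x, hx, rfl⟩; exact hall x hx)
    rw [← Nat.card_congr ((P : Subgroup N).equivMapOfInjective _ N.subtype_injective).toEquiv,
      hPc, hc] at h9
    norm_num at h9
  have hyC : y ∈ C := mem_centralizer_singleton_iff.mpr rfl
  have hconj : (e : X) * y * (e : X)⁻¹ ∈ C := by
    rw [heq]
    obtain ⟨i, hi⟩ := CyclicNorm.exists_pow ((normalizer _).inv_mem e.2)
    have ha' : Commute y ((b : X) ^ i) :=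
      (show Commute y (b : X) from mem_centralizer_singleton_iff.mp (hle hyC)).pow_right i
    refine mem_centralizer_singleton_iff.mpr ?_
    calc (e : X) * y * (e : X)⁻¹ * b = e * (y * ((e : X)⁻¹ * b * (e : X)⁻¹⁻¹)) * (e : X)⁻¹ := by group
      _ = e * ((e : X)⁻¹ * b * (e : X)⁻¹⁻¹ * y) * (e : X)⁻¹ := by rw [hi, ha'.eq]
      _ = (b : X) * ((e : X) * y * (e : X)⁻¹) := by group
  haveI : Fact (Nat.Prime 5) := ⟨by norm_num⟩
  have hmem : (e : X) * y * (e : X)⁻¹ ∈ zpowers y := by
    by_contra hnot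
    haveI : IsMulCommutative C := ⟨⟨fun a b => Subtype.ext (hcomm a a.2 b b.2)⟩⟩
    set a1 : C := ⟨y, hyC⟩
    set a2 : C := ⟨_, hconj⟩
    have ho1 : orderOf a1 = 5 := by rw [← Subgroup.orderOf_coe]; exact hy
    have ho2 : orderOf a2 = 5 := by
      rw [← Subgroup.orderOf_coe]; exact (H65.orderOf_conj' (e : X) y).trans hy
    have hp : IsPGroup 5 (zpowers a1 ⊔ zpowers a2 : Subgroup C) :=
      (IsPGroup.of_card (n := 1) (by rw [Nat.card_zpowers, ho1, pow_one]) : IsPGroup 5 (zpowers a1)).to_sup_of_normal_left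
        (IsPGroup.of_card (n := 1) (by rw [Nat.card_zpowers, ho2, pow_one]))
    obtain ⟨n, hn⟩ := IsPGroup.iff_card.mp hp
    have h1' : n ≤ 1 := by
      by_contra h2'
      have := (pow_dvd_pow 5 (by omega : 2 ≤ n)).trans (hn ▸ card_subgroup_dvd_card _)
      rw [hc] at this
      norm_num at this
    have heq' := eq_of_le_of_card_ge (le_sup_left : zpowers a1 ≤ zpowers a1 ⊔ zpowers a2) (by
      rw [hn, Nat.card_zpowers, ho1]
      exact (Nat.pow_le_pow_right (by norm_num : (5:ℕ) > 0) h1').trans_eq (pow_one 5))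
    have hin : a2 ∈ zpowers a1 := heq' ▸ (le_sup_right : zpowers a2 ≤ _) (mem_zpowers a2)
    obtain ⟨j, hj⟩ := mem_zpowers_iff.mp hin
    exact hnot (mem_zpowers_iff.mpr ⟨j, congrArg Subtype.val hj⟩)
  rw [← mem_powers_iff_mem_zpowers, Submonoid.mem_powers_iff] at hmem
  obtain ⟨i, hi⟩ := hmem
  have hk : ∀ n : ℕ, (e : X) ^ n * y * ((e : X) ^ n)⁻¹ = y ^ (i ^ n) := by
    intro n
    induction n with
    | zero => simp
    | succ n ih =>
      calc (e : X) ^ (n + 1) * y * ((e : X) ^ (n + 1))⁻¹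
          = e * ((e : X) ^ n * y * ((e : X) ^ n)⁻¹) * (e : X)⁻¹ := by rw [pow_succ']; group
        _ = y ^ i ^ (n + 1) := by rw [ih, ← conj_pow, ← hi, ← pow_mul, ← pow_succ']
  have he9' : (e : N) ^ 9 = 1 := by
    refine orderOf_dvd_iff_pow_eq_one.mp ?_
    have h9' := Subgroup.orderOf_dvd_natCard (P : Subgroup N) heP
    rwa [hPc] at h9'
  have he9 : (e : X) ^ 9 = 1 := congrArg Subtype.val he9'
  have h9 := hk 9
  rw [he9, inv_one, mul_one, one_mul] at h9
  have h4 := pow_mod_eq hy ((pow_one y).trans h9)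
  push_cast at h4
  have hi1 := ninth_root_five _ h4
  refine heC (mem_centralizer_singleton_iff.mpr (mul_inv_eq_iff_eq_mul.mp ?_))
  rw [← hi]
  conv_rhs => rw [← pow_one y]
  rw [pow_eq_pow_iff_modEq, hy]
  exact (ZMod.natCast_eq_natCast_iff _ _ 5).mp (by rw [hi1, Nat.cast_one])

theorem seven (hC : CIT X) (hX : Nat.card X = 20160) {b : X} (hb : orderOf b = 7) :
    Nat.card (centralizer ({b} : Set X)) = 7 ∧
      Nat.card (normalizer ((zpowers b : Subgroup X) : Set X)) = 21 := by
  rcases seven_aux hC hX hb with h | h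
  · exact h
  exfalso
  haveI : Fact (Nat.Prime 5) := ⟨by norm_num⟩
  have h5 : 5 ∣ Nat.card (centralizer ({b} : Set X)) := by
    rcases h with h | ⟨h, -⟩ <;> rw [h] <;> norm_num
  obtain ⟨y, hy⟩ := exists_prime_orderOf_dvd_card' (G := centralizer ({b} : Set X)) 5 h5
  have hy' : orderOf (y : X) = 5 := by rw [Subgroup.orderOf_coe, hy]
  have h7 : 7 ∣ Nat.card (centralizer ({(y : X)} : Set X)) :=
    hb ▸ Subgroup.orderOf_dvd_natCard (centralizer ({(y : X)} : Set X))
      (mem_centralizer_singleton_iff.mpr (mem_centralizer_singleton_iff.mp y.2).symm)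
  rw [(five hC hX hy').1] at h7
  norm_num at h7

end Cfsg.Agent.H55.Suz.CitArith
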