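import Cfsg.Agent.H55.Suz.NormT
import Cfsg.Agent.H65.FourCount

/-!
The centralisers of the element `g` of the first type and of elements of order five or seven of `K`.
-/

set_option autoImplicit false
set_option linter.unusedSectionVars false
set_option linter.style.haveILetI false

namespace Cfsg.Agent.H55.Suz

open Cfsg.Agent.H73.Suz Subgroup

/-- A four-group containing its involutions' centralisers whose involutions are permuted transitively
gives one class of involutions. -/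
theorem four_one_class {X : Type*} [Group X] [Finite X] {a v₁ : X} (hv : orderOf v₁ = 2)
    (h4 : ∀ i : X, orderOf i = 2 → Nat.card ↥(centralizer ({i} : Set X)) = 4)
    {v₂ v₃ : X} (hV : ∀ x ∈ centralizer ({v₁} : Set X), x = 1 ∨ x = v₁ ∨ x = v₂ ∨ x = v₃)
    (h12 : a * v₁ * a⁻¹ = v₂) (h23 : a * v₂ * a⁻¹ = v₃) :
    ∀ x y : X, orderOf x = 2 → orderOf y = 2 → IsConj x y := by
  classical
  haveI : Fact (Nat.Prime 2) := ⟨Nat.prime_two⟩
  set C := centralizer ({v₁} : Set X)
  have hC : IsPGroup 2 C := IsPGroup.of_card (n := 2) (by rw [h4 v₁ hv]; norm_num)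
  obtain ⟨S, hS⟩ := hC.exists_le_sylow
  have hv1C : v₁ ∈ C := mem_centralizer_singleton_iff.mpr rfl
  haveI : Nontrivial (S : Subgroup X) :=
    ⟨⟨⟨v₁, hS hv1C⟩, 1, fun e => H65.ne_one_of_orderOf hv (congrArg Subtype.val e)⟩⟩
  obtain ⟨c, -, hcc, hc⟩ := PGroups.exists_mem_center_orderOf_eq S.2
    (⊤ : Subgroup (S : Subgroup X)) top_ne_bot
  have hc2 : orderOf (c : X) = 2 := by rw [Subgroup.orderOf_coe, hc]
  have hcen : ∀ b ∈ (S : Subgroup X), b * (c : X) = c * b := fun b hb =>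
    congrArg Subtype.val (mem_center_iff.mp hcc ⟨b, hb⟩)
  have hSC : (S : Subgroup X) ≤ centralizer ({(c : X)} : Set X) := fun b hb =>
    mem_centralizer_singleton_iff.mpr (hcen b hb)
  have hSeq : (S : Subgroup X) = C :=
    (eq_of_le_of_card_ge hS (by rw [h4 v₁ hv]; exact (card_le_of_le hSC).trans (h4 _ hc2).le)).symm
  have hclass : ∀ x ∈ C, orderOf x = 2 → IsConj v₁ x := by
    intro x hx hx2
    rcases hV x hx with rfl | rfl | rfl | rfl
    · rw [orderOf_one] at hx2; norm_num at hx2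
    · exact IsConj.refl _
    · exact isConj_iff.mpr ⟨a, h12⟩
    · exact isConj_iff.mpr ⟨a * a, by rw [← h23, ← h12]; group⟩
  have hall : ∀ x : X, orderOf x = 2 → IsConj v₁ x := by
    intro x hx
    obtain ⟨S', hS'⟩ := (IsPGroup.of_card (p := 2) (n := 1) (G := zpowers x)
      (by rw [Nat.card_zpowers, hx, pow_one])).exists_le_sylow
    obtain ⟨d, hd⟩ := MulAction.exists_smul_eq X S' S
    have hmem : d * x * d⁻¹ ∈ (S : Subgroup X) := by
      rw [← hd]; exact ⟨x, hS' (mem_zpowers x), rfl⟩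
    rw [hSeq] at hmem
    exact (hclass _ hmem ((H65.orderOf_conj' d x).trans hx)).trans
      (isConj_iff.mpr ⟨d⁻¹, by group⟩)
  exact fun x y hx hy => (hall x hx).symm.trans (hall y hy)

namespace Frame

variable {G : Type*} [Group G] [Finite G] {z : G} {Q : Subgroup G}
variable {h : Setup z Q} {s w t om hh : G} (F : Frame h s w t om hh)
variable {s' w' g r : G}

include F

/-- No involution of `C(g)` is of the second type. -/
theorem g_all_z (D : Five h s' w' g r) {i : G} (hig : i * g = g * i) (hit : IsConj i t) : False := by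
  have hi : orderOf i = 2 :=
    (H65.orderOf_of_isConj hit).trans (F.ord_two F.t2 F.t_ne)
  obtain ⟨u, -, hu⟩ := D.invol_conj hig hi
  exact F.not_both (isConj_iff.mpr ⟨u, hu⟩ : IsConj z i).symm hit

/-- The Sylow 5-subgroups have order at least 25. -/
theorem twentyfive_dvd (D : Five h s' w' g r) : 5 ^ 2 ∣ Nat.card G := by
  by_contra hd
  obtain ⟨y, hy, hyp⟩ := F.exists_order (p := 5) (Or.inl rfl)
  obtain ⟨d, -, n, hn⟩ := conj_zpowers (M := (⊤ : Subgroup G))
    (by rw [card_top]; exact hd) (a := g) (b := y) (mem_top g) (mem_top y) D.ord hyp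
  exact F.g_all_z D ((cent_transfer (by norm_num) hyp D.ord hn t).mp (F.mem_K.mp hy).1.symm)
    (isConj_iff.mpr ⟨d, rfl⟩ : IsConj t (d * t * d⁻¹)).symm

theorem X_g (D : Five h s' w' g r) : Nat.card (CentQuot.XQ g) = 360 := by
  refine D.X_card.resolve_left fun h168 => ?_
  have h1 := sq_dvd_cent (by norm_num) (F.twentyfive_dvd D) D.ord
  rw [← CentQuot.card_mul D.ord, h168] at h1
  norm_num at h1

theorem card_Cg (D : Five h s' w' g r) : Nat.card (centralizer ({g} : Set G)) = 1800 := by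
  rw [← CentQuot.card_mul D.ord, F.X_g D]

/-- An element of order five or seven of `K` commutes with no conjugate of `z`. -/
theorem y_no_z (D : Five h s' w' g r) {p : ℕ} (hp : p = 5 ∨ p = 7) {y i : G} (hy : y ∈ F.Ksub)
    (hyp : orderOf y = p) (hiz : IsConj i z) (hiy : i * y = y * i) : False := by
  rcases hp with rfl | rfl
  · obtain ⟨d, n, hd, -⟩ := to_g D hyp hiz hiy
    exact F.g_all_z D ((cent_transfer (by norm_num) hyp D.ord hd t).mp (F.mem_K.mp hy).1.symm)
      (isConj_iff.mpr ⟨d, rfl⟩ : IsConj t (d * t * d⁻¹)).symm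
  · exact no_seven_z h hyp hiz hiy

theorem y_invol (D : Five h s' w' g r) {p : ℕ} (hp : p = 5 ∨ p = 7) {y i : G} (hy : y ∈ F.Ksub)
    (hyp : orderOf y = p) (hi : orderOf i = 2) (hiy : i * y = y * i) :
    ∃ (d : G) (n : ℕ), d * y * d⁻¹ = y ^ n ∧ d * i * d⁻¹ = t :=
  F.to_y hp hy hyp hyp ((F.types hi).resolve_left fun e => F.y_no_z D hp hy hyp e hiy) hiy

theorem card_cent_y (D : Five h s' w' g r) {p : ℕ} (hp : p = 5 ∨ p = 7) {y i : G} (hy : y ∈ F.Ksub)
    (hyp : orderOf y = p) (hi : orderOf i = 2) (hiy : i * y = y * i) :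
    Nat.card ↥(centralizer ({y} : Set G) ⊓ centralizer ({i} : Set G)) = 4 * p := by
  have hprime : p.Prime := by rcases hp with rfl | rfl <;> norm_num
  obtain ⟨d, n, hd, hdi⟩ := F.y_invol D hp hy hyp hi hiy
  rw [inf_comm, ← F.card_cent_t hp hy hyp]
  refine Nat.card_congr (Equiv.subtypeEquiv (MulAut.conj d).toEquiv fun c => ?_)
  simp only [mem_inf, mem_centralizer_singleton_iff]
  show c * i = i * c ∧ c * y = y * c ↔
    d * c * d⁻¹ * t = t * (d * c * d⁻¹) ∧ d * c * d⁻¹ * y = y * (d * c * d⁻¹)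
  rw [cent_transfer hprime hyp hyp hd c, ← hdi, conj_mul, conj_mul]
  simp

theorem sq_cent_y (D : Five h s' w' g r) {p : ℕ} (hp : p = 5 ∨ p = 7) {y i c : G} (hy : y ∈ F.Ksub)
    (hyp : orderOf y = p) (hi : orderOf i = 2) (hiy : i * y = y * i) (hci : c * i = i * c)
    (hcy : c * y = y * c) : c * c ∈ zpowers y := by
  have hprime : p.Prime := by rcases hp with rfl | rfl <;> norm_num
  obtain ⟨d, n, hd, hdi⟩ := F.y_invol D hp hy hyp hi hiy
  have hc1 := (cent_transfer hprime hyp hyp hd c).mp hcy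
  have hc2 : d * c * d⁻¹ * t = t * (d * c * d⁻¹) := by rw [← hdi, conj_mul, conj_mul, hci]
  obtain ⟨u, hu, k, e⟩ := F.cent_K hp hy hyp (F.cent_mem_K hp hy hyp hc2 hc1) hc1
  have h2 : d * (c * c) * d⁻¹ = y ^ (k + k) := by
    rw [← conj_mul, e, ((show Commute y u from F.V_comm hu hy).symm.pow_right k).eq]
    calc y ^ k * u * (y ^ k * u) = y ^ k * (u * y ^ k) * u := by group
      _ = y ^ k * (y ^ k * u) * u := by
        rw [((show Commute y u from F.V_comm hu hy).symm.pow_right k).eq]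
      _ = y ^ k * y ^ k * (u * u) := by group
      _ = _ := by rw [F.V_sq hu, mul_one, ← pow_add]
  have hz := zpowers_pow_eq hprime ((H65.orderOf_conj' d y).trans hyp) hyp hd
  have h3 : d * (c * c) * d⁻¹ ∈ zpowers (d * y * d⁻¹) := by
    rw [hz, h2]; exact pow_mem (mem_zpowers y) _
  obtain ⟨m, hm⟩ := mem_zpowers_iff.mp h3
  refine mem_zpowers_iff.mpr ⟨m, ?_⟩
  rw [conj_zpow] at hm
  simpa using hm

theorem X_y (D : Five h s' w' g r) {p : ℕ} (hp : p = 5 ∨ p = 7) {y : G} (hy : y ∈ F.Ksub)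
    (hyp : orderOf y = p) :
    (∀ a : CentQuot.XQ y, orderOf a = 2 →
      Nat.card ↥(centralizer ({a} : Set (CentQuot.XQ y))) = 4 ∧
        ∀ c ∈ centralizer ({a} : Set (CentQuot.XQ y)), c ^ 2 = 1) ∧
    (∀ a b : CentQuot.XQ y, orderOf a = 2 → orderOf b = 2 → IsConj a b) ∧
    (∃ a : CentQuot.XQ y, orderOf a = 2) ∧
    (Nat.card (CentQuot.XQ y) = 12 ∨ Nat.card (CentQuot.XQ y) = 60) := by
  classical
  have hprime : p.Prime := by rcases hp with rfl | rfl <;> norm_num
  have hodd : Odd p := by rcases hp with rfl | rfl <;> decide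
  obtain ⟨hyt, hyv⟩ := F.mem_K.mp hy
  have hytv : Commute y (t * F.vv) := (show Commute y t from hyt).mul_right hyv
  have hC : ∀ a : CentQuot.XQ y, orderOf a = 2 →
      Nat.card ↥(centralizer ({a} : Set (CentQuot.XQ y))) = 4 ∧
        ∀ c ∈ centralizer ({a} : Set (CentQuot.XQ y)), c ^ 2 = 1 := by
    intro a ha
    obtain ⟨i, hi, rfl⟩ := CentQuot.invol_lift hodd hyp ha
    have hiy : (i : G) * y = y * i := mem_centralizer_singleton_iff.mp i.2
    refine ⟨?_, fun c hc => ?_⟩
    · have h1 := CentQuot.card_cent hodd hyp hi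
      rw [F.card_cent_y D hp hy hyp hi hiy] at h1
      exact Nat.eq_of_mul_eq_mul_right hprime.pos h1
    · obtain ⟨c, rfl⟩ := CentQuot.pr_surj y c
      rw [← map_pow, CentQuot.pr_one, pow_two]
      exact F.sq_cent_y D hp hy hyp hi hiy
        (CentQuot.commute_lift hodd hyp hi (mem_centralizer_singleton_iff.mp hc))
        (mem_centralizer_singleton_iff.mp c.2)
  set tC : ↥(centralizer ({y} : Set G)) := ⟨t, mem_centralizer_singleton_iff.mpr hyt.symm⟩
  set vC : ↥(centralizer ({y} : Set G)) := ⟨F.vv, mem_centralizer_singleton_iff.mpr hyv.symm⟩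
  set wC : ↥(centralizer ({y} : Set G)) :=
    ⟨t * F.vv, mem_centralizer_singleton_iff.mpr hytv.eq.symm⟩
  have hto : orderOf (tC : G) = 2 := F.ord_two F.t2 F.t_ne
  have ht2 := CentQuot.pr_orderOf hodd hyp (i := tC) hto
  have hV : ∀ x ∈ centralizer ({CentQuot.pr y tC} : Set (CentQuot.XQ y)),
      x = 1 ∨ x = CentQuot.pr y tC ∨ x = CentQuot.pr y vC ∨ x = CentQuot.pr y wC := by
    intro x hx
    obtain ⟨c, rfl⟩ := CentQuot.pr_surj y x
    have hct := CentQuot.commute_lift hodd hyp (i := tC) hto (mem_centralizer_singleton_iff.mp hx)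
    have hcy := mem_centralizer_singleton_iff.mp c.2
    obtain ⟨u, hu, k, e⟩ := F.cent_K hp hy hyp (F.cent_mem_K hp hy hyp hct hcy) hcy
    have huy : u ∈ centralizer ({y} : Set G) :=
      mem_centralizer_singleton_iff.mpr (F.V_comm hu hy).symm
    have heq : CentQuot.pr y c = CentQuot.pr y ⟨u, huy⟩ := ((QuotientGroup.eq (s := CentQuot.Nx y)).mpr (by
      show u⁻¹ * (c : G) ∈ zpowers y
      rw [e, inv_mul_cancel_left]; exact pow_mem (mem_zpowers y) k)).symm
    rw [heq]
    rcases hu with rfl | rfl | rfl | rfl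
    · exact Or.inl (CentQuot.pr_one.mpr (one_mem _))
    · exact Or.inr (Or.inl rfl)
    · exact Or.inr (Or.inr (Or.inl rfl))
    · exact Or.inr (Or.inr (Or.inr rfl))
  obtain ⟨m, hm, hm1, hm2⟩ := F.exists_cycler hp hy hyp
  set mC : ↥(centralizer ({y} : Set G)) := ⟨m, mem_centralizer_singleton_iff.mpr hm⟩
  have hone := four_one_class (a := CentQuot.pr y mC) ht2 (fun a ha => (hC a ha).1) hV
    (by rw [← map_inv, ← map_mul, ← map_mul]; exact congrArg _ (Subtype.ext hm1))
    (by rw [← map_inv, ← map_mul, ← map_mul]; exact congrArg _ (Subtype.ext hm2))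
  refine ⟨hC, hone, ⟨_, ht2⟩, ?_⟩
  haveI := Fintype.ofFinite (CentQuot.XQ y)
  have h1 := H65.FourCount.card_invs hC hone ht2
  have h2 := H65.FourCount.card_eq_four_mul hC hone ht2
  rw [Nat.card_eq_fintype_card]
  omega

theorem card_Cy (D : Five h s' w' g r) {p : ℕ} (hp : p = 5 ∨ p = 7) {y : G} (hy : y ∈ F.Ksub)
    (hyp : orderOf y = p) : Nat.card (centralizer ({y} : Set G)) = 12 * p ∨
      Nat.card (centralizer ({y} : Set G)) = 60 * p := by
  rw [← CentQuot.card_mul hyp]
  rcases (F.X_y D hp hy hyp).2.2.2 with e | e <;> rw [e]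
  exacts [Or.inl rfl, Or.inr rfl]

theorem card_Cy_five (D : Five h s' w' g r) {y : G} (hy : y ∈ F.Ksub) (hyp : orderOf y = 5) :
    Nat.card (centralizer ({y} : Set G)) = 300 := by
  refine (F.card_Cy D (Or.inl rfl) hy hyp).resolve_left fun e => ?_
  have h1 := sq_dvd_cent (by norm_num) (F.twentyfive_dvd D) hyp
  rw [e] at h1
  norm_num at h1

theorem not_49 (D : Five h s' w' g r) : ¬ 7 ^ 2 ∣ Nat.card G := fun hd => by
  obtain ⟨y, hy, hyp⟩ := F.exists_order (p := 7) (Or.inr rfl)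
  have h1 := sq_dvd_cent (by norm_num) hd hyp
  rcases F.card_Cy D (Or.inr rfl) hy hyp with e | e <;> rw [e] at h1 <;> norm_num at h1

end Frame

end Cfsg.Agent.H55.Suz
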