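import Cfsg.Agent.H55.Suz.CycInvol
import Cfsg.Agent.H55.Suz.FourX

/-!
The number of conjugates `v` of `t` with `t` a power of `z v` is `3` modulo five.
-/

set_option autoImplicit false
set_option linter.unusedSectionVars false
set_option linter.style.haveILetI false
set_option synthInstance.maxSize 4000
set_option synthInstance.maxHeartbeats 400000
set_option maxRecDepth 20000

namespace Cfsg.Agent.H55.Suz

open Cfsg.Agent.H73.Suz Cfsg.Agent.H92.ExtraForm Subgroup

theorem card_InE : (Finset.univ.filter fun p : R2 => InE p).card = 7 := by decide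

/-- The residues of the elements of the lines. -/
def linePts : Finset R2 := Finset.univ.filter fun p => InE p ∧ p ≠ 0

theorem mem_linePts {p : R2} : p ∈ linePts ↔ InE p ∧ p ≠ 0 := by simp [linePts]

theorem card_pairs :
    ((linePts ×ˢ linePts).filter fun pq : R2 × R2 => sqv (pq.1 + pq.2) = (1, 0)).card = 6 := by decide

theorem reflect {G : Type*} [Group G] {a b : G} (ha : a * a = 1) (hb : b * b = 1) (j : ℕ) :
    IsConj (a * (a * b) ^ (2 * j)) a ∧ IsConj (a * (a * b) ^ (2 * j + 1)) b := by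
  have hai : a⁻¹ = a := inv_eq_of_mul_eq_one_left ha
  have hbi : b⁻¹ = b := inv_eq_of_mul_eq_one_left hb
  have h1 : a * (a * b) ^ j = ((a * b) ^ j)⁻¹ * a := by
    have e2 : a * (a * b) * a⁻¹ = (a * b)⁻¹ := by
      rw [mul_inv_rev, hai, hbi, ← mul_assoc, ha, one_mul]
    rw [← mul_inv_eq_iff_eq_mul, ← conj_pow, e2, inv_pow]
  constructor
  · refine isConj_iff.mpr ⟨(a * b) ^ j, ?_⟩
    calc (a * b) ^ j * (a * (a * b) ^ (2 * j)) * ((a * b) ^ j)⁻¹
        = (a * b) ^ j * (a * (a * b) ^ j) * (a * b) ^ j * ((a * b) ^ j)⁻¹ := by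
          rw [two_mul, pow_add]; group
      _ = a := by rw [h1]; group
  · refine isConj_iff.mpr ⟨(a * b) ^ j, ?_⟩
    calc (a * b) ^ j * (a * (a * b) ^ (2 * j + 1)) * ((a * b) ^ j)⁻¹
        = (a * b) ^ j * (a * (a * b) ^ j) * ((a * b) * (a * b) ^ j) * ((a * b) ^ j)⁻¹ := by
          rw [← pow_succ', show 2 * j + 1 = j + (j + 1) by omega, pow_add]; group
      _ = a * a * b := by rw [h1]; group
      _ = b := by rw [ha, one_mul]

namespace Frame

variable {G : Type*} [Group G] [Finite G] {z : G} {Q : Subgroup G} {h : Setup z Q}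
variable {s w t om hh : G} (F : Frame h s w t om hh)
variable {s' w' g r : G}

include F

local notation "W[" x ", " p "]" => IsW h s w x p

omit F in
/-- The conjugates of `z` in `K`. -/
def ZK (F : Frame h s w t om hh) (x : G) : Prop := x ∈ F.Ksub ∧ IsConj x z

theorem zK {u : G} (hut : u * t = t * u) (huz : IsConj u z) : F.ZK u := by
  refine ⟨?_, huz⟩
  obtain ⟨k, hk, hkx⟩ := F.z_class hut huz
  have hk' : ∀ k ∈ F.Ksub, k⁻¹ * z * k ∈ F.Ksub := fun k hk =>
    mul_mem (mul_mem (inv_mem hk) F.z_mem_K) hk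
  rcases F.K_cases hk with e | e
  · have := hk' k e
    rwa [show k⁻¹ * z * k = u by rw [← hkx]; group] at this
  · have := hk' _ e
    rwa [show (hh * k)⁻¹ * z * (hh * k) = k⁻¹ * (hh⁻¹ * (z * hh)) * k by group, ← F.hh_z,
      inv_mul_cancel_left, show k⁻¹ * z * k = u by rw [← hkx]; group] at this

theorem ZK_conj {k x : G} (hk : k ∈ F.Ksub) (hx : F.ZK x) : F.ZK (k * x * k⁻¹) :=
  ⟨mul_mem (mul_mem hk hx.1) (inv_mem hk),
    (isConj_iff.mpr ⟨k, rfl⟩ : IsConj x (k * x * k⁻¹)).symm.trans hx.2⟩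

/-- A conjugate of `z` in `K ∩ C(z)` lies on a line. -/
theorem ZK_S {x : G} (hx : F.ZK x) (hxz : x * z = z * x) : ∃ p, W[x, p] ∧ InE p :=
  F.zType_S (F.S_of_K hx.1 hxz) hx.2

/-- For conjugates of `z` in `K` no power of the product times one of them lies in its coset of `V`. -/
theorem prod_pow_V {a b : G} (ha : F.ZK a) (hb : F.ZK b) (m : ℕ) (hm : (a * b) ^ m ∈ F.Vsub) :
    (a * b) ^ m = 1 := by
  refine F.coset_unique ha.1 ha.2 hm ?_
  obtain ⟨h1, h2⟩ := reflect (F.orderOf_zType ha.2).1 (F.orderOf_zType hb.2).1 (m / 2)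
  rcases Nat.even_or_odd m with ⟨j, hj⟩ | ⟨j, hj⟩
  · rw [show m = 2 * (m / 2) by omega]; exact h1.trans ha.2
  · rw [show m = 2 * (m / 2) + 1 by omega]; exact h2.trans hb.2

/-- Noncommuting conjugates of `z` in `K` with product of even order: the central involution is the
square of the product and a conjugate of `z`. -/
theorem even_central {a b : G} (ha : F.ZK a) (hb : F.ZK b) (hab : a * b ≠ b * a)
    (he : Even (orderOf (a * b))) : F.ZK (a * b * (a * b)) := by
  have ha2 : a * a = 1 := (F.orderOf_zType ha.2).1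
  have hb2 : b * b = 1 := (F.orderOf_zType hb.2).1
  obtain ⟨m, hm⟩ := he
  have hn := orderOf_pos (a * b)
  set c := (a * b) ^ m with hc
  have hcw : c ∈ zpowers (a * b) := pow_mem (mem_zpowers _) m
  have hc2 : c * c = 1 := by rw [hc, ← pow_add, ← hm, pow_orderOf_eq_one]
  have hc1 : c ≠ 1 := fun e => by
    have := Nat.le_of_dvd (by omega) (orderOf_dvd_of_pow_eq_one (x := a * b) (n := m) (hc ▸ e))
    omega
  have hcK : c ∈ F.Ksub := pow_mem (mul_mem ha.1 hb.1) m
  rcases F.exists_zType hcK (by rw [hc2]; exact one_mem _) with e | ⟨u, hu, e⟩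
  · exact absurd (F.prod_pow_V ha hb m e) hc1
  obtain ⟨k, hk, hkc⟩ := F.z_class_K (mul_mem hcK (F.S_le_K (F.V_le_S hu))) e
  have hku : k * u * k⁻¹ = u := mul_inv_eq_iff_eq_mul.mpr (F.V_comm hu hk)
  have hkc' : k * c * k⁻¹ = z * u := by
    rw [← conj_mul, hku] at hkc
    rw [← hkc, mul_assoc (k * c * k⁻¹) u u, F.V_sq hu, mul_one]
  obtain ⟨hac, hbc⟩ := CycInvol.commute ha2 hb2 hcw hc2
  have key : ∀ x, F.ZK x → x * c = c * x → ∃ p, W[k * x * k⁻¹, p] ∧ InE p := by
    intro x hx hxc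
    refine F.ZK_S (F.ZK_conj hk hx) ?_
    have hK : k * x * k⁻¹ ∈ F.Ksub := mul_mem (mul_mem hk hx.1) (inv_mem hk)
    have h1 : Commute (k * x * k⁻¹) (z * u) := by
      rw [← hkc']
      show k * x * k⁻¹ * (k * c * k⁻¹) = k * c * k⁻¹ * (k * x * k⁻¹)
      rw [conj_mul, conj_mul, hxc]
    have h2 := h1.mul_right (show Commute (k * x * k⁻¹) u from F.V_comm hu hK)
    rw [mul_assoc z u u, F.V_sq hu, mul_one] at h2
    exact h2.eq
  obtain ⟨p, hp, -⟩ := key a ha hac.eq
  obtain ⟨q, hq, -⟩ := key b hb hbc.eq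
  set d := k * (a * b * (a * b)) * k⁻¹ with hd
  have hdtt : d = tt z s (sqv (p + q)).1 (sqv (p + q)).2 := by
    rw [← isW_sq F.P (isW_mul F.P hp hq), hd, conj_mul, conj_mul]
  have hd1 : a * b * (a * b) ≠ 1 := fun e' => hab (by
    calc a * b = (a * b)⁻¹ := eq_inv_of_mul_eq_one_left e'
      _ = b * a := by rw [mul_inv_rev, inv_eq_of_mul_eq_one_left ha2, inv_eq_of_mul_eq_one_left hb2])
  have hd2 : a * b * (a * b) * (a * b * (a * b)) = 1 := by
    have h2 : d * d = 1 := by rw [hdtt, tt_self F.P]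
    rw [hd, conj_mul] at h2
    exact conj_eq_one_iff.mp h2
  have heq := CycInvol.unique hcw (mul_mem (mem_zpowers (a * b)) (mem_zpowers (a * b))) hc2 hc1 hd2 hd1
  have hu1 : u = 1 := by
    have h3 : d = z * u := by rw [hd, ← heq, hkc']
    rcases F.V_res hu with e' | ⟨q', hq', hq1, -⟩
    · exact e'
    · exfalso
      have h4 : W[z * u, q'] := by simpa using isW_mul F.P F.isW_z hq'
      rw [← h3, hdtt] at h4
      rw [isW_unique F.P h4 (isW_tt F.P _ _)] at hq1
      exact absurd hq1 (by decide)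
  rw [hu1, mul_one] at e
  rw [← heq]
  exact ⟨hcK, e⟩

theorem mem_line {x : G} :
    (F.ZK x ∧ x * z = z * x) ↔ (x ≠ 1 ∧ ∃ p ∈ Finset.univ.filter (fun p : R2 => InE p), W[x, p]) := by
  constructor
  · rintro ⟨hx, hxz⟩
    obtain ⟨p, hp, hpE⟩ := F.ZK_S hx hxz
    exact ⟨(F.orderOf_zType hx.2).2.1, p, Finset.mem_filter.mpr ⟨Finset.mem_univ _, hpE⟩, hp⟩
  · rintro ⟨hx1, p, hpE, hp⟩
    have hpE' : InE p := (Finset.mem_filter.mp hpE).2
    obtain ⟨hq, hs, hb, -⟩ := inE_props p hpE'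
    have hsq : x * x = 1 := by rw [isW_sq F.P hp, hs]; simp [tt, zp]
    exact ⟨⟨F.S_le_K (F.mem_S.mpr ⟨p, hp, hb⟩), (F.isConj_z_iff hp hsq hx1).mpr hq⟩,
      (isW_cz F.P hp).1⟩

theorem card_comm : Nat.card {x : G // F.ZK x ∧ x * z = z * x ∧ x ≠ z} = 26 := by
  classical
  haveI := Fintype.ofFinite G
  set I := Finset.univ.filter fun p : R2 => InE p with hI
  have h28 := F.card_fibre I
  rw [show I.card = 7 from card_InE, Nat.card_eq_fintype_card, Fintype.card_subtype] at h28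
  rw [Nat.card_eq_fintype_card, Fintype.card_subtype]
  set A := Finset.univ.filter fun x : G => ∃ p ∈ I, W[x, p]
  have heq : (Finset.univ.filter fun x : G => F.ZK x ∧ x * z = z * x ∧ x ≠ z) = (A.erase 1).erase z := by
    ext x
    rw [Finset.mem_erase, Finset.mem_erase, Finset.mem_filter, Finset.mem_filter]
    constructor
    · rintro ⟨-, hx, hxz, hne⟩
      obtain ⟨h1, h2⟩ := F.mem_line.mp ⟨hx, hxz⟩
      exact ⟨hne, h1, Finset.mem_univ _, h2⟩
    · rintro ⟨hne, h1, -, h2⟩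
      obtain ⟨hx, hxz⟩ := F.mem_line.mpr ⟨h1, h2⟩
      exact ⟨Finset.mem_univ _, hx, hxz, hne⟩
  have hz0 : ∀ x, W[x, (0 : R2)] → x ∈ A := fun x hx => Finset.mem_filter.mpr
    ⟨Finset.mem_univ _, 0, Finset.mem_filter.mpr ⟨Finset.mem_univ _, inE_zero⟩, hx⟩
  rw [heq, Finset.card_erase_of_mem (Finset.mem_erase.mpr ⟨h.z_ne, hz0 z F.isW_z⟩),
    Finset.card_erase_of_mem (hz0 1 (isW_one F.P)), h28]

theorem card_M :
    Nat.card {p : G × G // F.ZK p.1 ∧ F.ZK p.2 ∧ p.1 * p.2 * (p.1 * p.2) = z} = 96 := by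
  classical
  haveI := Fintype.ofFinite G
  rw [Nat.card_eq_fintype_card, Fintype.card_subtype]
  set PQ := (linePts ×ˢ linePts).filter fun pq : R2 × R2 => sqv (pq.1 + pq.2) = (1, 0)
  let fib : R2 → Finset G := fun p => Finset.univ.filter fun x : G => W[x, p]
  have hfib : ∀ p, (fib p).card = 4 := fun p => by
    have := F.card_fibre {p}
    rw [Nat.card_eq_fintype_card, Fintype.card_subtype, Finset.card_singleton] at this
    simpa [fib] using this
  have heq : (Finset.univ.filter fun p : G × G => F.ZK p.1 ∧ F.ZK p.2 ∧ p.1 * p.2 * (p.1 * p.2) = z) =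
      PQ.biUnion fun pq => fib pq.1 ×ˢ fib pq.2 := by
    ext ⟨a, b⟩
    simp only [Finset.mem_filter, Finset.mem_univ, true_and, Finset.mem_biUnion, Finset.mem_product,
      fib, PQ, mem_linePts]
    constructor
    · rintro ⟨ha, hb, hab⟩
      have hzw : z ∈ zpowers (a * b) := by
        rw [← hab]; exact mul_mem (mem_zpowers _) (mem_zpowers _)
      obtain ⟨haz, hbz⟩ := CycInvol.commute (F.orderOf_zType ha.2).1 (F.orderOf_zType hb.2).1 hzw h.zz
      obtain ⟨p, hp, hpE⟩ := F.ZK_S ha haz.eq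
      obtain ⟨q, hq, hqE⟩ := F.ZK_S hb hbz.eq
      rw [isW_sq F.P (isW_mul F.P hp hq)] at hab
      have hv : sqv (p + q) = (1, 0) := by
        have e' : tt z s (sqv (p + q)).1 (sqv (p + q)).2 = tt z s 1 0 := by rw [hab]; simp [tt, zp]
        exact Prod.ext (F.P.tt_inj e').1 (F.P.tt_inj e').2
      refine ⟨(p, q), ⟨⟨⟨hpE, fun e => ?_⟩, hqE, fun e => ?_⟩, hv⟩, hp, hq⟩
      · rw [show p = 0 from e, zero_add, (inE_props q hqE).2.1] at hv; exact absurd hv (by decide)
      · rw [show q = 0 from e, add_zero, (inE_props p hpE).2.1] at hv; exact absurd hv (by decide)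
    · rintro ⟨⟨p, q⟩, ⟨⟨⟨hpE, hp0⟩, hqE, hq0⟩, hv⟩, hp, hq⟩
      have key : ∀ (x : G) (p : R2), InE p → p ≠ 0 → W[x, p] → F.ZK x := fun x p hpE hp0 hp =>
        (F.mem_line.mpr ⟨fun e => hp0 (isW_unique F.P hp (by rw [e]; exact isW_one F.P)), p,
          Finset.mem_filter.mpr ⟨Finset.mem_univ _, hpE⟩, hp⟩).1
      refine ⟨key a p hpE hp0 hp, key b q hqE hq0 hq, ?_⟩
      rw [isW_sq F.P (isW_mul F.P hp hq), hv]
      simp [tt, zp]
  rw [heq, Finset.card_biUnion]
  · rw [Finset.sum_const_nat (m := 16) fun pq _ => ?_, card_pairs]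
    rw [Finset.card_product, hfib, hfib]
  · intro pq _ pq' _ hne
    rw [Function.onFun, Finset.disjoint_left]
    rintro ⟨a, b⟩ h1 h2
    simp only [Finset.mem_product, fib, Finset.mem_filter, Finset.mem_univ, true_and] at h1 h2
    exact hne (Prod.ext (isW_unique F.P h1.1 h2.1) (isW_unique F.P h1.2 h2.2))

theorem card_noncomm :
    Nat.card {x : G // F.ZK x ∧ z * x ≠ x * z ∧ Even (orderOf (z * x))} = 96 := by
  classical
  haveI := Fintype.ofFinite G
  rw [← F.card_M, Nat.card_eq_fintype_card, Fintype.card_subtype, Nat.card_eq_fintype_card,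
    Fintype.card_subtype]
  set ZS := Finset.univ.filter fun x : G => F.ZK x with hZS
  set T3 := Finset.univ.filter fun p : G × G × G =>
    F.ZK p.1 ∧ F.ZK p.2.1 ∧ F.ZK p.2.2 ∧ p.1 * p.2.1 * (p.1 * p.2.1) = p.2.2 with hT3
  choose k hk hkz using fun (x : G) (hx : F.ZK x) => F.z_class_K hx.1 hx.2
  let cj : G → G × G × G → G × G × G := fun k p => (k * p.1 * k⁻¹, k * p.2.1 * k⁻¹, k * p.2.2 * k⁻¹)
  have hcj : ∀ k ∈ F.Ksub, ∀ p ∈ T3, cj k p ∈ T3 := by
    intro k hk p hp
    obtain ⟨-, h1, h2, h3, h4⟩ := Finset.mem_filter.mp hp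
    refine Finset.mem_filter.mpr ⟨Finset.mem_univ _, F.ZK_conj hk h1, F.ZK_conj hk h2, F.ZK_conj hk h3, ?_⟩
    show k * p.1 * k⁻¹ * (k * p.2.1 * k⁻¹) * (k * p.1 * k⁻¹ * (k * p.2.1 * k⁻¹)) = k * p.2.2 * k⁻¹
    rw [conj_mul, conj_mul, h4]
  have hinv : ∀ (k : G) (p : G × G × G), cj k⁻¹ (cj k p) = p := fun k p => by
    simp only [cj]; refine Prod.ext ?_ (Prod.ext ?_ ?_) <;> simp [mul_assoc]
  have fibre : ∀ (π : G × G × G → G), (∀ k p, π (cj k p) = k * π p * k⁻¹) →
      (∀ p ∈ T3, π p ∈ ZS) → T3.card = ZS.card * (T3.filter fun p => π p = z).card := by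
    intro π hπ hmaps
    rw [Finset.card_eq_sum_card_fiberwise hmaps, Finset.sum_const_nat]
    intro x hx
    have hx' : F.ZK x := (Finset.mem_filter.mp hx).2
    have hkk := hk x hx'
    refine Finset.card_bij' (fun p _ => cj (k x hx') p) (fun p _ => cj (k x hx')⁻¹ p) ?_ ?_
      (fun p _ => hinv _ p) (fun p _ => by have := hinv (k x hx')⁻¹ p; rwa [inv_inv] at this)
    · intro p hp
      obtain ⟨hp, e⟩ := Finset.mem_filter.mp hp
      exact Finset.mem_filter.mpr ⟨hcj _ hkk p hp, by rw [hπ, e, hkz x hx']⟩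
    · intro p hp
      obtain ⟨hp, e⟩ := Finset.mem_filter.mp hp
      refine Finset.mem_filter.mpr ⟨hcj _ (inv_mem hkk) p hp, ?_⟩
      rw [hπ, e]
      calc (k x hx')⁻¹ * z * (k x hx')⁻¹⁻¹ =
            (k x hx')⁻¹ * (k x hx' * x * (k x hx')⁻¹) * k x hx' := by rw [hkz x hx', inv_inv]
        _ = x := by group
  have h1 := fibre (fun p => p.1) (fun k p => rfl) fun p hp =>
    Finset.mem_filter.mpr ⟨Finset.mem_univ _, (Finset.mem_filter.mp hp).2.1⟩
  have h2 := fibre (fun p => p.2.2) (fun k p => rfl) fun p hp =>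
    Finset.mem_filter.mpr ⟨Finset.mem_univ _, (Finset.mem_filter.mp hp).2.2.2.1⟩
  have hpos : 0 < ZS.card := Finset.card_pos.mpr
    ⟨z, Finset.mem_filter.mpr ⟨Finset.mem_univ _, F.z_mem_K, IsConj.refl z⟩⟩
  have h3 := Nat.eq_of_mul_eq_mul_left hpos (h1.symm.trans h2)
  have hA : (T3.filter fun p => p.1 = z).card =
      (Finset.univ.filter fun x : G => F.ZK x ∧ z * x ≠ x * z ∧ Even (orderOf (z * x))).card := by
    refine Finset.card_bij' (fun p _ => p.2.1) (fun x _ => (z, x, z * x * (z * x))) ?_ ?_ ?_ ?_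
    · intro p hp
      obtain ⟨hp, e⟩ := Finset.mem_filter.mp hp
      obtain ⟨-, -, h2', h3', h4⟩ := Finset.mem_filter.mp hp
      rw [e] at h4
      refine Finset.mem_filter.mpr ⟨Finset.mem_univ _, h2', fun hc => ?_, ?_⟩
      · refine (F.orderOf_zType h3'.2).2.1 ?_
        rw [← h4]
        calc z * p.2.1 * (z * p.2.1) = z * (p.2.1 * z) * p.2.1 := by group
          _ = z * z * (p.2.1 * p.2.1) := by rw [← hc]; group
          _ = 1 := by rw [h.zz, (F.orderOf_zType h2'.2).1, mul_one]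
      · have hmem : p.2.2 ∈ zpowers (z * p.2.1) := h4 ▸ mul_mem (mem_zpowers _) (mem_zpowers _)
        have h2d : orderOf p.2.2 = 2 := F.ord_two (F.orderOf_zType h3'.2).1 (F.orderOf_zType h3'.2).2.1
        exact even_iff_two_dvd.mpr (h2d ▸ orderOf_dvd_of_mem_zpowers hmem)
    · intro x hx
      obtain ⟨-, hx1, hx2, hx3⟩ := Finset.mem_filter.mp hx
      have hzK : F.ZK z := ⟨F.z_mem_K, IsConj.refl z⟩
      exact Finset.mem_filter.mpr ⟨Finset.mem_filter.mpr ⟨Finset.mem_univ _, hzK, hx1,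
        F.even_central hzK hx1 hx2 hx3, rfl⟩, rfl⟩
    · intro p hp
      obtain ⟨hp, e⟩ := Finset.mem_filter.mp hp
      obtain ⟨-, -, -, -, h4⟩ := Finset.mem_filter.mp hp
      rw [e] at h4
      exact Prod.ext e.symm (Prod.ext rfl h4)
    · intro x hx; rfl
  have hB : (T3.filter fun p => p.2.2 = z).card =
      (Finset.univ.filter fun p : G × G => F.ZK p.1 ∧ F.ZK p.2 ∧ p.1 * p.2 * (p.1 * p.2) = z).card := by
    refine Finset.card_bij' (fun p _ => (p.1, p.2.1)) (fun p _ => (p.1, p.2, z)) ?_ ?_ ?_ ?_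
    · intro p hp
      obtain ⟨hp, e⟩ := Finset.mem_filter.mp hp
      obtain ⟨-, h1', h2', -, h4⟩ := Finset.mem_filter.mp hp
      exact Finset.mem_filter.mpr ⟨Finset.mem_univ _, h1', h2', h4.trans e⟩
    · intro p hp
      obtain ⟨-, h1', h2', h4⟩ := Finset.mem_filter.mp hp
      exact Finset.mem_filter.mpr ⟨Finset.mem_filter.mpr
        ⟨Finset.mem_univ _, h1', h2', ⟨F.z_mem_K, IsConj.refl z⟩, h4⟩, rfl⟩
    · intro p hp
      exact Prod.ext rfl (Prod.ext rfl (Finset.mem_filter.mp hp).2.symm)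
    · intro p hp; rfl
  rw [← hA, ← hB, h3]

theorem card_even : Nat.card {x : G // F.ZK x ∧ Even (orderOf (z * x))} = 122 := by
  classical
  haveI := Fintype.ofFinite G
  have h1 := F.card_comm
  have h2 := F.card_noncomm
  rw [Nat.card_eq_fintype_card, Fintype.card_subtype] at h1 h2 ⊢
  rw [← Finset.card_filter_add_card_filter_not (fun x => z * x = x * z)]
  have e1 : ((Finset.univ.filter fun x : G => F.ZK x ∧ Even (orderOf (z * x))).filter
      fun x => z * x = x * z) = Finset.univ.filter fun x : G => F.ZK x ∧ x * z = z * x ∧ x ≠ z := by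
    ext x
    simp only [Finset.mem_filter, Finset.mem_univ, true_and]
    constructor
    · rintro ⟨⟨hx, he⟩, hc⟩
      refine ⟨hx, hc.symm, fun e => ?_⟩
      rw [e, h.zz, orderOf_one] at he
      exact absurd he (by decide)
    · rintro ⟨hx, hc, hne⟩
      refine ⟨⟨hx, ?_⟩, hc.symm⟩
      rw [F.ord_two ?_ fun e => hne ((eq_inv_of_mul_eq_one_right e).trans
        (inv_eq_of_mul_eq_one_left h.zz))]
      · exact even_two
      · calc z * x * (z * x) = z * (x * z) * x := by group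
          _ = z * z * (x * x) := by rw [hc]; group
          _ = 1 := by rw [h.zz, (F.orderOf_zType hx.2).1, mul_one]
  have e2 : ((Finset.univ.filter fun x : G => F.ZK x ∧ Even (orderOf (z * x))).filter
      fun x => ¬ z * x = x * z) =
      Finset.univ.filter fun x : G => F.ZK x ∧ z * x ≠ x * z ∧ Even (orderOf (z * x)) := by
    ext x
    simp only [Finset.mem_filter, Finset.mem_univ, true_and]
    tauto
  rw [e1, e2, h1, h2]

theorem ZK_mod (D : Five h s' w' g r) : Nat.card {x : G // F.ZK x} % 5 = 0 := by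
  classical
  haveI : Fact (Nat.Prime 5) := ⟨by norm_num⟩
  obtain ⟨y, hy, hyp⟩ := F.exists_order (p := 5) (Or.inl rfl)
  let α := {x : G // F.ZK x}
  letI : MulAction (zpowers y) α :=
    { smul := fun k u => ⟨(k : G) * u * (k : G)⁻¹, F.ZK_conj (zpowers_le.mpr hy k.2) u.2⟩
      one_smul := fun u => Subtype.ext (by
        show ((1 : zpowers y) : G) * u * ((1 : zpowers y) : G)⁻¹ = u
        simp)
      mul_smul := fun k k' u => Subtype.ext (by
        show ((k * k' : zpowers y) : G) * u * ((k * k' : zpowers y) : G)⁻¹ =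
          (k : G) * ((k' : G) * u * (k' : G)⁻¹) * (k : G)⁻¹
        rw [Subgroup.coe_mul]; group) }
  have hp : IsPGroup 5 (zpowers y) :=
    IsPGroup.of_card (n := 1) (by rw [Nat.card_zpowers, hyp, pow_one])
  have hmod : Nat.card α % 5 = Nat.card (MulAction.fixedPoints (zpowers y) α) % 5 :=
    hp.card_modEq_card_fixedPoints α
  haveI : IsEmpty (MulAction.fixedPoints (zpowers y) α) := ⟨fun ⟨⟨u, hu⟩, hfix⟩ => by
    have e : y * u * y⁻¹ = u := congrArg Subtype.val (hfix ⟨y, mem_zpowers y⟩)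
    exact F.y_no_z D (Or.inl rfl) hy hyp hu.2 (mul_inv_eq_iff_eq_mul.mp e).symm⟩
  rw [Nat.card_of_isEmpty (α := MulAction.fixedPoints (zpowers y) α)] at hmod
  exact hmod

theorem odd_bij :
    Nat.card {v : G // IsConj v t ∧ t ∈ zpowers (z * v)} =
      Nat.card {x : G // F.ZK x ∧ Odd (orderOf (z * x))} := by
  refine Nat.card_congr (Equiv.subtypeEquiv (Equiv.mulRight t) fun v => ?_)
  show IsConj v t ∧ t ∈ zpowers (z * v) ↔ F.ZK (v * t) ∧ Odd (orderOf (z * (v * t)))
  constructor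
  · rintro ⟨hvt, htw⟩
    have hv2 : v * v = 1 := sq_of_isConj F.t2 hvt
    obtain ⟨hzt, hvtc⟩ := CycInvol.commute h.zz hv2 htw F.t2
    rw [← mem_powers_iff_mem_zpowers, Submonoid.mem_powers_iff] at htw
    obtain ⟨m, hm⟩ := htw
    have hmodd : Odd m := by
      refine Nat.not_even_iff_odd.mp fun ⟨j, hj⟩ => ?_
      have hvi : v⁻¹ = v := inv_eq_of_mul_eq_one_left hv2
      have hxK : F.ZK (v * z * v⁻¹) := F.zK
        (((hvtc.mul_left hzt).mul_left hvtc.inv_left).eq) (isConj_iff.mpr ⟨v⁻¹, by group⟩)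
      have hpow : t = (z * (v * z * v⁻¹)) ^ j := by
        rw [hvi, ← CycInvol.sq, ← pow_two, ← pow_mul, show 2 * j = m by omega, hm]
      have hzK : F.ZK z := ⟨F.z_mem_K, IsConj.refl z⟩
      have := F.prod_pow_V hzK hxK j (by rw [← hpow]; exact Or.inr (Or.inl rfl))
      rw [← hpow] at this
      exact F.t_ne this
    obtain ⟨j, hj⟩ := hmodd
    refine ⟨F.zK ((hvtc.mul_left (Commute.refl t)).eq) ?_, ?_⟩
    · have e : v * t = v * (v * z) ^ (2 * j + 1) := by
        rw [← hj, show v * z = (z * v)⁻¹ by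
          rw [mul_inv_rev, inv_eq_of_mul_eq_one_left hv2, inv_eq_of_mul_eq_one_left h.zz],
          inv_pow, hm, F.t_inv]
      rw [e]
      exact (reflect hv2 h.zz j).2
    · have e : z * (v * t) = (z * v) ^ (m + 1) := by rw [pow_succ', hm, mul_assoc]
      have hone : (z * (v * t)) ^ m = 1 := by
        have h2 : (z * v) ^ (2 * m) = 1 := by rw [mul_comm, pow_mul, hm, pow_two, F.t2]
        rw [e, ← pow_mul, show (m + 1) * m = 2 * m * (j + 1) by rw [hj]; ring, pow_mul, h2, one_pow]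
      exact Odd.of_dvd_nat ⟨j, hj⟩ (orderOf_dvd_of_pow_eq_one hone)
  · rintro ⟨hx, hodd⟩
    have hxt : Commute (v * t) t := (F.mem_K.mp hx.1).1
    have hvt' : Commute v t := by
      have := hxt.mul_left (Commute.refl t)
      rwa [mul_assoc, F.t2, mul_one] at this
    have hx2 := (F.orderOf_zType hx.2).1
    have hv2 : v * v = 1 := by
      have : v * v * (t * t) = 1 := by
        rw [← hx2]
        calc v * v * (t * t) = v * (v * t) * t := by group
          _ = v * (t * v) * t := by rw [hvt'.eq]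
          _ = _ := by group
      rwa [F.t2, mul_one] at this
    have htV : t ∈ F.Vsub := Or.inr (Or.inl rfl)
    have hnz : ¬ IsConj v z := fun e => F.t_ne (F.coset_unique hx.1 hx.2 htV (by
      rwa [mul_assoc, F.t2, mul_one]))
    have hv1 : v ≠ 1 := fun e => by
      rw [e, one_mul] at hx
      exact F.t_not_z hx.2
    refine ⟨(F.types (F.ord_two hv2 hv1)).resolve_left hnz, ?_⟩
    obtain ⟨j, hj⟩ := hodd
    have hc : Commute (z * (v * t)) t := (show Commute z t from F.t_z.symm).mul_left hxt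
    have e : (z * v) ^ orderOf (z * (v * t)) = t := by
      rw [show z * v = z * (v * t) * t by rw [mul_assoc, mul_assoc v t t, F.t2, mul_one],
        hc.mul_pow, pow_orderOf_eq_one, one_mul, hj, pow_succ, pow_mul, pow_two, F.t2, one_pow,
        one_mul]
    exact e ▸ pow_mem (mem_zpowers _) _

/-- The number entering the order formula. -/
theorem card_odd_mod (D : Five h s' w' g r) :
    Nat.card {v : G // IsConj v t ∧ t ∈ zpowers (z * v)} % 5 = 3 := by
  classical
  haveI := Fintype.ofFinite G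
  rw [F.odd_bij]
  have h1 := F.ZK_mod D
  have h2 := F.card_even
  rw [Nat.card_eq_fintype_card, Fintype.card_subtype] at h1 h2 ⊢
  have h3 := Finset.card_filter_add_card_filter_not (s := Finset.univ.filter fun x : G => F.ZK x)
    (fun x => Even (orderOf (z * x)))
  rw [Finset.filter_filter, Finset.filter_filter, h2] at h3
  rw [show (Finset.univ.filter fun x : G => F.ZK x ∧ Odd (orderOf (z * x))) =
    Finset.univ.filter fun x : G => F.ZK x ∧ ¬ Even (orderOf (z * x)) by
      simp only [Nat.not_even_iff_odd]]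
  omega

end Frame

end Cfsg.Agent.H55.Suz
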