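import Cfsg.Agent.H65.CIT.Basic

/-!
Normalisers of subgroups of prime order.
-/

set_option autoImplicit false
set_option linter.unusedSectionVars false
set_option linter.style.haveILetI false

namespace Cfsg.Agent.H55.Suz.CyclicNorm

open Subgroup

variable {X : Type*} [Group X] [Finite X]

theorem centralizer_zpowers' (g : X) :
    centralizer ((zpowers g : Subgroup X) : Set X) = centralizer ({g} : Set X) := by
  rw [zpowers_eq_closure, centralizer_closure]

theorem exists_pow {g x : X} (hx : x ∈ normalizer ((zpowers g : Subgroup X) : Set X)) :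
    ∃ i : ℕ, x * g * x⁻¹ = g ^ i := by
  have h := (mem_normalizer_iff.mp hx g).mp (mem_zpowers g)
  rw [← mem_powers_iff_mem_zpowers, Submonoid.mem_powers_iff] at h
  obtain ⟨i, hi⟩ := h
  exact ⟨i, hi.symm⟩

theorem mem_normalizer_of_pow {g x : X} {p i : ℕ} (hp : p.Prime) (hg : orderOf g = p)
    (hx : x * g * x⁻¹ = g ^ i) : x ∈ normalizer ((zpowers g : Subgroup X) : Set X) := by
  have hle : (zpowers g).map (MulAut.conj x).toMonoidHom ≤ zpowers g := by
    rw [MonoidHom.map_zpowers, zpowers_le]
    show x * g * x⁻¹ ∈ zpowers g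
    rw [hx]
    exact pow_mem (mem_zpowers g) i
  have heq := eq_of_le_of_card_ge hle (Nat.card_congr
    ((zpowers g).equivMapOfInjective _ (MulAut.conj x).injective).toEquiv).le
  rw [mem_normalizer_iff]
  intro n
  constructor
  · intro hn
    exact hle ⟨n, hn, rfl⟩
  · intro hn
    rw [← heq] at hn
    obtain ⟨m, hm, e⟩ := hn
    exact (MulAut.conj x).injective e ▸ hm

theorem centralizer_le_normalizer (g : X) :
    centralizer ({g} : Set X) ≤ normalizer ((zpowers g : Subgroup X) : Set X) := by
  rw [← centralizer_zpowers']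
  exact Subgroup.centralizer_le_normalizer _

/-- The normaliser of a subgroup of prime order is an extension of the centraliser by a group of
order dividing `p - 1`. -/
theorem card_normalizer {g : X} {p : ℕ} (hp : p.Prime) (hg : orderOf g = p) :
    ∃ k, k ∣ p - 1 ∧ Nat.card (normalizer ((zpowers g : Subgroup X) : Set X)) =
      k * Nat.card (centralizer ({g} : Set X)) := by
  haveI : Fact p.Prime := ⟨hp⟩
  set N := normalizer ((zpowers g : Subgroup X) : Set X)
  refine ⟨Nat.card (zpowers g).normalizerMonoidHom.range, ?_, ?_⟩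
  · refine (card_subgroup_dvd_card _).trans ?_
    rw [IsCyclic.card_mulAut, Nat.card_zpowers, hg, Nat.totient_prime hp]
  · rw [← index_ker, ← index_mul_card (zpowers g).normalizerMonoidHom.ker, normalizerMonoidHom_ker]
    congr 1
    rw [centralizer_zpowers']
    exact Nat.card_congr (subgroupOfEquivOfLe (centralizer_le_normalizer g)).toEquiv

/-- In a simple group a Sylow subgroup of prime order is not central in its normaliser. -/
theorem normalizer_ne_centralizer [IsSimpleGroup X] {g : X} {p : ℕ} (hp : p.Prime)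
    (hg : orderOf g = p) (hsq : ¬ p ^ 2 ∣ Nat.card X) (hX : p ≠ Nat.card X) :
    Nat.card (normalizer ((zpowers g : Subgroup X) : Set X)) ≠
      Nat.card (centralizer ({g} : Set X)) := by
  haveI : Fact p.Prime := ⟨hp⟩
  intro hcard
  have heq := eq_of_le_of_card_ge (centralizer_le_normalizer g) hcard.le
  have hP : IsPGroup p (zpowers g) := IsPGroup.of_card (n := 1) (by rw [Nat.card_zpowers, hg, pow_one])
  obtain ⟨P, hPle⟩ := hP.exists_le_sylow
  have hPeq : zpowers g = (P : Subgroup X) := by
    refine eq_of_le_of_card_ge hPle ?_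
    obtain ⟨n, hn⟩ := IsPGroup.iff_card.mp P.isPGroup'
    rw [Nat.card_zpowers, hg, hn]
    have : n ≤ 1 := by
      by_contra h2
      exact hsq ((pow_dvd_pow p (by omega : 2 ≤ n)).trans (hn ▸ card_subgroup_dvd_card _))
    calc p ^ n ≤ p ^ 1 := Nat.pow_le_pow_right hp.pos this
      _ = p := pow_one p
  have hN : normalizer ((P : Subgroup X) : Set X) ≤ centralizer ((P : Subgroup X) : Set X) := by
    rw [← hPeq, centralizer_zpowers', heq]
  have hc := MonoidHom.ker_transferSylow_isComplement' P hN
  have hPc : Nat.card (P : Subgroup X) = p := by rw [← hPeq, Nat.card_zpowers, hg]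
  rcases (inferInstance : (MonoidHom.transferSylow P hN).ker.Normal).eq_bot_or_eq_top with e | e
  · have := hc.card_mul
    rw [e, card_bot, one_mul, hPc] at this
    exact hX this
  · have := hc.card_mul
    rw [e, card_top, hPc] at this
    exact hp.ne_one ((mul_eq_left₀ Nat.card_pos.ne').mp this)

/-- Sylow's congruence for a Sylow subgroup of prime order. -/
theorem index_normalizer_mod {g : X} {p : ℕ} (hp : p.Prime) (hg : orderOf g = p)
    (hsq : ¬ p ^ 2 ∣ Nat.card X) :
    (normalizer ((zpowers g : Subgroup X) : Set X)).index % p = 1 := by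
  haveI : Fact p.Prime := ⟨hp⟩
  have hP : IsPGroup p (zpowers g) := IsPGroup.of_card (n := 1) (by rw [Nat.card_zpowers, hg, pow_one])
  obtain ⟨P, hPle⟩ := hP.exists_le_sylow
  have hPeq : zpowers g = (P : Subgroup X) := by
    refine eq_of_le_of_card_ge hPle ?_
    obtain ⟨n, hn⟩ := IsPGroup.iff_card.mp P.isPGroup'
    rw [Nat.card_zpowers, hg, hn]
    have : n ≤ 1 := by
      by_contra h2
      exact hsq ((pow_dvd_pow p (by omega : 2 ≤ n)).trans (hn ▸ card_subgroup_dvd_card _))
    calc p ^ n ≤ p ^ 1 := Nat.pow_le_pow_right hp.pos this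
      _ = p := pow_one p
  have h1 := card_sylow_modEq_one (p := p) (G := X)
  rw [Sylow.card_eq_index_normalizer P] at h1
  rw [hPeq]
  exact Eq.trans (h1 : _ % p = 1 % p) (Nat.mod_eq_of_lt hp.one_lt)

end Cfsg.Agent.H55.Suz.CyclicNorm
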