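import Mathlib

/-!
A group of order eight generated by an element of order four and an inverting involution.
-/

set_option autoImplicit false

namespace Cfsg.Agent.H55.Suz

variable {G : Type*} [Group G] [Finite G]

theorem pow_val_add' {R : G} (hR : R ^ 4 = 1) (i j : ZMod 4) :
    R ^ (i + j).val = R ^ i.val * R ^ j.val := by
  rw [← pow_add, ZMod.val_add]
  exact (pow_eq_pow_mod _ hR).symm

theorem exists_dihedral (hG : Nat.card G = 8) {R S : G} (hR : R ^ 4 = 1) (hR2 : R ^ 2 ≠ 1)
    (hS : S * S = 1) (hSR : S * R * (S * R) = 1) (hne : ∀ k < 4, S ≠ R ^ k) :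
    Nonempty (G ≃* DihedralGroup 4) := by
  have hSinv : S⁻¹ = S := inv_eq_of_mul_eq_one_right hS
  have hRS : R * S = S * R⁻¹ := by
    calc R * S = S⁻¹ * (S * R * (S * R)) * R⁻¹ := by group
      _ = S * R⁻¹ := by rw [hSR, mul_one, hSinv]
  have hneg : ∀ i : ZMod 4, R ^ (-i).val = (R ^ i.val)⁻¹ := fun i =>
    eq_inv_of_mul_eq_one_left (by rw [← pow_val_add' hR, neg_add_cancel]; simp)
  have hk : ∀ i : ZMod 4, R ^ i.val * S = S * R ^ (-i).val := fun i => by
    have h : SemiconjBy S R⁻¹ R := hRS.symm
    rw [hneg, ← inv_pow]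
    exact ((h.pow_right i.val).eq).symm
  let f : DihedralGroup 4 →* G :=
    { toFun := fun d => match d with
        | DihedralGroup.r i => R ^ i.val
        | DihedralGroup.sr i => S * R ^ i.val
      map_one' := pow_zero R
      map_mul' := by
        rintro (i | i) (j | j)
        · exact pow_val_add' hR i j
        · show S * R ^ (j - i).val = R ^ i.val * (S * R ^ j.val)
          rw [← mul_assoc, hk, mul_assoc, ← pow_val_add' hR, neg_add_eq_sub]
        · show S * R ^ (i + j).val = S * R ^ i.val * R ^ j.val
          rw [mul_assoc, ← pow_val_add' hR]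
        · show R ^ (j - i).val = S * R ^ i.val * (S * R ^ j.val)
          rw [← mul_assoc, mul_assoc S, hk, ← mul_assoc, hS, one_mul, ← pow_val_add' hR,
            neg_add_eq_sub] }
  have hinj : Function.Injective f := by
    rw [injective_iff_map_eq_one]
    rintro (i | i) hi
    · have hi' : R ^ i.val = 1 := hi
      have hlt := ZMod.val_lt i
      have h : i.val = 0 ∨ i.val = 1 ∨ i.val = 2 ∨ i.val = 3 := by omega
      rcases h with h | h | h | h <;> rw [h] at hi'
      · rw [(ZMod.val_eq_zero i).mp h]; rfl
      · exact absurd (by rw [pow_one] at hi'; rw [hi', one_pow]) hR2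
      · exact absurd hi' hR2
      · exfalso
        rw [pow_succ, hi', one_mul] at hR
        exact hR2 (by rw [hR, one_pow])
    · exfalso
      have hi' : S * R ^ i.val = 1 := hi
      refine hne (-i).val (ZMod.val_lt _) ?_
      rw [hneg]
      exact eq_inv_of_mul_eq_one_left hi'
  refine ⟨(MulEquiv.ofBijective f ((Nat.bijective_iff_injective_and_card _).mpr ⟨hinj, ?_⟩)).symm⟩
  rw [hG, Nat.card_eq_fintype_card, DihedralGroup.card]

end Cfsg.Agent.H55.Suz
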