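import Cfsg.Agent.H55.Suz.FiveData
import Cfsg.Agent.H55.Suz.CentQuot
import Cfsg.Agent.H55.Suz.CyclicNorm
import Cfsg.Agent.H55.Suz.Dihedral
import Cfsg.Agent.S0848

/-!
The centraliser of the element of order five is `5 × X` with `X` of order 168 or 360, all of whose
involutions are conjugate.
-/

set_option autoImplicit false
set_option linter.unusedSectionVars false
set_option linter.style.haveILetI false

namespace Cfsg.Agent.H55.Suz

open Cfsg.Agent.H73.Suz Cfsg.Agent.H92.ExtraForm Subgroup QuadraticMap Cfsg.Agent.Orthogonal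

variable {G : Type*} [Group G] [Finite G]

theorem exists_mul_two_pow : ∀ k : ZMod 5, k ≠ 0 →
    k * 2 ^ 0 = 1 ∨ k * 2 ^ 1 = 1 ∨ k * 2 ^ 2 = 1 ∨ k * 2 ^ 3 = 1 := by decide

theorem two_ne_five : ∀ a : ZMod 5, a = 2 → a ≠ 0 := by decide

/-- In a group whose order is not divisible by `25` two elements of order five generate conjugate
subgroups. -/
theorem conj_zpowers {M : Subgroup G} (hM : ¬ 25 ∣ Nat.card M) {a b : G} (ha : a ∈ M) (hb : b ∈ M)
    (ha5 : orderOf a = 5) (hb5 : orderOf b = 5) :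
    ∃ d ∈ M, ∃ i : ℕ, d * b * d⁻¹ = a ^ i := by
  haveI : Fact (Nat.Prime 5) := ⟨by norm_num⟩
  have hp : ∀ x : G, orderOf x = 5 → IsPGroup 5 (zpowers x) := fun x hx =>
    IsPGroup.of_card (n := 1) (by rw [Nat.card_zpowers, hx, pow_one])
  obtain ⟨d, hd, hconj⟩ := exists_conj_le (p := 5) (zpowers_le.mpr ha) (hp a ha5)
    (fun U hU hU5 => by
      obtain ⟨n, hn⟩ := IsPGroup.iff_card.mp hU5
      have hn1 : n ≤ 1 := by
        by_contra h2
        exact hM ((show 25 ∣ 5 ^ n from (pow_dvd_pow 5 (by omega : 2 ≤ n))).trans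
          (hn ▸ card_dvd_of_le hU))
      rw [hn, Nat.card_zpowers, ha5]
      exact (Nat.pow_le_pow_right (by norm_num : (5 : ℕ) > 0) hn1).trans_eq (pow_one 5))
    (zpowers_le.mpr hb) (hp b hb5)
  have := hconj b (mem_zpowers b)
  rw [← mem_powers_iff_mem_zpowers, Submonoid.mem_powers_iff] at this
  obtain ⟨i, hi⟩ := this
  exact ⟨d, hd, i, hi.symm⟩

/-- `25` does not divide the order of `C(z)`. -/
theorem not_25 {z : G} {Q : Subgroup G} (h : Setup z Q) {M : Subgroup G}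
    (hM : ∀ x ∈ M, x * z = z * x) : ¬ 25 ∣ Nat.card M := by
  haveI : Fact (Nat.Prime 5) := ⟨by norm_num⟩
  intro hd
  obtain ⟨U, hU⟩ := Sylow.exists_subgroup_card_pow_prime (G := M) 5 (n := 2) hd
  let f : U →* O phi :=
    { toFun := fun x => h.ρ ((x : M) : G)
      map_one' := h.ρ_one
      map_mul' := fun a b => h.ρ_mul _ _ (hM _ (a : M).2) (hM _ (b : M).2) }
  have hinj : Function.Injective f := by
    rw [injective_iff_map_eq_one]
    intro x hx
    have hxQ := (h.ρ_ker _ (hM _ (x : M).2)).mp hx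
    have h4 := h.pow_four hxQ
    have h4' : x ^ 4 = 1 := Subtype.ext (Subtype.ext (by simpa using h4))
    have h25 : orderOf x ∣ 5 ^ 2 := hU ▸ orderOf_dvd_natCard x
    exact orderOf_eq_one_iff.mp (Nat.eq_one_of_dvd_coprimes
      (by norm_num : Nat.Coprime (5 ^ 2) 4) h25 (orderOf_dvd_of_pow_eq_one h4'))
  have := card_dvd_of_injective f hinj
  rw [hU, card_O_six] at this
  norm_num at this

namespace Five

variable {z : G} {Q : Subgroup G} {h : Setup z Q} {s w g r : G} (D : Five h s w g r)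

include D

theorem rho_conj_five {c : G} (hc : c * z = z * c) :
    h.ρ (c * g * c⁻¹) = h.ρ c * Cfsg.Agent.H73.Suz.g5 * (h.ρ c)⁻¹ := by
  rw [h.ρ_conj hc D.gz, D.hρ]

/-- An element of `C(z)` squaring `g` and moving `s` to `r`. -/
theorem exists_square : ∃ c, c * z = z * c ∧ c * g * c⁻¹ = g ^ 2 ∧
    (c * s * c⁻¹ = r ∨ c * s * c⁻¹ = r * z) := by
  haveI : Finite (O phi) := Nat.finite_of_card_ne_zero (by rw [card_O_six]; norm_num)
  obtain ⟨c, hc, hρ⟩ := h.ρ_surj sqO sqO_mem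
  let M : Subgroup G :=
    { carrier := {x | x * z = z * x ∧ h.ρ x ∈ zpowers Cfsg.Agent.H73.Suz.g5}
      one_mem' := ⟨by simp, by rw [h.ρ_one]; exact one_mem _⟩
      mul_mem' := fun ha hb => ⟨h.mul_comm' ha.1 hb.1, by
        rw [h.ρ_mul _ _ ha.1 hb.1]; exact mul_mem ha.2 hb.2⟩
      inv_mem' := fun ha => ⟨h.inv_comm ha.1, by rw [h.ρ_inv ha.1]; exact inv_mem ha.2⟩ }
  have hg : g ∈ M := ⟨D.gz, by rw [D.hρ]; exact mem_zpowers _⟩
  have hρb : h.ρ (c * g * c⁻¹) = Cfsg.Agent.H73.Suz.g5 ^ 2 := by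
    rw [D.rho_conj_five hc, hρ, sqO_g5, mul_inv_cancel_right]
  have hb : c * g * c⁻¹ ∈ M := ⟨h.conj_comm hc D.gz, by rw [hρb]; exact pow_mem (mem_zpowers _) 2⟩
  obtain ⟨d, ⟨hdz, hdρ⟩, i, hi⟩ := conj_zpowers (not_25 h (M := M) fun x hx => hx.1) hg hb D.ord
    (by rw [H65.orderOf_conj', D.ord])
  have hi2 : g ^ i = g ^ 2 := by
    have h1 : h.ρ (g ^ i) = Cfsg.Agent.H73.Suz.g5 ^ 2 := by
      obtain ⟨k, hk⟩ := mem_zpowers_iff.mp hdρ
      rw [← hi, h.ρ_conj hdz (h.conj_comm hc D.gz), hρb, ← hk,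
        (((Commute.refl Cfsg.Agent.H73.Suz.g5).zpow_left k).pow_right 2).eq, mul_inv_cancel_right]
    rw [h.ρ_pow D.gz, D.hρ, pow_eq_pow_iff_modEq, g5_order] at h1
    rw [pow_eq_pow_iff_modEq, D.ord]
    exact h1
  refine ⟨d * c, h.mul_comm' hdz hc, ?_, ?_⟩
  · rw [show d * c * g * (d * c)⁻¹ = d * (c * g * c⁻¹) * d⁻¹ by group, hi, hi2]
  · have hdc := h.mul_comm' hdz hc
    obtain ⟨k, hk⟩ : ∃ k : ℕ, Cfsg.Agent.H73.Suz.g5 ^ k = h.ρ d := by
      rw [← mem_powers_iff_mem_zpowers, Submonoid.mem_powers_iff] at hdρ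
      exact hdρ
    refine h.π_eq D.hr (h.norm _ hdc s D.P.hs) ?_
    rw [h.ρ_π _ hdc s D.P.hs, D.P.hπ, h.ρ_mul _ _ hdz hc, hρ, ← hk, D.hrπ, Subgroup.coe_mul,
      mul_app, sqO_app, g5_pow_app]
    exact Prod.ext rfl (Function.iterate_fixed (by decide) k).symm

/-- An element of `C(g)` moving `z` to `s`. -/
theorem exists_zs : ∃ u, u * g = g * u ∧ u * z * u⁻¹ = s := by
  obtain ⟨c, hc, hcg, -⟩ := D.exists_square
  have hM : ∀ x ∈ centralizer ({z} : Set G) ⊓ centralizer ({s} : Set G), x * z = z * x :=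
    fun x hx => mem_centralizer_singleton_iff.mp hx.1
  have hg : g ∈ centralizer ({z} : Set G) ⊓ centralizer ({s} : Set G) :=
    ⟨mem_centralizer_singleton_iff.mpr D.gz, mem_centralizer_singleton_iff.mpr D.gs⟩
  have hb : w * g * w⁻¹ ∈ centralizer ({z} : Set G) ⊓ centralizer ({s} : Set G) := by
    constructor
    · exact mem_centralizer_singleton_iff.mpr (by rw [← D.P.hw2, conj_mul, conj_mul, D.gs])
    · exact mem_centralizer_singleton_iff.mpr (by rw [← D.P.hw1, conj_mul, conj_mul, D.gz])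
  obtain ⟨d, hd, k, hk⟩ := conj_zpowers (not_25 h hM) hg hb D.ord (by rw [H65.orderOf_conj', D.ord])
  set v := d * w with hv
  have hvg : v * g * v⁻¹ = g ^ k := by rw [hv, ← hk]; group
  have hvz : v * z * v⁻¹ = s := by
    rw [hv, show d * w * z * (d * w)⁻¹ = d * (w * z * w⁻¹) * d⁻¹ by group, D.P.hw1,
      mem_centralizer_singleton_iff.mp hd.2, mul_inv_cancel_right]
  have hk0 : (k : ZMod 5) ≠ 0 := fun e => by
    rw [ZMod.natCast_eq_zero_iff, ← D.ord, orderOf_dvd_iff_pow_eq_one] at e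
    rw [e, conj_eq_one_iff] at hvg
    exact D.g_ne hvg
  have hpow : ∀ n : ℕ, c ^ n * g * (c ^ n)⁻¹ = g ^ (2 ^ n) := by
    intro n
    induction n with
    | zero => simp
    | succ n ih =>
      calc c ^ (n + 1) * g * (c ^ (n + 1))⁻¹ = c * (c ^ n * g * (c ^ n)⁻¹) * c⁻¹ := by
            rw [pow_succ']; group
        _ = g ^ (2 ^ (n + 1)) := by rw [ih, ← conj_pow, hcg, ← pow_mul, ← pow_succ']
  obtain ⟨n, hn⟩ : ∃ n : ℕ, (k : ZMod 5) * 2 ^ n = 1 := by
    rcases exists_mul_two_pow _ hk0 with e | e | e | e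
    exacts [⟨0, e⟩, ⟨1, e⟩, ⟨2, e⟩, ⟨3, e⟩]
  refine ⟨v * c ^ n, mul_inv_eq_iff_eq_mul.mp ?_, ?_⟩
  · rw [show v * c ^ n * g * (v * c ^ n)⁻¹ = v * (c ^ n * g * (c ^ n)⁻¹) * v⁻¹ by group, hpow,
      ← conj_pow, hvg, ← pow_mul]
    conv_rhs => rw [← pow_one g]
    rw [pow_eq_pow_iff_modEq, D.ord]
    exact (ZMod.natCast_eq_natCast_iff _ _ 5).mp (by push_cast; exact hn)
  · rw [show v * c ^ n * z * (v * c ^ n)⁻¹ = v * (c ^ n * z * (c ^ n)⁻¹) * v⁻¹ by group,
      ((show Commute c z from hc).pow_left n).eq, mul_inv_cancel_right, hvz]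

theorem sr_sq : s * r * (s * r) = z := by
  calc s * r * (s * r) = s * (r * s * r⁻¹) * (r * r) := by group
    _ = z := by rw [D.hrs, D.rr, mul_one, ← mul_assoc, D.P.ss, one_mul]

theorem rs_conj : s * r * s⁻¹ = r * z := by
  have hsi : s⁻¹ = s := inv_eq_of_mul_eq_one_left D.P.ss
  have hri : r⁻¹ = r := inv_eq_of_mul_eq_one_left D.rr
  calc s * r * s⁻¹ = r * (r⁻¹ * s * r) * s⁻¹ := by group
    _ = r * (r * s * r⁻¹) * s := by rw [hri, hsi]
    _ = r * (s * z * s) := by rw [D.hrs]; group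
    _ = r * z := by rw [mul_assoc s z s, ← D.P.sz, ← mul_assoc s s z, D.P.ss, one_mul]

theorem mem_C (x : G) : x ∈ centralizer ({g} : Set G) ↔ x * g = g * x :=
  mem_centralizer_singleton_iff

/-- The centraliser of `z` modulo `⟨g⟩`. -/
theorem cent_equiv :
    Nonempty (↥(centralizer ({CentQuot.pr g ⟨z, (D.mem_C z).mpr D.gz.symm⟩} :
      Set (CentQuot.XQ g))) ≃* DihedralGroup 4) := by
  have h5 : Odd 5 := by decide
  set zC : ↥(centralizer ({g} : Set G)) := ⟨z, (D.mem_C z).mpr D.gz.symm⟩ with hzC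
  set rC : ↥(centralizer ({g} : Set G)) := ⟨r, (D.mem_C r).mpr D.rg⟩
  set sC : ↥(centralizer ({g} : Set G)) := ⟨s, (D.mem_C s).mpr D.gs.symm⟩
  set Z := centralizer ({CentQuot.pr g zC} : Set (CentQuot.XQ g))
  let j : D.Dg →* Z :=
    { toFun := fun q => ⟨CentQuot.pr g ⟨q, q.2.2⟩, mem_centralizer_singleton_iff.mpr (by
        rw [← map_mul, ← map_mul]
        exact congrArg _ (Subtype.ext (h.le _ q.2.1)))⟩
      map_one' := Subtype.ext (map_one (CentQuot.pr g))
      map_mul' := fun a b => Subtype.ext (map_mul (CentQuot.pr g) ⟨a, a.2.2⟩ ⟨b, b.2.2⟩) }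
  have hj : Function.Bijective j := by
    constructor
    · rw [injective_iff_map_eq_one]
      intro q hq
      exact Subtype.ext (D.Q_inter q.2.1 (CentQuot.pr_one.mp (congrArg Subtype.val hq)))
    · rintro ⟨a, ha⟩
      obtain ⟨c, rfl⟩ := CentQuot.pr_surj g a
      have hcz := CentQuot.commute_lift h5 D.ord (i := zC) h.hzo
        (mem_centralizer_singleton_iff.mp ha)
      obtain ⟨q, i, hq, hqg, e⟩ := D.cent hcz ((D.mem_C _).mp c.2)
      refine ⟨⟨q, hq, (D.mem_C q).mpr hqg⟩, Subtype.ext ?_⟩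
      show CentQuot.pr g _ = CentQuot.pr g c
      refine (QuotientGroup.eq (s := CentQuot.Nx g)).mpr ?_
      show q⁻¹ * (c : G) ∈ zpowers g
      rw [e, inv_mul_cancel_left]
      exact pow_mem (mem_zpowers g) i
  set k : D.Dg := ⟨s * r, mul_mem D.P.hs D.hr,
    (D.mem_C _).mpr ((show Commute s g from D.gs.symm).mul_left D.rg).eq⟩
  set sD : D.Dg := ⟨s, D.P.hs, (D.mem_C _).mpr D.gs.symm⟩
  have hk2 : k ^ 2 = ⟨z, h.hzQ, (D.mem_C _).mpr D.gz.symm⟩ :=
    Subtype.ext (by rw [SubmonoidClass.coe_pow, pow_two]; exact D.sr_sq)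
  refine (exists_dihedral D.card_Dg (R := k) (S := sD) ?_ ?_ ?_ ?_ ?_).map fun e =>
    (MulEquiv.ofBijective j hj).symm.trans e
  · rw [show 4 = 2 * 2 from rfl, pow_mul, hk2, pow_two]; exact Subtype.ext h.zz
  · rw [hk2]; exact fun e => h.z_ne (congrArg Subtype.val e)
  · exact Subtype.ext D.P.ss
  · refine Subtype.ext ?_
    show s * (s * r) * (s * (s * r)) = 1
    rw [show s * (s * r) = r by rw [← mul_assoc, D.P.ss, one_mul]]
    exact D.rr
  · intro n hn e
    have e' : s = (s * r) ^ n := by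
      have := congrArg Subtype.val e
      rwa [SubmonoidClass.coe_pow] at this
    have hπ := congrArg h.π e'
    interval_cases n
    · rw [pow_zero, D.P.hπ, h.π_one] at hπ; exact v0_ne hπ
    · rw [pow_one, D.P.hπ, h.π_mul _ D.P.hs _ D.hr, D.P.hπ, D.hrπ] at hπ
      exact absurd hπ (by decide)
    · rw [pow_two, D.sr_sq, D.P.hπ, h.π_z] at hπ; exact v0_ne hπ
    · rw [show (s * r) ^ 3 = z * (s * r) by rw [pow_succ, pow_two, D.sr_sq], D.P.hπ,
        h.π_mul _ h.hzQ _ (mul_mem D.P.hs D.hr), h.π_z, h.π_mul _ D.P.hs _ D.hr, D.P.hπ,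
        D.hrπ] at hπ
      exact absurd hπ (by decide)

/-- All involutions of `C(g)` are conjugate to `z` in it. -/
theorem invol_conj {i : G} (hig : i * g = g * i) (hi : orderOf i = 2) :
    ∃ u, u * g = g * u ∧ u * z * u⁻¹ = i := by
  haveI : Fact (Nat.Prime 2) := ⟨Nat.prime_two⟩
  have h5 : Odd 5 := by decide
  obtain ⟨e⟩ := D.cent_equiv
  set zC : ↥(centralizer ({g} : Set G)) := ⟨z, (D.mem_C z).mpr D.gz.symm⟩
  set iC : ↥(centralizer ({g} : Set G)) := ⟨i, (D.mem_C i).mpr hig⟩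
  obtain ⟨S, hS⟩ := H65.DihedralFusion.exists_sylow e (CentQuot.pr_orderOf h5 D.ord (i := zC) h.hzo)
  have hi' := CentQuot.pr_orderOf h5 D.ord (i := iC) hi
  have hp : IsPGroup 2 (zpowers (CentQuot.pr g iC)) :=
    IsPGroup.of_card (n := 1) (by rw [Nat.card_zpowers, hi', pow_one])
  obtain ⟨S', hS'⟩ := hp.exists_le_sylow
  obtain ⟨a, ha⟩ := MulAction.exists_smul_eq (CentQuot.XQ g) S' S
  obtain ⟨c, rfl⟩ := CentQuot.pr_surj g a
  have hmem : CentQuot.pr g c * CentQuot.pr g iC * (CentQuot.pr g c)⁻¹ ∈ (S : Subgroup _) := by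
    rw [← ha]
    exact ⟨_, hS' (mem_zpowers _), rfl⟩
  rw [hS] at hmem
  set i' : ↥(centralizer ({g} : Set G)) := c * iC * c⁻¹ with hi'd
  have hi'2 : orderOf (i' : G) = 2 := by
    show orderOf ((c : G) * i * (c : G)⁻¹) = 2
    rw [H65.orderOf_conj', hi]
  have hi'z := CentQuot.commute_lift h5 D.ord (i := zC) (c := i') h.hzo
    (by rw [hi'd, map_mul, map_mul, map_inv]; exact mem_centralizer_singleton_iff.mp hmem)
  obtain ⟨q, n, hq, hqg, eq'⟩ := D.cent hi'z ((D.mem_C _).mp i'.2)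
  have h2 : (i' : G) * i' = 1 := by rw [← pow_two, ← hi'2, pow_orderOf_eq_one]
  -- the part of order five is trivial
  have hqi : q * g ^ n = g ^ n * q := ((show Commute q g from hqg).pow_right n).eq
  have hgn : g ^ n = 1 := by
    have h4 : q ^ 4 = 1 := h.pow_four hq
    have : (g ^ n) ^ 4 = 1 := by
      have h24 : (q * g ^ n) ^ 4 = 1 := by
        rw [← eq', show (i' : G) ^ 4 = (i' : G) * i' * ((i' : G) * i') by
          simp [pow_succ, mul_assoc], h2, one_mul]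
      rwa [(show Commute q (g ^ n) from hqi).mul_pow, h4, one_mul] at h24
    exact orderOf_eq_one_iff.mp (Nat.eq_one_of_dvd_coprimes (by norm_num : Nat.Coprime 4 5)
      (orderOf_dvd_of_pow_eq_one this)
      (D.ord ▸ orderOf_dvd_of_mem_zpowers (pow_mem (mem_zpowers g) n)))
  rw [hgn, mul_one] at eq'
  obtain ⟨u, hug, huz⟩ := D.exists_zs
  obtain ⟨c', hc', hc'g, hc's⟩ := D.exists_square
  -- conjugates of `z` inside the dihedral group
  have hconj : ∀ x, (∃ u, u * g = g * u ∧ u * z * u⁻¹ = x) → ∀ m, m * g = g * m →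
      ∃ u, u * g = g * u ∧ u * z * u⁻¹ = m * x * m⁻¹ := by
    rintro x ⟨u, hu, rfl⟩ m hm
    exact ⟨m * u, ((show Commute m g from hm).mul_left hu).eq, by group⟩
  have hr' : ∃ u, u * g = g * u ∧ u * z * u⁻¹ = r := by
    have h1 : ∃ u', u' * g = g * u' ∧ u' * z * u'⁻¹ = c' * s * c'⁻¹ := by
      refine ⟨c' * u * c'⁻¹, ?_, ?_⟩
      · have hu2 : u * (c'⁻¹ * g * c') = c'⁻¹ * g * c' * u := by
          have hm : c' ∈ normalizer ((zpowers g : Subgroup G) : Set G) :=
            CyclicNorm.mem_normalizer_of_pow (by norm_num) D.ord hc'g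
          obtain ⟨m, hm'⟩ := CyclicNorm.exists_pow ((normalizer _).inv_mem hm)
          rw [inv_inv] at hm'
          rw [hm', ((show Commute u g from hug).pow_right m).eq]
        calc c' * u * c'⁻¹ * g = c' * (u * (c'⁻¹ * g * c')) * c'⁻¹ := by group
          _ = g * (c' * u * c'⁻¹) := by rw [hu2]; group
      · calc c' * u * c'⁻¹ * z * (c' * u * c'⁻¹)⁻¹
            = c' * (u * (c'⁻¹ * (z * c')) * u⁻¹) * c'⁻¹ := by group
          _ = _ := by rw [← hc', inv_mul_cancel_left, huz]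
    rcases hc's with e' | e' <;> rw [e'] at h1
    · exact h1
    · have := hconj _ h1 s D.gs.symm
      rwa [← conj_mul, D.rs_conj, D.P.sz, mul_inv_cancel_right, mul_assoc, h.zz, mul_one] at this
  have hback : (∃ u, u * g = g * u ∧ u * z * u⁻¹ = (i' : G)) →
      ∃ u, u * g = g * u ∧ u * z * u⁻¹ = i := by
    intro hh
    have := hconj _ hh (c : G)⁻¹ ((show Commute (c : G) g from (D.mem_C _).mp c.2).inv_left).eq
    convert this using 4
    show i = (c : G)⁻¹ * ((c : G) * i * (c : G)⁻¹) * (c : G)⁻¹⁻¹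
    group
  apply hback
  rw [eq'] at h2 ⊢
  have hq1 : q ≠ 1 := fun e' => by rw [eq', e', orderOf_one] at hi'2; norm_num at hi'2
  obtain ⟨⟨i0, j0, k0⟩, hp0⟩ := D.dEl_bij.2 ⟨q, hq, (D.mem_C q).mpr hqg⟩
  have eqd : q = D.dEl (i0, j0, k0) := (congrArg Subtype.val hp0).symm
  rw [eqd] at h2 hq1 ⊢
  rcases two_cases' j0 with rfl | rfl <;> rcases two_cases' k0 with rfl | rfl <;>
    rcases two_cases' i0 with rfl | rfl <;>
    simp only [dEl, zp_zero, zp_one, one_mul, mul_one] at h2 hq1 ⊢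
  · exact absurd rfl hq1
  · exact ⟨1, by simp, by simp⟩
  · exact hr'
  · have := hconj _ hr' s D.gs.symm
    rwa [D.rs_conj, D.rz] at this
  · exact ⟨u, hug, huz⟩
  · have := hconj _ ⟨u, hug, huz⟩ r D.rg
    rwa [D.hrs, D.P.sz] at this
  · exfalso
    rw [D.sr_sq] at h2
    exact h.z_ne h2
  · exfalso
    refine h.z_ne ?_
    rw [← D.sr_sq]
    have hz2 : Commute z (s * r) := ((show Commute z s from D.P.sz.symm).mul_right D.rz.symm)
    have h3 : z * s * r * (z * s * r) = z * z * (s * r * (s * r)) := by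
      rw [mul_assoc z s r]
      calc z * (s * r) * (z * (s * r)) = z * ((s * r) * z) * (s * r) := by group
        _ = z * (z * (s * r)) * (s * r) := by rw [hz2.eq]
        _ = _ := by group
    rwa [h3, h.zz, one_mul] at h2

theorem X_simple : IsSimpleGroup (CentQuot.XQ g) := by
  obtain ⟨e⟩ := D.cent_equiv
  have h5 : Odd 5 := by decide
  refine H65.DihedralFusion.isSimpleGroup e (CentQuot.pr_orderOf h5 D.ord
    (i := ⟨z, (D.mem_C z).mpr D.gz.symm⟩) h.hzo) fun v hv => ?_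
  obtain ⟨i, hi, rfl⟩ := CentQuot.invol_lift h5 D.ord hv
  obtain ⟨u, hu, hui⟩ := D.invol_conj ((D.mem_C _).mp i.2) hi
  refine isConj_iff.mpr ⟨CentQuot.pr g ⟨u, (D.mem_C u).mpr hu⟩, ?_⟩
  rw [← map_inv, ← map_mul, ← map_mul]
  exact congrArg _ (Subtype.ext hui)

theorem X_card : Nat.card (CentQuot.XQ g) = 168 ∨ Nat.card (CentQuot.XQ g) = 360 := by
  obtain ⟨e⟩ := D.cent_equiv
  haveI := D.X_simple
  refine S0848.result ?_ _ (CentQuot.pr_orderOf (by decide : Odd 5) D.ord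
    (i := ⟨z, (D.mem_C z).mpr D.gz.symm⟩) h.hzo) e
  rcases (inferInstance : (commutator (CentQuot.XQ g)).Normal).eq_bot_or_eq_top with hb | ht
  · exfalso
    have hcomm : ∀ a b : CentQuot.XQ g, a * b = b * a := fun a b => by
      have := Subgroup.commutator_mem_commutator (mem_top a) (mem_top b)
      rw [← _root_.commutator_def, hb, mem_bot] at this
      exact commutatorElement_eq_one_iff_mul_comm.mp this
    have key : DihedralGroup.r (1 : ZMod 4) * .sr 0 ≠ .sr 0 * .r 1 := by decide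
    apply key
    apply e.symm.injective
    rw [map_mul, map_mul]
    exact Subtype.ext (hcomm _ _)
  · exact ht

end Five

end Cfsg.Agent.H55.Suz
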