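import Cfsg.Agent.H55.Suz.NoSet
import Cfsg.Agent.H55.Suz.FiveX

/-!
The number of conjugates `u` of `z` in `C(z)` with `z` a power of `u t` is `1` modulo five.
-/

set_option autoImplicit false
set_option linter.unusedSectionVars false
set_option linter.style.haveILetI false
set_option synthInstance.maxSize 4000
set_option synthInstance.maxHeartbeats 400000
set_option maxRecDepth 20000

namespace Cfsg.Agent.H55.Suz

open Cfsg.Agent.H73.Suz QuadraticMap Cfsg.Agent.Orthogonal Cfsg.Agent.H92.ExtraForm Subgroup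

theorem card_fix : (Finset.univ.filter fun p : ZMod 2 × ZMod 2 × ZMod 2 =>
    p ≠ 0 ∧ p.2.1 * p.2.2 = 0).card = 5 := by decide

namespace Frame

variable {G : Type*} [Group G] [Finite G] {z : G} {Q : Subgroup G} {h : Setup z Q}
variable {s w t om hh : G} (F : Frame h s w t om hh)
variable {s' w' g r : G}

include F

local notation "W[" x ", " p "]" => IsW h s w x p

theorem card_U {v : V6} (hv : v ∈ P4) : Nat.card {u : G // F.InU v u} = 32 := by
  classical
  obtain ⟨hxQ, hxπ, hx2, hx1, hxz, hxs, hxW, hxt⟩ := F.xl_props hv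
  obtain ⟨g₀, hg, hgx⟩ := h.exists_conj_s F.P.hs F.P.hπ hxQ hx2 hx1 hxz
  set sg := g₀ * s * g₀⁻¹ with hsg
  have hsgQ : sg ∈ Q := h.norm g₀ hg s F.P.hs
  have hsgs : sg * s = s * sg := by
    conv_lhs => rw [← hgx]
    conv_rhs => rw [← hgx]
    rw [hsg, conj_mul, conj_mul, hxs]
  have hW := isW_of_Q F.P hsgQ hsgs
  set a := (h.π sg).2
  have hd : (h.π sg).1.2 = 0 := (F.P.commA hsgQ).mp hsgs
  have haq : qU a = 0 := by
    have h1 := (h.sq_one_iff hsgQ).mp (by rw [hsg, conj_mul, F.P.ss, mul_one, mul_inv_cancel])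
    rwa [phi_apply, hd, mul_zero, zero_add] at h1
  have ha0 : a ≠ 0 := fun e => by
    have hinj : ∀ y, (h.ρ g₀ : V6 ≃ₗ[ZMod 2] V6) y = h.π s →
        y = h.π (F.xl v) := fun y hy => by
      apply (h.ρ g₀ : V6 ≃ₗ[ZMod 2] V6).injective
      rw [hy, ← h.ρ_π g₀ hg _ hxQ, hgx]
    rcases cases_of_snd (y := h.π sg) (by rw [polar_v0]; exact hd) e with e' | e'
    · rw [h.ρ_π g₀ hg s F.P.hs, LinearEquiv.map_eq_zero_iff, F.P.hπ] at e'
      exact v0_ne e'
    · have h1 := hinj (h.π s) (by rw [← h.ρ_π g₀ hg s F.P.hs, F.P.hπ]; exact e')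
      rw [F.P.hπ, hxπ] at h1
      exact (P4_props v hv).2.2.1 (by rw [← h1]; rfl)
  rw [show (32 : ℕ) = 4 * 8 from rfl, ← card_B0 a haq ha0, ← F.card_fibre]
  refine Nat.card_congr (Equiv.subtypeEquiv (MulAut.conj g₀).toEquiv fun u => ?_)
  show F.InU v u ↔ ∃ p ∈ _, W[g₀ * u * g₀⁻¹, p]
  constructor
  · rintro ⟨huz, huc, huQ, hux, hus⟩
    have hz' : IsConj (g₀ * u * g₀⁻¹) z :=
      (isConj_iff.mpr ⟨g₀, rfl⟩ : IsConj u (g₀ * u * g₀⁻¹)).symm.trans huz
    obtain ⟨p, hp⟩ := F.mem_W hz' (h.conj_comm hg huc) (by rw [← hgx, conj_mul, conj_mul, hux])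
    obtain ⟨h1, h2⟩ := F.zres hp hz'
    refine ⟨p, Finset.mem_filter.mpr ⟨Finset.mem_univ _, h1, h2,
      fun e => huQ ((F.conj_Q_iff hg).mp ((mem_Q_iff F.P hp).mpr e)), fun e => hus ?_⟩, hp⟩
    have h3 := (isW_commute_iff F.P hp hW).mpr e
    rw [hsg, conj_mul, conj_mul] at h3
    exact mul_left_cancel (mul_right_cancel h3)
  · rintro ⟨p, hp, hW'⟩
    obtain ⟨-, h1, h2, h3, h4⟩ := Finset.mem_filter.mp hp
    have hne : g₀ * u * g₀⁻¹ ≠ 1 := fun e => h3 (by
      rw [isW_unique F.P hW' (e.symm ▸ isW_one F.P)]; rfl)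
    have hsq : g₀ * u * g₀⁻¹ * (g₀ * u * g₀⁻¹) = 1 := by
      rw [isW_sq F.P hW', h1]; simp [tt, zp]
    have hz' := (F.isConj_z_iff hW' hsq hne).mpr h2
    obtain ⟨hcz, hcs⟩ := isW_cz F.P hW'
    refine ⟨(isConj_iff.mpr ⟨g₀, rfl⟩ : IsConj u (g₀ * u * g₀⁻¹)).trans hz', ?_,
      fun e => h3 ((mem_Q_iff F.P hW').mp ((F.conj_Q_iff hg).mpr e)), ?_, fun e => h4 ?_⟩
    · have h5 := h.conj_comm (h.inv_comm hg) hcz
      rwa [show g₀⁻¹ * (g₀ * u * g₀⁻¹) * g₀⁻¹⁻¹ = u by group] at h5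
    · have h5 : g₀ * u * g₀⁻¹ * (g₀ * F.xl v * g₀⁻¹) = g₀ * F.xl v * g₀⁻¹ * (g₀ * u * g₀⁻¹) := by
        rw [hgx]; exact hcs
      rw [conj_mul, conj_mul] at h5
      exact mul_left_cancel (mul_right_cancel h5)
    · exact (isW_commute_iff F.P hW' hW).mp (by rw [hsg, conj_mul, conj_mul, e])

theorem card_No_s : Nat.card {u : G // F.No u ∧ u * s = s * u} = 51 := by
  classical
  haveI := Fintype.ofFinite G
  set A := Finset.univ.filter fun p : R2 => sqv p = 0 ∧ qU p.1 = 0 ∧ bil p tb ≠ (1, 0)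
  have h52 := F.card_fibre A
  rw [card_A0, Nat.card_eq_fintype_card, Fintype.card_subtype] at h52
  rw [Nat.card_eq_fintype_card, Fintype.card_subtype]
  have hmem : (1 : G) ∈ Finset.univ.filter fun x : G => ∃ p ∈ A, W[x, p] :=
    Finset.mem_filter.mpr ⟨Finset.mem_univ _, 0,
      Finset.mem_filter.mpr ⟨Finset.mem_univ _, by decide⟩, isW_one F.P⟩
  have heq : (Finset.univ.filter fun u : G => F.No u ∧ u * s = s * u) =
      (Finset.univ.filter fun x : G => ∃ p ∈ A, W[x, p]).erase 1 := by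
    ext u
    rw [Finset.mem_erase, Finset.mem_filter, Finset.mem_filter]
    simp only [Finset.mem_univ, true_and]
    constructor
    · rintro ⟨hno, hus⟩
      obtain ⟨p, hp⟩ := F.mem_W hno.1 hno.2.1 hus
      obtain ⟨h1, h2⟩ := F.zres hp hno.1
      exact ⟨(F.zsq hno.1).2, p, Finset.mem_filter.mpr
        ⟨Finset.mem_univ _, h1, h2, (F.W_no hp hno.1).mp hno⟩, hp⟩
    · rintro ⟨hu1, p, hp, hW⟩
      obtain ⟨-, h1, h2, h3⟩ := Finset.mem_filter.mp hp
      have hsq : u * u = 1 := by rw [isW_sq F.P hW, h1]; simp [tt, zp]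
      exact ⟨(F.W_no hW ((F.isConj_z_iff hW hsq hu1).mpr h2)).mpr h3, (isW_cz F.P hW).2⟩
  rw [heq, Finset.card_erase_of_mem hmem, h52]

theorem card_No : Nat.card {u : G // F.No u} = 179 := by
  classical
  haveI := Fintype.ofFinite G
  have hA := F.card_No_s
  rw [Nat.card_eq_fintype_card, Fintype.card_subtype] at hA ⊢
  set N := Finset.univ.filter fun u : G => F.No u
  rw [← Finset.card_filter_add_card_filter_not (s := N) (fun u => u * s = s * u)]
  have h1 : (N.filter fun u => u * s = s * u) =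
      Finset.univ.filter fun u : G => F.No u ∧ u * s = s * u := Finset.filter_filter _ _ _
  have h2 : (N.filter fun u => ¬ u * s = s * u) =
      P4.biUnion fun v => Finset.univ.filter fun u : G => F.InU v u := by
    ext u
    simp only [N, Finset.mem_filter, Finset.mem_univ, true_and, Finset.mem_biUnion]
    constructor
    · rintro ⟨hno, hus⟩
      exact F.cover hno hus
    · rintro ⟨v, hv, hu⟩
      exact ⟨F.U_no hv hu, hu.2.2.2.2⟩
  rw [h1, h2, hA, Finset.card_biUnion]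
  · rw [Finset.sum_const_nat (m := 32) fun v hv => ?_, P4_card]
    rw [← Fintype.card_subtype, ← Nat.card_eq_fintype_card]
    exact F.card_U hv
  · intro v hv v' hv' hne
    rw [Function.onFun, Finset.disjoint_left]
    intro u hu hu'
    exact F.U_disj hv hv' hne (Finset.mem_filter.mp hu).2 (Finset.mem_filter.mp hu').2

theorem zC_mod (D : Five h s' w' g r) :
    Nat.card {u : G // IsConj u z ∧ u * z = z * u} % 5 = 0 := by
  classical
  haveI : Fact (Nat.Prime 5) := ⟨by norm_num⟩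
  let α := {u : G // IsConj u z ∧ u * z = z * u}
  letI : MulAction (zpowers g) α :=
    { smul := fun k u => ⟨(k : G) * u * (k : G)⁻¹,
        (isConj_iff.mpr ⟨(k : G), rfl⟩ : IsConj (u : G) ((k : G) * u * (k : G)⁻¹)).symm.trans u.2.1,
        h.conj_comm (by
          obtain ⟨i, hi⟩ := mem_zpowers_iff.mp k.2
          rw [← hi]
          exact ((show Commute g z from D.gz).zpow_left i).eq) u.2.2⟩
      one_smul := fun u => Subtype.ext (by
        show ((1 : zpowers g) : G) * u * ((1 : zpowers g) : G)⁻¹ = u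
        simp)
      mul_smul := fun k k' u => Subtype.ext (by
        show ((k * k' : zpowers g) : G) * u * ((k * k' : zpowers g) : G)⁻¹ =
          (k : G) * ((k' : G) * u * (k' : G)⁻¹) * (k : G)⁻¹
        rw [Subgroup.coe_mul]; group) }
  have hp : IsPGroup 5 (zpowers g) :=
    IsPGroup.of_card (n := 1) (by rw [Nat.card_zpowers, D.ord, pow_one])
  have hmod : Nat.card α % 5 = Nat.card (MulAction.fixedPoints (zpowers g) α) % 5 :=
    hp.card_modEq_card_fixedPoints α
  have hfix : Nat.card (MulAction.fixedPoints (zpowers g) α) = 5 := by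
    rw [← card_fix, ← Nat.card_eq_finsetCard]
    symm
    have hsq : ∀ p : ZMod 2 × ZMod 2 × ZMod 2, p.2.1 * p.2.2 = 0 → D.dEl p * D.dEl p = 1 :=
      fun p hp => (h.sq_one_iff (D.dEl_mem p).1).mpr (by
        rw [D.π_dEl, phi_apply]
        simp [hp, show qU 0 = 0 by decide])
    have hne1 : ∀ p : ZMod 2 × ZMod 2 × ZMod 2, p ≠ 0 → D.dEl p ≠ 1 := fun p hp e' => by
      refine hp (D.dEl_bij.1 (Subtype.ext ?_))
      show D.dEl p = D.dEl 0
      rw [e']; simp [Five.dEl, zp]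
    let e : {p // p ∈ Finset.univ.filter fun p : ZMod 2 × ZMod 2 × ZMod 2 =>
        p ≠ 0 ∧ p.2.1 * p.2.2 = 0} → MulAction.fixedPoints (zpowers g) α := fun p =>
      ⟨⟨D.dEl p.1, F.P.conj_Q (D.dEl_mem p.1).1 (hsq _ (Finset.mem_filter.mp p.2).2.2)
        (hne1 _ (Finset.mem_filter.mp p.2).2.1), h.le _ (D.dEl_mem p.1).1⟩, fun k => Subtype.ext (by
        obtain ⟨i, hi⟩ := mem_zpowers_iff.mp k.2
        show (k : G) * D.dEl p.1 * (k : G)⁻¹ = D.dEl p.1
        rw [← hi]
        exact mul_inv_eq_iff_eq_mul.mpr ((show Commute g (D.dEl p.1) from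
          (mem_centralizer_singleton_iff.mp (D.dEl_mem p.1).2).symm).zpow_left i).eq)⟩
    refine Nat.card_congr (Equiv.ofBijective e ⟨fun p p' ee => ?_, ?_⟩)
    · refine Subtype.ext (D.dEl_bij.1 (Subtype.ext ?_))
      exact congrArg (fun x : MulAction.fixedPoints (zpowers g) α => ((x : α) : G)) ee
    · rintro ⟨⟨u, huz, huc⟩, hfixu⟩
      have hug : g * u * g⁻¹ = u :=
        congrArg Subtype.val (hfixu ⟨g, mem_zpowers g⟩)
      obtain ⟨hu2, hu1⟩ := F.zsq huz
      obtain ⟨q, i, hq, hqg, hui⟩ := D.cent huc (mul_inv_eq_iff_eq_mul.mp hug).symm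
      have hqi : Commute q (g ^ i) := (show Commute q g from hqg).pow_right i
      have hgi : g ^ i = 1 := by
        have h4 : (q * g ^ i) ^ 4 = 1 := by
          rw [← hui, show 4 = 2 * 2 from rfl, pow_mul, pow_two u, hu2, one_pow]
        rw [hqi.mul_pow, h.pow_four hq, one_mul] at h4
        exact orderOf_eq_one_iff.mp (Nat.eq_one_of_dvd_coprimes (by norm_num : Nat.Coprime 4 5)
          (orderOf_dvd_of_pow_eq_one h4)
          (D.ord ▸ orderOf_dvd_of_mem_zpowers (pow_mem (mem_zpowers g) i)))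
      rw [hgi, mul_one] at hui
      obtain ⟨p, hp⟩ := D.dEl_bij.2 ⟨q, hq, (D.mem_C q).mpr hqg⟩
      have hp' : D.dEl p = u := (congrArg Subtype.val hp).trans hui.symm
      refine ⟨⟨p, Finset.mem_filter.mpr ⟨Finset.mem_univ _, fun e' => hu1 ?_, ?_⟩⟩,
        Subtype.ext (Subtype.ext hp')⟩
      · rw [← hp', e']; simp [Five.dEl, zp]
      · have h1 := (h.sq_one_iff (D.dEl_mem p).1).mp (by rw [hp']; exact hu2)
        rw [D.π_dEl, phi_apply, show qU 0 = 0 by decide, add_zero] at h1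
        exact h1
  rw [hfix] at hmod
  exact hmod

/-- The number entering the order formula. -/
theorem card_Yes_mod (D : Five h s' w' g r) :
    Nat.card {u : G // IsConj u z ∧ z ∈ zpowers (u * t)} % 5 = 1 := by
  classical
  haveI := Fintype.ofFinite G
  have hall := F.zC_mod D
  have hno := F.card_No
  rw [Nat.card_eq_fintype_card, Fintype.card_subtype] at hall hno ⊢
  set Z := Finset.univ.filter fun u : G => IsConj u z ∧ u * z = z * u
  have h1 := Finset.card_filter_add_card_filter_not (s := Z) (fun u => z ∈ zpowers (u * t))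
  have h2 : (Z.filter fun u => z ∈ zpowers (u * t)) =
      Finset.univ.filter fun u : G => IsConj u z ∧ z ∈ zpowers (u * t) := by
    ext u
    simp only [Z, Finset.mem_filter, Finset.mem_univ, true_and]
    exact ⟨fun hu => ⟨hu.1.1, hu.2⟩, fun hu => ⟨⟨hu.1,
      (CycInvol.commute (F.zsq hu.1).1 F.t2 hu.2 h.zz).1.eq⟩, hu.2⟩⟩
  have h3 : (Z.filter fun u => ¬ z ∈ zpowers (u * t)) = Finset.univ.filter fun u : G => F.No u := by
    ext u
    rw [Finset.mem_filter, Finset.mem_filter, Finset.mem_filter]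
    exact ⟨fun hu => ⟨Finset.mem_univ _, hu.1.2.1, hu.1.2.2, hu.2⟩,
      fun hu => ⟨⟨Finset.mem_univ _, hu.2.1, hu.2.2.1⟩, hu.2.2.2⟩⟩
  rw [h2, h3, hno] at h1
  omega

end Frame

end Cfsg.Agent.H55.Suz
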