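import Mathlib

/-!
Involutions inside cyclic groups generated by a product of two involutions.
-/

set_option autoImplicit false
set_option linter.unusedSectionVars false

namespace Cfsg.Agent.H55.Suz.CycInvol

open Subgroup

variable {G : Type*} [Group G] [Finite G]

/-- A cyclic group has at most one involution. -/
theorem unique {w a b : G} (ha : a ∈ zpowers w) (hb : b ∈ zpowers w) (ha2 : a * a = 1) (ha1 : a ≠ 1)
    (hb2 : b * b = 1) (hb1 : b ≠ 1) : a = b := by
  have key : ∀ a : G, a ∈ zpowers w → a * a = 1 → a ≠ 1 →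
      2 ∣ orderOf w ∧ a = w ^ (orderOf w / 2) := by
    intro a ha ha2 ha1
    rw [← mem_powers_iff_mem_zpowers, Submonoid.mem_powers_iff] at ha
    obtain ⟨i, rfl⟩ := ha
    have hn := orderOf_pos w
    rw [← pow_mod_orderOf] at ha2 ha1 ⊢
    set j := i % orderOf w
    have hj : j < orderOf w := Nat.mod_lt _ hn
    rw [← pow_add] at ha2
    have hd := orderOf_dvd_of_pow_eq_one ha2
    have hj0 : j ≠ 0 := fun e => ha1 (by rw [e, pow_zero])
    obtain ⟨k, hk⟩ := hd
    have hk1 : k = 1 := by
      rcases k with _ | _ | k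
      · omega
      · rfl
      · exfalso
        have : orderOf w * 2 ≤ orderOf w * (k + 1 + 1) := Nat.mul_le_mul_left _ (by omega)
        omega
    rw [hk1, mul_one] at hk
    exact ⟨⟨j, by omega⟩, by rw [show j = orderOf w / 2 by omega]⟩
  rw [(key a ha ha2 ha1).2, (key b hb hb2 hb1).2]

/-- An element of a cyclic group generated by a product of two involutions which squares to one
commutes with both. -/
theorem commute {u t c : G} (hu : u * u = 1) (ht : t * t = 1) (hc : c ∈ zpowers (u * t))
    (hc2 : c * c = 1) : Commute u c ∧ Commute t c := by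
  obtain ⟨k, hk⟩ := mem_zpowers_iff.mp hc
  have hui : u⁻¹ = u := inv_eq_of_mul_eq_one_left hu
  have hti : t⁻¹ = t := inv_eq_of_mul_eq_one_left ht
  have e1 : u * (u * t) * u⁻¹ = (u * t)⁻¹ := by
    rw [← mul_assoc, hu, one_mul, hui, mul_inv_rev, hui, hti]
  have h1 : u * c * u⁻¹ = c := by
    conv_rhs => rw [← inv_eq_of_mul_eq_one_left hc2, ← hk, ← inv_zpow, ← e1, conj_zpow, hk]
  have h2 : Commute u c := mul_inv_eq_iff_eq_mul.mp h1
  have h3 : Commute (u * t) c := hk ▸ (Commute.refl (u * t)).zpow_right k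
  refine ⟨h2, ?_⟩
  have h4 := h2.inv_left.mul_left h3
  rwa [inv_mul_cancel_left] at h4

/-- The product of two involutions, squared. -/
theorem sq {u t : G} : u * t * (u * t) = u * (t * u * t) := by group

/-- Nonconjugate involutions generate a group with an involution in the cyclic part. -/
theorem exists_invol {u t : G} (hu : u * u = 1) (ht : t * t = 1) (hne : ¬ IsConj u t) :
    ∃ c ∈ zpowers (u * t), c * c = 1 ∧ c ≠ 1 := by
  by_contra hcon
  push Not at hcon
  haveI : Fact (Nat.Prime 2) := ⟨Nat.prime_two⟩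
  rcases Nat.even_or_odd (orderOf (u * t)) with he | ho
  · obtain ⟨c, hc⟩ := exists_prime_orderOf_dvd_card' (G := zpowers (u * t)) 2
      (by rw [Nat.card_zpowers]; exact he.two_dvd)
    have h2 := pow_orderOf_eq_one c
    rw [hc, pow_two] at h2
    have h1 : c ≠ 1 := fun e => by rw [e, orderOf_one] at hc; norm_num at hc
    exact h1 (Subtype.ext (hcon c c.2 (congrArg Subtype.val h2)))
  · obtain ⟨m, hm⟩ := ho
    refine hne (isConj_iff.mpr ⟨(u * t) ^ m * u, ?_⟩)
    have hui : u⁻¹ = u := inv_eq_of_mul_eq_one_left hu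
    have hti : t⁻¹ = t := inv_eq_of_mul_eq_one_left ht
    have e1 : u * ((u * t) ^ m)⁻¹ = (u * t) ^ m * u := by
      have e2 : u * (u * t)⁻¹ * u⁻¹ = u * t := by
        rw [mul_inv_rev, hui, hti]
        calc u * (t * u) * u = u * t * (u * u) := by group
          _ = u * t := by rw [hu, mul_one]
      rw [← mul_inv_eq_iff_eq_mul, ← inv_pow, ← conj_pow, e2]
    calc (u * t) ^ m * u * u * ((u * t) ^ m * u)⁻¹
        = (u * t) ^ m * (u * u) * (u⁻¹ * ((u * t) ^ m)⁻¹) := by group
      _ = (u * t) ^ m * ((u * t) ^ m * u) := by rw [hu, mul_one, hui, e1]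
      _ = (u * t) ^ (2 * m + 1) * (u * t)⁻¹ * u := by
        rw [← mul_assoc, ← pow_add, pow_succ, show 2 * m = m + m by omega, mul_inv_cancel_right]
      _ = t := by
        rw [← hm, pow_orderOf_eq_one, one_mul, mul_inv_rev, hui, hti, mul_assoc, hu, mul_one]

end Cfsg.Agent.H55.Suz.CycInvol
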