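import Cfsg.Agent.H45.CosetDag

/-!
Several targets read off one list of coset facts, for involutory letters.
-/

set_option autoImplicit false

namespace Cfsg.Agent.H55.Suz

open Cfsg.Agent.H45

/-- the final walks -/
noncomputable def finalsOK (D : Dat) (F tot : ℕ) : List ℕ → List (List ℕ) → Bool
  | [], [] => true
  | f :: fs, tw :: tws =>
    (refWalk D F tot 600 f 0 [] fun cur stk =>
      Nat.beq cur 0 && pushAll D.iv tw [] fun exp => stk == exp) && finalsOK D F tot fs tws
  | _, _ => false

/-- the complete check for several targets -/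
noncomputable def dagMany (D : Dat) (F : ℕ) (ms : List ℕ) (nd : ℕ) (js : List (List (ℕ × ℕ)))
    (finals : List ℕ) (tws : List (List ℕ)) : Bool :=
  defsOK D F nd && loopsOK F ms nd ms.length && factsOK D F js (nd + ms.length) fun tot =>
    finalsOK D F tot finals tws

variable {G : Type*} [Group G] {D : Dat} {e : ℕ → G} {H : Subgroup G}

theorem finalsOK_sound (hD : Hyp D e H) {F tot : ℕ} {w : ℕ → G} (hw0 : w 0 = 1)
    (hF : ∀ i, i < tot → FRel e H w F i) (hinv : ∀ l, l < D.L → linv D.iv l ≠ 255) :
    ∀ (fs : List ℕ) (tws : List (List ℕ)), finalsOK D F tot fs tws = true →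
      ∀ tw ∈ tws, evalW e tw ∈ H := by
  intro fs
  induction fs with
  | nil =>
    intro tws h tw htw
    cases tws with
    | nil => simp at htw
    | cons => simp [finalsOK] at h
  | cons f fs ih =>
    intro tws h tw htw
    cases tws with
    | nil => simp [finalsOK] at h
    | cons t tws =>
      simp only [finalsOK, Bool.and_eq_true] at h
      rcases List.mem_cons.mp htw with rfl | htw
      · obtain ⟨cur, stk, hk, hmem⟩ := refWalk_sound hD hF hinv _ _ _ _ _ h.1
        simp only [Bool.and_eq_true, Nat.beq_eq] at hk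
        obtain ⟨rfl, hk⟩ := hk
        obtain ⟨s, hs, es⟩ := pushAll_sound hD _ _ _ hk
        rw [beq_iff_eq] at hs
        subst hs
        rw [es, hw0] at hmem
        simpa [evalW] using hmem
      · exact ih tws h.2 tw htw

/-- The targets lie in the subgroup, for involutory letters. -/
theorem dagMany_sound {L : ℕ} {cols : List ℕ} {R : List (List ℕ)} {F nd : ℕ} {ms : List ℕ}
    {js : List (List (ℕ × ℕ))} {finals : List ℕ} {tws : List (List ℕ)}
    (hsq : ∀ l, e l * e l = 1) (hR : ∀ u ∈ R, evalW e u = 1) (hms : ∀ l ∈ ms, e l ∈ H)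
    (hms' : ∀ l ∈ ms, l < 255) (hL : L ≤ 255)
    (h : dagMany ⟨L, List.range L, cols, R, []⟩ F ms nd js finals tws = true) :
    ∀ tw ∈ tws, evalW e tw ∈ H := by
  have hl : ∀ l, linv (List.range L) l = l := fun l => by
    unfold linv
    rcases Nat.lt_or_ge l L with h | h
    · simp [List.getD_eq_getElem?_getD, h]
    · simp [List.getD_eq_getElem?_getD,
        List.getElem?_eq_none (by simpa using h : (List.range L).length ≤ l)]
  have hD : Hyp ⟨L, List.range L, cols, R, []⟩ e H :=
    ⟨fun l => by rw [hl]; exact eq_inv_of_mul_eq_one_left (hsq l), hR, fun u hu => by simp at hu⟩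
  have hinv : ∀ l, l < L → linv (List.range L) l ≠ 255 := fun l h' => by rw [hl]; omega
  simp only [dagMany, Bool.and_eq_true] at h
  obtain ⟨⟨hdef, hloop⟩, hfacts⟩ := h
  obtain ⟨w, hw0, hw⟩ := defsOK_sound (e := e) hdef
  obtain ⟨tot, htot, hall⟩ := factsOK_sound hD hinv _ _ _ (fun i hi => by
    rcases Nat.lt_or_ge i nd with h1 | h1
    · have := (hw i h1).2.2
      unfold FRel at this ⊢
      rw [Subgroup.mem_bot] at this
      rw [this]
      exact H.one_mem
    · exact loopsOK_sound hw0 hms hms' hloop i h1 hi) hfacts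
  exact finalsOK_sound hD hw0 hall hinv _ _ htot

end Cfsg.Agent.H55.Suz
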