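import Cfsg.Agent.H55.Suz.Word

/-!
Finite facts on residues.
-/

set_option autoImplicit false
set_option synthInstance.maxSize 4000
set_option synthInstance.maxHeartbeats 400000
set_option maxRecDepth 20000

namespace Cfsg.Agent.H55.Suz

open Cfsg.Agent.H73.Suz

/-- The residue map of the element of order three. -/
def omU (a : U4) : U4 := tU a0 (tU u0 a)

/-- The map on residues of the element of order three. -/
def omR (p : R2) : R2 := (omU p.1, omU p.2)

/-- The residue map of the swap. -/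
def mU (a : U4) : U4 := tU u0 (tU c0 a)

/-- The map on residues induced by the swap. -/
def phiR (p : R2) : R2 := (mU (p.1 + p.2), mU p.2)

/-- The residue of the second involution. -/
def tb : R2 := (a0, u0)

/-- The residue of its first conjugate. -/
def vb : R2 := (u0, a0 + u0)

/-- The two singular lines fixed by the element of order three. -/
def InE (p : R2) : Prop :=
  ((p.1 = 0 ∨ p.1 = (1, 0, 0, 0)) ∧ (p.2 = 0 ∨ p.2 = (1, 0, 0, 0))) ∨
    ((p.1 = 0 ∨ p.1 = (0, 1, 0, 0)) ∧ (p.2 = 0 ∨ p.2 = (0, 1, 0, 0)))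

instance : DecidablePred InE := fun p => by unfold InE; infer_instance

theorem omR_tb : omR tb = vb := by decide
theorem omR_vb : omR vb = tb + vb := by decide
theorem omR_tv : omR (tb + vb) = tb := by decide
theorem phiR_tb : phiR tb = tb := by decide
theorem phiR_vb : phiR vb = tb + vb := by decide
theorem bil_tb_vb : bil tb vb = 0 := by decide
theorem sqv_tb : sqv tb = 0 := by decide
theorem qU_tb : qU tb.1 = 1 ∧ qU vb.1 = 1 ∧ qU (tb + vb).1 = 1 := by decide
theorem tb_ne : tb ≠ 0 ∧ vb ≠ 0 ∧ tb + vb ≠ 0 ∧ tb ≠ vb := by decide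

theorem bil_vb_iff : ∀ p : R2, bil tb p = 0 ↔ bil vb p = 0 := by decide

theorem invol_cases : ∀ p : R2, bil tb p = 0 → sqv p = 0 →
    (qU p.1 = 0 ∧ InE p) ∨ (qU p.1 = 1 ∧ (InE (p + tb) ∨ InE (p + vb) ∨ InE (p + (tb + vb)))) := by
  decide

theorem inE_props : ∀ p : R2, InE p → qU p.1 = 0 ∧ sqv p = 0 ∧ bil tb p = 0 ∧ omR p = p ∧
    InE (phiR p) ∧ bil vb p = 0 := by decide

theorem inE_fixed : ∀ p : R2, InE p → phiR p = p → p = 0 := by decide

theorem inE_zero : InE 0 := by decide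

theorem inE_add : ∀ p : R2, InE p → ∀ q : R2, InE q → bil p q = 0 → InE (p + q) := by decide

/-- Four elements of `S` detecting the lines. -/
def wit : List R2 :=
  [((1, 0, 0, 0), 0), (0, (1, 0, 0, 0)), ((0, 1, 0, 0), 0), (0, (0, 1, 0, 0))]

theorem wit_detect : ∀ p : R2, InE p → (∀ q ∈ wit, bil p q = 0) → p = 0 := by decide

theorem wit_mem : ∀ q ∈ wit, InE q := by decide

theorem cent_line : ∀ p : R2, InE p → p ≠ 0 →
    (Finset.univ.filter fun q : R2 => bil tb q = 0 ∧ bil p q = 0).card ≤ 16 := by decide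

theorem card_tb : (Finset.univ.filter fun q : R2 => bil tb q = 0).card = 64 := by decide

theorem card_fixed :
    (Finset.univ.filter fun q : R2 => bil tb q = 0 ∧ phiR q = q).card ≤ 8 := by decide

theorem fixed_c0 : bil tb (c0, 0) = 0 ∧ phiR (c0, 0) = (c0, 0) ∧ sqv (c0, 0) = (1, 0) := by decide

theorem res_cases : ∀ p₁ p₂ : U4, p₁ = (1, 0, 0, 0) ∧ p₂ = (0, 1, 0, 0) →
    ∀ a : U4, ((if a.1 = 1 then p₁ else 0) + (if a.2.1 = 1 then p₂ else 0) +
      (if a.2.2.1 = 1 then a0 else 0) + (if a.2.2.2 = 1 then u0 else 0)) = a := by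
  rintro p₁ p₂ ⟨rfl, rfl⟩; decide

theorem res_cases' : ∀ p₁ p₂ : U4, p₁ = tU c0 (1, 0, 0, 0) ∧ p₂ = tU c0 (0, 1, 0, 0) →
    ∀ a : U4, ((if a.1 = 1 then p₁ else 0) + (if a.2.1 = 1 then p₂ else 0) +
      (if a.2.2.1 = 1 then a0 else 0) + (if a.2.2.2 = 1 then u0 else 0)) = tU c0 a := by
  rintro p₁ p₂ ⟨rfl, rfl⟩; decide

theorem omU_three : ∀ a : U4, omU (omU (omU a)) = a := by decide

theorem central_T : ∀ p : R2, bil tb p = 0 → sqv p = 0 → qU p.1 = 1 → phiR p = p →
    (∀ q ∈ wit, bil p q = 0) → p = tb := by decide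

theorem inE_out : ∀ p : R2, InE p → phiR (vb + p) ≠ vb + p ∧ phiR (tb + vb + p) ≠ tb + vb + p := by
  decide

theorem line_lower : ∀ p : R2, InE p →
    16 ≤ (Finset.univ.filter fun q : R2 => bil tb q = 0 ∧ bil p q = 0).card := by decide

theorem bil_shift : ∀ q : R2, bil tb q = 0 → bil vb q = 0 ∧ bil (tb + vb) q = 0 := by decide

theorem gen_S : ∀ p : R2, bil tb p = 0 → ∃ x ∈ [(0 : R2), tb, vb, tb + vb], ∃ e ∈ [(0 : R2), ((1, 0, 0, 0), 0), (0, (1, 0, 0, 0)), ((1, 0, 0, 0), (1, 0, 0, 0))],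
    InE (p + x + e) := by decide

theorem bil_add_left (p p' q : R2) : bil (p + p') q = bil p q + bil p' q := by
  simp only [bil, Prod.fst_add, Prod.snd_add, fU_add_left, fU_add_right, Prod.mk_add_mk]
  ext <;> simp only [] <;> ring

theorem phiR_zero : phiR 0 = 0 := by decide

theorem bil_tb_zero : bil tb 0 = 0 := by decide

end Cfsg.Agent.H55.Suz
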