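import Cfsg.Agent.H55.Suz.FiveFin
import Cfsg.Agent.H55.Suz.Sub

/-!
An element of order five of `C(z) ∩ C(s)` and its centraliser in `C(z)`.
-/

set_option autoImplicit false
set_option linter.unusedSectionVars false
set_option linter.style.haveILetI false

namespace Cfsg.Agent.H55.Suz

open Cfsg.Agent.H73.Suz QuadraticMap Cfsg.Agent.Orthogonal Cfsg.Agent.H92.ExtraForm Subgroup

/-- The vector of the reflection exchanging `v0` and `f0`. -/
def sv : V6 := ((1, 1), 0)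

theorem phi_sv : phi sv ≠ 0 := by rw [phi_apply]; decide

/-- The reflection exchanging `v0` and `f0`. -/
noncomputable def swapO : O phi := rO phi sv

theorem swap_app (y : V6) : (swapO : V6 ≃ₗ[ZMod 2] V6) y = ((y.1.2, y.1.1), y.2) := by
  have h1 : phi sv = 1 := (two_cases' _).resolve_left phi_sv
  rw [swapO, rO_app, h1, inv_one, one_mul, sub_eq_add', polar_phi]
  obtain ⟨⟨c, d⟩, u⟩ := y
  have h0 : fU (sv.2) u = 0 := by
    show fU 0 u = 0
    revert u; decide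
  rw [h0]
  simp only [sv, one_mul, mul_one, add_zero, Prod.smul_mk, Prod.mk_add_mk, smul_eq_mul, smul_zero]
  revert c d
  decide +revert

/-- An isometry of the commutator subgroup squaring `g5`. -/
noncomputable def sqO : O phi := swapO * rO phi (emb u0) * pairO a0 l3

theorem sqO_app (y : V6) : (sqO : V6 ≃ₗ[ZMod 2] V6) y = ((y.1.2, y.1.1), sqU y.2) := by
  rw [sqO, Subgroup.coe_mul, mul_app, Subgroup.coe_mul, mul_app, pairO_app qU_a0 qU_l3,
    rO_emb_app qU_u0, swap_app]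
  rfl

theorem sqO_mem : sqO ∈ commutator (O phi) :=
  mul_mem (rO_mul_mem_K phi_sv (by rw [phi_emb, qU_u0]; exact one_ne_zero))
    (pairO_mem qU_a0 qU_l3)

theorem sqO_g5 : sqO * g5 = g5 ^ 2 * sqO := O.ext_app fun y => by
  rw [Subgroup.coe_mul, mul_app, Subgroup.coe_mul, mul_app, sqO_app, sqO_app, g5_app, pow_app]
  simp only [Function.iterate_succ_apply', Function.iterate_zero_apply, g5_app, sqU_spec]

theorem swap_g5 : swapO * g5 = g5 * swapO := O.ext_app fun y => by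
  rw [Subgroup.coe_mul, mul_app, Subgroup.coe_mul, mul_app, swap_app, swap_app, g5_app, g5_app]

theorem g5_pow_app (y : V6) (i : ℕ) :
    (g5 ^ i : O phi).1 y = (y.1, g5U^[i] y.2) := by
  induction i with
  | zero => rfl
  | succ n ih =>
    rw [pow_succ', Subgroup.coe_mul, mul_app, ih, g5_app, Function.iterate_succ_apply']

theorem g5_fixed {y : V6} (hy : (g5 : V6 ≃ₗ[ZMod 2] V6) y = y) : y.2 = 0 := by
  rw [g5_app] at hy
  exact g5U_fix _ (congrArg Prod.snd hy)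

theorem fixed_singular {y : V6} (hy : (g5 : V6 ≃ₗ[ZMod 2] V6) y = y) (h0 : y ≠ 0)
    (hs : phi y = 0) : y = v0 ∨ y = f0 := by
  have h2 := g5_fixed hy
  rw [phi_apply, h2, show qU 0 = 0 by decide, add_zero] at hs
  rcases plane_singular y.1 (fun e => h0 (Prod.ext e h2)) hs with e | e
  · exact Or.inl (Prod.ext e h2)
  · exact Or.inr (Prod.ext e h2)

theorem polar_f0 (y : V6) : polar (⇑phi) f0 y = y.1.1 := by
  rw [polar_phi]; simp [f0, fU]

/-- The centraliser of `g5` fixing `v0`. -/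
theorem comm_g5 {k : O phi} (hc : k * g5 = g5 * k) (hv : (k : V6 ≃ₗ[ZMod 2] V6) v0 = v0) :
    ∃ i : ℕ, k = g5 ^ i := by
  have hcy : ∀ y, (k : V6 ≃ₗ[ZMod 2] V6) ((g5 : V6 ≃ₗ[ZMod 2] V6) y) =
      (g5 : V6 ≃ₗ[ZMod 2] V6) ((k : V6 ≃ₗ[ZMod 2] V6) y) := fun y => by
    rw [← mul_app, ← Subgroup.coe_mul, hc, Subgroup.coe_mul, mul_app]
  have hf : (k : V6 ≃ₗ[ZMod 2] V6) f0 = f0 := by
    have h1 : (g5 : V6 ≃ₗ[ZMod 2] V6) ((k : V6 ≃ₗ[ZMod 2] V6) f0) =
        (k : V6 ≃ₗ[ZMod 2] V6) f0 := by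
      rw [← hcy, show (g5 : V6 ≃ₗ[ZMod 2] V6) f0 = f0 by rw [g5_app]; decide]
    rcases fixed_singular h1 (fun e => by
        rw [LinearEquiv.map_eq_zero_iff] at e; exact absurd e (by decide))
      (by rw [O.map_app, phi_apply]; decide) with e | e
    · exfalso
      have : f0 = v0 := (k : V6 ≃ₗ[ZMod 2] V6).injective (e.trans hv.symm)
      exact absurd this (by decide)
    · exact e
  have hperp : ∀ a : U4, ((k : V6 ≃ₗ[ZMod 2] V6) (emb a)).1 = 0 := fun a => by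
    have h1 := O.polar_app k v0 (emb a)
    have h2 := O.polar_app k f0 (emb a)
    rw [hv, polar_v0, polar_v0] at h1
    rw [hf, polar_f0, polar_f0] at h2
    exact Prod.ext h2 h1
  set b := ((k : V6 ≃ₗ[ZMod 2] V6) (emb eb)).2 with hb
  have hkb : (k : V6 ≃ₗ[ZMod 2] V6) (emb eb) = emb b := Prod.ext (hperp eb) rfl
  have hq : qU b = 0 := by
    rw [← phi_emb, ← hkb, O.map_app, phi_emb]; decide
  have hb0 : b ≠ 0 := fun e => by
    rw [e, show emb 0 = (0 : V6) from rfl, LinearEquiv.map_eq_zero_iff] at hkb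
    exact absurd hkb (by decide)
  obtain ⟨i, hi⟩ : ∃ i : ℕ, b = g5U^[i] eb := by
    rcases orbit_eb b hq hb0 with e | e | e | e | e
    exacts [⟨0, e⟩, ⟨1, e⟩, ⟨2, e⟩, ⟨3, e⟩, ⟨4, e⟩]
  refine ⟨i, ?_⟩
  have hj : ∀ j : ℕ, (k : V6 ≃ₗ[ZMod 2] V6) (emb (g5U^[j] eb)) =
      (g5 ^ i : O phi).1 (emb (g5U^[j] eb)) := by
    intro j
    induction j with
    | zero =>
      rw [g5_pow_app]
      show (k : V6 ≃ₗ[ZMod 2] V6) (emb eb) = _
      rw [hkb, hi]
      rfl
    | succ n ih =>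
      rw [Function.iterate_succ_apply', show emb (g5U (g5U^[n] eb)) =
        (g5 : V6 ≃ₗ[ZMod 2] V6) (emb (g5U^[n] eb)) by rw [g5_app]; rfl, hcy, ih,
        ← mul_app, ← Subgroup.coe_mul, ← pow_succ', pow_succ, Subgroup.coe_mul, mul_app]
  refine O.ext_app fun y => ?_
  obtain ⟨c₀, c₁, c₂, c₃, he⟩ := span_eb y.2
  have hy : y = (if y.1.1 = 1 then v0 else 0) + (if y.1.2 = 1 then f0 else 0) + emb y.2 := by
    obtain ⟨⟨c, d⟩, u⟩ := y
    rcases two_cases' c with rfl | rfl <;> rcases two_cases' d with rfl | rfl <;> simp [v0, f0, emb]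
  have hemb : ∀ a b : U4, emb (a + b) = emb a + emb b := fun a b => by simp [emb]
  have hite : ∀ (c : ZMod 2) (a : U4), emb (if c = 1 then a else 0) = if c = 1 then emb a else 0 :=
    fun c a => by split_ifs <;> rfl
  rw [hy, he, hemb, hemb, hemb, hite, hite, hite, hite]
  simp only [map_add, apply_ite (k : V6 ≃ₗ[ZMod 2] V6),
    apply_ite ((g5 ^ i : O phi) : V6 ≃ₗ[ZMod 2] V6), map_zero]
  have e0 := hj 0
  have e1 := hj 1
  have e2 := hj 2
  have e3 := hj 3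
  simp only [Function.iterate_succ_apply', Function.iterate_zero_apply] at e0 e1 e2 e3
  rw [hv, hf, e0, e1, e2, e3,
    show (g5 ^ i : O phi).1 v0 = v0 by rw [g5_pow_app]; exact Prod.ext rfl (Function.iterate_fixed (by decide) i),
    show (g5 ^ i : O phi).1 f0 = f0 by rw [g5_pow_app]; exact Prod.ext rfl (Function.iterate_fixed (by decide) i)]

theorem g5_order : orderOf g5 = 5 := by
  haveI : Fact (Nat.Prime 5) := ⟨by norm_num⟩
  exact orderOf_eq_prime g5_five g5_ne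

variable {G : Type*} [Group G] [Finite G] {z : G} {Q : Subgroup G}

/-- An element of order five with a commuting pair in `Q`. -/
structure Five (h : Setup z Q) (s w g r : G) : Prop where
  P : Pair h s w
  gz : g * z = z * g
  gs : g * s = s * g
  g5 : g ^ 5 = 1
  hρ : h.ρ g = Cfsg.Agent.H73.Suz.g5
  hr : r ∈ Q
  hrπ : h.π r = f0
  hrs : r * s * r⁻¹ = s * z
  rg : r * g = g * r

theorem exists_five_data {h : Setup z Q} {s w : G} (P : Pair h s w) :
    ∃ g r, Five h s w g r := by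
  obtain ⟨c, hc, hcs, hρ⟩ := h.exists_lift P.hs P.hπ g5_mem g5_v0
  have h5 : c ^ 5 ∈ Q := (h.ρ_ker _ ((show Commute c z from hc).pow_left 5).eq).mp
    (by rw [h.ρ_pow hc, hρ, g5_five])
  set g := c ^ 16 with hg
  have hgz : g * z = z * g := ((show Commute c z from hc).pow_left 16).eq
  have hg5 : g ^ 5 = 1 := by
    rw [hg, ← pow_mul, show 16 * 5 = 5 * (4 * 4) from rfl, pow_mul, pow_mul, h.pow_four h5, one_pow]
  have hgρ : h.ρ g = Cfsg.Agent.H73.Suz.g5 := by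
    rw [hg, h.ρ_pow hc, hρ, show 16 = 5 * 3 + 1 from rfl, pow_add, pow_mul, g5_five, one_pow,
      one_mul, pow_one]
  obtain ⟨r, hr, hrπ, hrs⟩ := h.exists_flip P.hs P.hπ
  refine ⟨g, r, P, hgz, ((show Commute c s from hcs).pow_left 16).eq, hg5, hgρ, hr, hrπ, hrs, ?_⟩
  have hπ : h.π r = h.π (g * r * g⁻¹) := by
    rw [h.ρ_π g hgz r hr, hgρ, hrπ, g5_app]
    decide
  rcases h.π_eq hr (h.norm g hgz r hr) hπ with e | e
  · exact (mul_inv_eq_iff_eq_mul.mp e).symm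
  · exfalso
    have hfix : g * z * g⁻¹ = z := mul_inv_eq_iff_eq_mul.mpr hgz
    have step : ∀ n : ℕ, g ^ n * r * (g ^ n)⁻¹ = r * z ^ n := by
      intro n
      induction n with
      | zero => simp
      | succ m ih =>
        calc g ^ (m + 1) * r * (g ^ (m + 1))⁻¹ = g * (g ^ m * r * (g ^ m)⁻¹) * g⁻¹ := by
              rw [pow_succ']; group
          _ = r * z ^ (m + 1) := by rw [ih, ← conj_mul, e, ← conj_pow, hfix, pow_succ', mul_assoc]
    have h2 := step 5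
    rw [hg5, one_mul, inv_one, mul_one, show z ^ 5 = z by
      simp [pow_succ, h.zz]] at h2
    exact h.z_ne (left_eq_mul.mp h2)

namespace Five

variable {h : Setup z Q} {s w g r : G} (D : Five h s w g r)

include D

theorem g_ne : g ≠ 1 := fun e => g5_ne (by rw [← D.hρ, e, h.ρ_one])

theorem ord : orderOf g = 5 := by
  haveI : Fact (Nat.Prime 5) := ⟨by norm_num⟩
  exact orderOf_eq_prime D.g5 D.g_ne

theorem Q_inter {x : G} (hx : x ∈ Q) (hx5 : x ∈ zpowers g) : x = 1 := by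
  have h1 : orderOf x ∣ 4 := orderOf_dvd_of_pow_eq_one (h.pow_four hx)
  have h2 : orderOf x ∣ 5 := D.ord ▸ orderOf_dvd_of_mem_zpowers hx5
  exact orderOf_eq_one_iff.mp (Nat.eq_one_of_dvd_coprimes (by norm_num : Nat.Coprime 4 5) h1 h2)

theorem rr : r * r = 1 := by rw [h.sq_one_iff D.hr, D.hrπ, phi_apply]; decide

theorem rz : r * z = z * r := h.le r D.hr

/-- The centraliser in `C(z)`. -/
theorem cent {c : G} (hc : c * z = z * c) (hcg : c * g = g * c) :
    ∃ (q : G) (i : ℕ), q ∈ Q ∧ q * g = g * q ∧ c = q * g ^ i := by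
  have hk : h.ρ c * Cfsg.Agent.H73.Suz.g5 = Cfsg.Agent.H73.Suz.g5 * h.ρ c := by
    rw [← D.hρ, ← h.ρ_mul _ _ hc D.gz, ← h.ρ_mul _ _ D.gz hc, hcg]
  have h1 : (Cfsg.Agent.H73.Suz.g5 : V6 ≃ₗ[ZMod 2] V6) ((h.ρ c : V6 ≃ₗ[ZMod 2] V6) v0) =
      (h.ρ c : V6 ≃ₗ[ZMod 2] V6) v0 := by
    rw [← mul_app, ← Subgroup.coe_mul, ← hk, Subgroup.coe_mul, mul_app, g5_v0]
  have hv : (h.ρ c : V6 ≃ₗ[ZMod 2] V6) v0 = v0 := by
    rcases fixed_singular h1 (fun e => v0_ne ((LinearEquiv.map_eq_zero_iff _).mp e))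
      (by rw [O.map_app, phi_v0]) with e | e
    · exact e
    · exfalso
      obtain ⟨i, hi⟩ := comm_g5 (k := swapO * h.ρ c)
        (by rw [mul_assoc, hk, ← mul_assoc, swap_g5, mul_assoc])
        (by rw [Subgroup.coe_mul, mul_app, e, swap_app]; decide)
      apply rO_not_mem_K phi_sv
      rw [show rO phi sv = Cfsg.Agent.H73.Suz.g5 ^ i * (h.ρ c)⁻¹ by
        rw [← hi, mul_inv_cancel_right]; rfl]
      exact mul_mem (pow_mem g5_mem i) (inv_mem (h.ρ_mem c hc))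
  obtain ⟨i, hi⟩ := comm_g5 hk hv
  have hgiz : g ^ i * z = z * g ^ i := ((show Commute g z from D.gz).pow_left i).eq
  refine ⟨c * (g ^ i)⁻¹, i, (h.ρ_ker _ (h.mul_comm' hc (h.inv_comm hgiz))).mp ?_, ?_, by group⟩
  · rw [h.ρ_mul _ _ hc (h.inv_comm hgiz), h.ρ_inv hgiz, h.ρ_pow D.gz, D.hρ, hi, mul_inv_cancel]
  · exact ((show Commute c g from hcg).mul_left ((Commute.refl g).pow_left i).inv_left).eq

/-- The group `C_Q(g)`. -/
def Dg (_D : Five h s w g r) : Subgroup G := Q ⊓ centralizer ({g} : Set G)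

omit D in
/-- The elements of `C_Q(g)`. -/
def dEl (_D : Five h s w g r) (p : ZMod 2 × ZMod 2 × ZMod 2) : G :=
  zp z p.1 * zp s p.2.1 * zp r p.2.2

theorem dEl_mem (p : ZMod 2 × ZMod 2 × ZMod 2) : D.dEl p ∈ D.Dg := by
  have hm : ∀ x : G, x ∈ Q → x * g = g * x → ∀ i, zp x i ∈ D.Dg := fun x hx hxg i => by
    unfold zp; split_ifs
    · exact one_mem _
    · exact ⟨hx, mem_centralizer_singleton_iff.mpr hxg⟩
  exact mul_mem (mul_mem (hm z h.hzQ D.gz.symm _) (hm s D.P.hs D.gs.symm _)) (hm r D.hr D.rg _)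

theorem π_dEl (p : ZMod 2 × ZMod 2 × ZMod 2) : h.π (D.dEl p) = ((p.2.1, p.2.2), 0) := by
  obtain ⟨i, j, k⟩ := p
  rcases two_cases' i with rfl | rfl <;> rcases two_cases' j with rfl | rfl <;>
    rcases two_cases' k with rfl | rfl <;>
    simp [dEl, zp_zero, zp_one, h.π_one, h.π_z, D.P.hπ, D.hrπ, h.π_mul _ h.hzQ _ D.P.hs,
      h.π_mul _ h.hzQ _ D.hr, h.π_mul _ D.P.hs _ D.hr,
      h.π_mul _ (mul_mem h.hzQ D.P.hs) _ D.hr, v0, f0, Prod.mk_zero_zero]

theorem dEl_bij : Function.Bijective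
    (fun p => (⟨D.dEl p, D.dEl_mem p⟩ : D.Dg)) := by
  constructor
  · rintro ⟨i, j, k⟩ ⟨i', j', k'⟩ e
    have e' : D.dEl (i, j, k) = D.dEl (i', j', k') := congrArg Subtype.val e
    have hp := congrArg h.π e'
    rw [D.π_dEl, D.π_dEl] at hp
    simp only [Prod.mk.injEq, and_true] at hp
    obtain ⟨rfl, rfl⟩ := hp
    simp only [dEl] at e'
    rw [zp_inj h.z_ne (mul_right_cancel (mul_right_cancel e'))]
  · rintro ⟨q, hq, hqg⟩
    have hqg' := mem_centralizer_singleton_iff.mp hqg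
    have hfix : (Cfsg.Agent.H73.Suz.g5 : V6 ≃ₗ[ZMod 2] V6) (h.π q) = h.π q := by
      rw [← D.hρ, ← h.ρ_π g D.gz q hq, ← hqg', mul_inv_cancel_right]
    have h2 := g5_fixed hfix
    have hπ : h.π q = h.π (D.dEl (0, (h.π q).1)) := by
      rw [D.π_dEl]; exact Prod.ext rfl h2
    have hQ : D.dEl (0, (h.π q).1) ∈ Q := (D.dEl_mem _).1
    rcases h.π_eq hQ hq hπ.symm with e | e
    · exact ⟨(0, (h.π q).1), Subtype.ext e.symm⟩
    · refine ⟨(1, (h.π q).1), Subtype.ext ?_⟩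
      show D.dEl (1, (h.π q).1) = q
      refine Eq.trans ?_ e.symm
      rw [h.le _ hQ]
      simp [dEl, zp_zero, zp_one, mul_assoc]

theorem card_Dg : Nat.card D.Dg = 8 := by
  rw [← Nat.card_congr (Equiv.ofBijective _ D.dEl_bij)]
  simp

end Five

end Cfsg.Agent.H55.Suz
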