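import Cfsg.Agent.H73.Suz.Main

/-!
Finite facts on the element of order five of `U4`.
-/

set_option autoImplicit false
set_option synthInstance.maxSize 4000
set_option synthInstance.maxHeartbeats 400000
set_option maxRecDepth 20000

namespace Cfsg.Agent.H55.Suz

open Cfsg.Agent.H73.Suz

/-- The singular vector used as a base point. -/
def eb : U4 := (1, 0, 0, 0)

theorem orbit_eb : ∀ a : U4, qU a = 0 → a ≠ 0 →
    a = eb ∨ a = g5U eb ∨ a = g5U (g5U eb) ∨ a = g5U (g5U (g5U eb)) ∨
      a = g5U (g5U (g5U (g5U eb))) := by decide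

theorem span_eb : ∀ a : U4, ∃ c₀ c₁ c₂ c₃ : ZMod 2, a = (if c₀ = 1 then eb else 0) +
    (if c₁ = 1 then g5U eb else 0) + (if c₂ = 1 then g5U (g5U eb) else 0) +
    (if c₃ = 1 then g5U (g5U (g5U eb)) else 0) := by decide

theorem g5U_fix : ∀ a : U4, g5U a = a → a = 0 := by decide

/-- The third vector of an odd isometry squaring the element of order five. -/
def l3 : U4 := (1, 0, 1, 1)

/-- An odd isometry squaring the element of order five. -/
def sqU (a : U4) : U4 := tU u0 (tU a0 (tU l3 a))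

theorem sqU_spec : ∀ a : U4, sqU (g5U a) = g5U (g5U (sqU a)) := by decide

theorem qU_l3 : qU l3 = 1 := by decide

theorem plane_singular : ∀ y : ZMod 2 × ZMod 2, y ≠ 0 → y.1 * y.2 = 0 → y = (1, 0) ∨ y = (0, 1) := by
  decide

theorem plane_cases : ∀ y : ZMod 2 × ZMod 2, y = 0 ∨ y = (1, 0) ∨ y = (0, 1) ∨ y = (1, 1) := by
  decide

theorem swap_point : ∀ y : ZMod 2 × ZMod 2,
    (y.1 + (y.1 + y.2) * 1, y.2 + (y.1 + y.2) * 1) = (y.2, y.1) := by decide

end Cfsg.Agent.H55.Suz
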