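import Cfsg.Agent.H55.Suz.CountZ
import Cfsg.Agent.H55.Suz.CountT

/-!
The Thompson order formula: `|G| = 1045094400 (N_z + N_t)`, the sum being `4` modulo five.
-/

set_option autoImplicit false
set_option linter.unusedSectionVars false
set_option linter.style.haveILetI false

namespace Cfsg.Agent.H55.Suz

open Cfsg.Agent.H73.Suz Subgroup

variable {G : Type*} [Group G] [Finite G]

/-- Orbit and stabiliser for conjugation by a subgroup. -/
theorem orbit_card (C : Subgroup G) (x : G) :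
    Nat.card {v : G // ∃ c ∈ C, c * x * c⁻¹ = v} * Nat.card ↥(C ⊓ centralizer ({x} : Set G)) =
      Nat.card C := by
  classical
  haveI := Fintype.ofFinite G
  have h1 := H65.FourCount.card_eq_image_mul (G := C) (fun c => (c : G) * x * (c : G)⁻¹)
    (Finset.univ.filter fun c : C => (c : G) * x = x * c) (fun a b => by
      rw [Finset.mem_filter]
      simp only [Finset.mem_univ, true_and, Subgroup.coe_mul, InvMemClass.coe_inv]
      constructor
      · intro e
        calc (a : G)⁻¹ * b * x = (a : G)⁻¹ * ((b : G) * x * (b : G)⁻¹) * b := by group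
          _ = (a : G)⁻¹ * ((a : G) * x * (a : G)⁻¹) * b := by rw [e]
          _ = x * ((a : G)⁻¹ * b) := by group
      · intro e
        calc (b : G) * x * (b : G)⁻¹ = (a : G) * ((a : G)⁻¹ * b * x) * (b : G)⁻¹ := by group
          _ = (a : G) * (x * ((a : G)⁻¹ * b)) * (b : G)⁻¹ := by rw [e]
          _ = (a : G) * x * (a : G)⁻¹ := by group)
  rw [Nat.card_eq_fintype_card (α := C), h1]
  congr 1
  · rw [← Nat.card_eq_finsetCard]
    exact Nat.card_congr (Equiv.subtypeEquivRight fun v => by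
      rw [Finset.mem_image]
      exact ⟨fun ⟨c, hc, e⟩ => ⟨⟨c, hc⟩, Finset.mem_univ _, e⟩, fun ⟨c, _, e⟩ => ⟨c, c.2, e⟩⟩)
  · rw [← Nat.card_eq_finsetCard]
    exact Nat.card_congr
      { toFun := fun c => ⟨⟨(c : G), c.2.1⟩,
          Finset.mem_filter.mpr ⟨Finset.mem_univ _, mem_centralizer_singleton_iff.mp c.2.2⟩⟩
        invFun := fun c => ⟨((c : C) : G), (c : C).2,
          mem_centralizer_singleton_iff.mpr (Finset.mem_filter.mp c.2).2⟩
        left_inv := fun c => rfl
        right_inv := fun c => rfl }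

theorem class_card (x : G) :
    Nat.card {v : G // IsConj v x} * Nat.card (centralizer ({x} : Set G)) = Nat.card G := by
  have h1 := orbit_card (⊤ : Subgroup G) x
  rw [top_inf_eq, card_top] at h1
  rw [← h1]
  congr 1
  exact Nat.card_congr (Equiv.subtypeEquivRight fun v => by
    rw [isConj_comm, isConj_iff]; simp)

namespace Frame

variable {z : G} {Q : Subgroup G} {h : Setup z Q} {s w t om hh : G} (F : Frame h s w t om hh)
variable {s' w' g r : G}

include F

theorem card_Ct : Nat.card (centralizer ({t} : Set G)) = 161280 := by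
  have hnot : hh ∉ F.Ksub := fun hm => by
    have h3 := F.hh_v
    rw [mul_inv_eq_iff_eq_mul.mpr (F.mem_K.mp hm).2] at h3
    exact F.t_ne (right_eq_mul.mp h3)
  have hset : (centralizer ({t} : Set G) : Set G) =
      (F.Ksub : Set G) ∪ (fun x => hh⁻¹ * x) '' (F.Ksub : Set G) := by
    ext c
    constructor
    · intro hc
      rcases F.K_cases (mem_centralizer_singleton_iff.mp hc) with e | e
      · exact Or.inl e
      · exact Or.inr ⟨hh * c, e, by group⟩
    · rintro (e | ⟨x, hx, rfl⟩)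
      · exact e.1
      · exact mul_mem (inv_mem (mem_centralizer_singleton_iff.mpr F.hh_t)) hx.1
  have hdisj : Disjoint (F.Ksub : Set G) ((fun x => hh⁻¹ * x) '' (F.Ksub : Set G)) := by
    rw [Set.disjoint_left]
    rintro c hc ⟨x, hx, rfl⟩
    exact hnot (by simpa using mul_mem hx (inv_mem hc))
  rw [show Nat.card (centralizer ({t} : Set G)) = (centralizer ({t} : Set G) : Set G).ncard from
    Nat.card_coe_set_eq _, hset, Set.ncard_union_eq hdisj (Set.toFinite _) (Set.toFinite _),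
    Set.ncard_image_of_injective _ (mul_right_injective _)]
  have : (F.Ksub : Set G).ncard = 80640 := by
    rw [← F.card_K]; exact (Nat.card_coe_set_eq _).symm
  omega

/-- `C(z)` is transitive on its conjugates of `t`. -/
theorem t_class {c : G} (hct : IsConj c t) (hcz : c * z = z * c) :
    ∃ g ∈ centralizer ({z} : Set G), g * t * g⁻¹ = c := by
  obtain ⟨d, hd⟩ := isConj_iff.mp hct
  obtain ⟨k, hk, hk'⟩ := F.z_class (x := d * z * d⁻¹)
    (by rw [← hd, conj_mul, conj_mul, hcz]) (isConj_iff.mpr ⟨d⁻¹, by group⟩)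
  refine ⟨(k * d)⁻¹, inv_mem (mem_centralizer_singleton_iff.mpr (mul_inv_eq_iff_eq_mul.mp ?_)), ?_⟩
  · calc k * d * z * (k * d)⁻¹ = k * (d * z * d⁻¹) * k⁻¹ := by group
      _ = z := hk'
  · calc (k * d)⁻¹ * t * (k * d)⁻¹⁻¹ = d⁻¹ * (k⁻¹ * (t * k)) * d := by group
      _ = d⁻¹ * t * d := by rw [← hk, inv_mul_cancel_left]
      _ = c := by rw [← hd]; group

theorem card_t_in_Cz :
    Nat.card {v : G // ∃ c ∈ centralizer ({z} : Set G), c * t * c⁻¹ = v} = 6480 := by
  have h1 := orbit_card (centralizer ({z} : Set G)) t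
  rw [card_Cz h, show Nat.card ↥(centralizer ({z} : Set G) ⊓ centralizer ({t} : Set G)) = 512 from
    F.card_T] at h1
  omega

theorem card_z_in_Ct :
    Nat.card {v : G // ∃ c ∈ centralizer ({t} : Set G), c * z * c⁻¹ = v} = 315 := by
  have h1 := orbit_card (centralizer ({t} : Set G)) z
  rw [F.card_Ct, inf_comm,
    show Nat.card ↥(centralizer ({z} : Set G) ⊓ centralizer ({t} : Set G)) = 512 from F.card_T] at h1
  omega

omit F in
/-- Pairs with a given involution in the cyclic group of the product. -/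
def Pr (_F : Frame h s w t om hh) (x : G) (p : G × G) : Prop :=
  IsConj p.1 z ∧ IsConj p.2 t ∧ x ∈ zpowers (p.1 * p.2)

theorem conj_Pr {d x : G} {p : G × G} (hp : F.Pr x p) :
    F.Pr (d * x * d⁻¹) (d * p.1 * d⁻¹, d * p.2 * d⁻¹) := by
  obtain ⟨h1, h2, h3⟩ := hp
  refine ⟨(isConj_iff.mpr ⟨d, rfl⟩ : IsConj p.1 (d * p.1 * d⁻¹)).symm.trans h1,
    (isConj_iff.mpr ⟨d, rfl⟩ : IsConj p.2 (d * p.2 * d⁻¹)).symm.trans h2, ?_⟩
  obtain ⟨k, hk⟩ := mem_zpowers_iff.mp h3
  exact mem_zpowers_iff.mpr ⟨k, by rw [conj_mul, conj_zpow, hk]⟩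

theorem card_Pr_z : Nat.card {p : G × G // F.Pr z p} =
    6480 * Nat.card {u : G // IsConj u z ∧ z ∈ zpowers (u * t)} := by
  classical
  haveI := Fintype.ofFinite G
  rw [← F.card_t_in_Cz, Nat.card_eq_fintype_card, Fintype.card_subtype, Nat.card_eq_fintype_card,
    Fintype.card_subtype, Nat.card_eq_fintype_card, Fintype.card_subtype]
  set O := Finset.univ.filter fun v : G => ∃ c ∈ centralizer ({z} : Set G), c * t * c⁻¹ = v
  have hmaps : ∀ p ∈ Finset.univ.filter (fun p : G × G => F.Pr z p), p.2 ∈ O := by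
    intro p hp
    obtain ⟨-, h1, h2, h3⟩ := Finset.mem_filter.mp hp
    exact Finset.mem_filter.mpr ⟨Finset.mem_univ _, F.t_class h2
      (CycInvol.commute (F.zsq h1).1 (sq_of_isConj F.t2 h2) h3 h.zz).2.eq⟩
  rw [Finset.card_eq_sum_card_fiberwise hmaps]
  refine Finset.sum_const_nat fun v hv => ?_
  obtain ⟨-, c, hc, hcv⟩ := Finset.mem_filter.mp hv
  have hcz : c * z * c⁻¹ = z := mul_inv_eq_iff_eq_mul.mpr (mem_centralizer_singleton_iff.mp hc)
  refine Finset.card_bij' (fun p _ => c⁻¹ * p.1 * c) (fun u _ => (c * u * c⁻¹, v)) ?_ ?_ ?_ ?_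
  · intro p hp
    obtain ⟨hp, e⟩ := Finset.mem_filter.mp hp
    have h5 := F.conj_Pr (d := c⁻¹) (Finset.mem_filter.mp hp).2
    rw [inv_inv, e, show c⁻¹ * z * c = z by
      rw [mul_assoc, ← mem_centralizer_singleton_iff.mp hc, inv_mul_cancel_left],
      show c⁻¹ * v * c = t by rw [← hcv]; group] at h5
    exact Finset.mem_filter.mpr ⟨Finset.mem_univ _, h5.1, h5.2.2⟩
  · intro u hu
    obtain ⟨-, h1, h3⟩ := Finset.mem_filter.mp hu
    have h5 := F.conj_Pr (d := c) (p := (u, t)) ⟨h1, IsConj.refl t, h3⟩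
    rw [hcz, hcv] at h5
    exact Finset.mem_filter.mpr ⟨Finset.mem_filter.mpr ⟨Finset.mem_univ _, h5⟩, rfl⟩
  · intro p hp
    refine Prod.ext ?_ (Finset.mem_filter.mp hp).2.symm
    show c * (c⁻¹ * p.1 * c) * c⁻¹ = p.1
    group
  · intro u hu
    show c⁻¹ * (c * u * c⁻¹) * c = u
    group

theorem card_Pr_t : Nat.card {p : G × G // F.Pr t p} =
    315 * Nat.card {v : G // IsConj v t ∧ t ∈ zpowers (z * v)} := by
  classical
  haveI := Fintype.ofFinite G
  rw [← F.card_z_in_Ct, Nat.card_eq_fintype_card, Fintype.card_subtype, Nat.card_eq_fintype_card,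
    Fintype.card_subtype, Nat.card_eq_fintype_card, Fintype.card_subtype]
  set O := Finset.univ.filter fun v : G => ∃ c ∈ centralizer ({t} : Set G), c * z * c⁻¹ = v
  have hmaps : ∀ p ∈ Finset.univ.filter (fun p : G × G => F.Pr t p), p.1 ∈ O := by
    intro p hp
    obtain ⟨-, h1, h2, h3⟩ := Finset.mem_filter.mp hp
    obtain ⟨k, hk, hkz⟩ := F.z_class
      (CycInvol.commute (F.zsq h1).1 (sq_of_isConj F.t2 h2) h3 F.t2).1.eq h1
    exact Finset.mem_filter.mpr ⟨Finset.mem_univ _, k⁻¹,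
      inv_mem (mem_centralizer_singleton_iff.mpr hk), by rw [← hkz]; group⟩
  rw [Finset.card_eq_sum_card_fiberwise hmaps]
  refine Finset.sum_const_nat fun v hv => ?_
  obtain ⟨-, c, hc, hcv⟩ := Finset.mem_filter.mp hv
  have hct : c * t * c⁻¹ = t := mul_inv_eq_iff_eq_mul.mpr (mem_centralizer_singleton_iff.mp hc)
  refine Finset.card_bij' (fun p _ => c⁻¹ * p.2 * c) (fun u _ => (v, c * u * c⁻¹)) ?_ ?_ ?_ ?_
  · intro p hp
    obtain ⟨hp, e⟩ := Finset.mem_filter.mp hp
    have h5 := F.conj_Pr (d := c⁻¹) (Finset.mem_filter.mp hp).2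
    rw [inv_inv, e, show c⁻¹ * t * c = t by
      rw [mul_assoc, ← mem_centralizer_singleton_iff.mp hc, inv_mul_cancel_left],
      show c⁻¹ * v * c = z by rw [← hcv]; group] at h5
    exact Finset.mem_filter.mpr ⟨Finset.mem_univ _, h5.2.1, h5.2.2⟩
  · intro u hu
    obtain ⟨-, h1, h3⟩ := Finset.mem_filter.mp hu
    have h5 := F.conj_Pr (d := c) (p := (z, u)) ⟨IsConj.refl z, h1, h3⟩
    rw [hct, hcv] at h5
    exact Finset.mem_filter.mpr ⟨Finset.mem_filter.mpr ⟨Finset.mem_univ _, h5⟩, rfl⟩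
  · intro p hp
    refine Prod.ext (Finset.mem_filter.mp hp).2.symm ?_
    show c * (c⁻¹ * p.2 * c) * c⁻¹ = p.2
    group
  · intro u hu
    show c⁻¹ * (c * u * c⁻¹) * c = u
    group

theorem pairs_total :
    Nat.card {u : G // IsConj u z} * Nat.card {v : G // IsConj v t} =
      Nat.card {u : G // IsConj u z} * Nat.card {p : G × G // F.Pr z p} +
        Nat.card {v : G // IsConj v t} * Nat.card {p : G × G // F.Pr t p} := by
  classical
  haveI := Fintype.ofFinite G
  simp only [Nat.card_eq_fintype_card, Fintype.card_subtype]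
  set A := Finset.univ.filter fun u : G => IsConj u z with hA
  set B := Finset.univ.filter fun v : G => IsConj v t with hB
  have hex : ∀ p : G × G, p ∈ A ×ˢ B → ∃ c, c ∈ zpowers (p.1 * p.2) ∧ c * c = 1 ∧ c ≠ 1 := by
    intro p hp
    obtain ⟨h1, h2⟩ := Finset.mem_product.mp hp
    have h1' := (Finset.mem_filter.mp h1).2
    have h2' := (Finset.mem_filter.mp h2).2
    exact CycInvol.exists_invol (F.zsq h1').1 (sq_of_isConj F.t2 h2')
      fun e => F.t_not_z (h2'.symm.trans (e.symm.trans h1'))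
  let cu : G × G → G := fun p => if hp : p ∈ A ×ˢ B then (hex p hp).choose else 1
  have hcu : ∀ p (hp : p ∈ A ×ˢ B), cu p ∈ zpowers (p.1 * p.2) ∧ cu p * cu p = 1 ∧ cu p ≠ 1 :=
    fun p hp => by
      have e : cu p = (hex p hp).choose := dif_pos hp
      rw [e]; exact (hex p hp).choose_spec
  have hfib : ∀ x : G, x * x = 1 → x ≠ 1 → ((A ×ˢ B).filter fun p => cu p = x) =
      Finset.univ.filter fun p : G × G => F.Pr x p := by
    intro x hx2 hx1
    ext p
    constructor
    · intro hp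
      obtain ⟨hp, e⟩ := Finset.mem_filter.mp hp
      obtain ⟨h1, h2⟩ := Finset.mem_product.mp hp
      exact Finset.mem_filter.mpr ⟨Finset.mem_univ _, (Finset.mem_filter.mp h1).2,
        (Finset.mem_filter.mp h2).2, e ▸ (hcu p hp).1⟩
    · intro hp
      obtain ⟨-, h1, h2, h3⟩ := Finset.mem_filter.mp hp
      have hp' : p ∈ A ×ˢ B := Finset.mem_product.mpr
        ⟨Finset.mem_filter.mpr ⟨Finset.mem_univ _, h1⟩, Finset.mem_filter.mpr ⟨Finset.mem_univ _, h2⟩⟩
      exact Finset.mem_filter.mpr ⟨hp', CycInvol.unique (hcu p hp').1 h3 (hcu p hp').2.1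
        (hcu p hp').2.2 hx2 hx1⟩
  have hconst : ∀ x y : G, IsConj y x →
      (Finset.univ.filter fun p : G × G => F.Pr y p).card =
        (Finset.univ.filter fun p : G × G => F.Pr x p).card := by
    intro x y hyx
    obtain ⟨d, hd⟩ := isConj_iff.mp hyx
    refine Finset.card_bij' (fun p _ => (d * p.1 * d⁻¹, d * p.2 * d⁻¹))
      (fun p _ => (d⁻¹ * p.1 * d⁻¹⁻¹, d⁻¹ * p.2 * d⁻¹⁻¹)) ?_ ?_ ?_ ?_
    · intro p hp
      have h5 := F.conj_Pr (d := d) (Finset.mem_filter.mp hp).2
      rw [hd] at h5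
      exact Finset.mem_filter.mpr ⟨Finset.mem_univ _, h5⟩
    · intro p hp
      have h5 := F.conj_Pr (d := d⁻¹) (Finset.mem_filter.mp hp).2
      rw [show d⁻¹ * x * d⁻¹⁻¹ = y by rw [← hd]; group] at h5
      exact Finset.mem_filter.mpr ⟨Finset.mem_univ _, h5⟩
    · intro p _; refine Prod.ext ?_ ?_ <;> simp [mul_assoc]
    · intro p _; refine Prod.ext ?_ ?_ <;> simp [mul_assoc]
  have hmaps : ∀ p ∈ A ×ˢ B, cu p ∈ A ∪ B := by
    intro p hp
    obtain ⟨-, h2, h1⟩ := hcu p hp
    rcases F.types (F.ord_two h2 h1) with e | e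
    · exact Finset.mem_union_left _ (Finset.mem_filter.mpr ⟨Finset.mem_univ _, e⟩)
    · exact Finset.mem_union_right _ (Finset.mem_filter.mpr ⟨Finset.mem_univ _, e⟩)
  rw [← Finset.card_product, Finset.card_eq_sum_card_fiberwise hmaps, Finset.sum_union]
  · congr 1
    · refine Finset.sum_const_nat fun x hx => ?_
      have hx' := (Finset.mem_filter.mp hx).2
      rw [hfib x (F.zsq hx').1 (F.zsq hx').2]
      exact hconst z x hx'
    · refine Finset.sum_const_nat fun x hx => ?_
      have hx' := (Finset.mem_filter.mp hx).2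
      obtain ⟨d, hd⟩ := isConj_iff.mp hx'
      rw [hfib x (sq_of_isConj F.t2 hx') fun e => F.t_ne (by
        rw [← hd, e, mul_one, mul_inv_cancel])]
      exact hconst t x hx'
  · rw [Finset.disjoint_left]
    intro x hx hx'
    exact F.not_both (Finset.mem_filter.mp hx).2 (Finset.mem_filter.mp hx').2

/-- The order of `G`. -/
theorem order_mod (D : Five h s' w' g r) :
    ∃ M, M % 5 = 4 ∧ Nat.card G = 1045094400 * M := by
  refine ⟨Nat.card {u : G // IsConj u z ∧ z ∈ zpowers (u * t)} +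
    Nat.card {v : G // IsConj v t ∧ t ∈ zpowers (z * v)}, ?_, ?_⟩
  · have h1 := F.card_Yes_mod D
    have h2 := F.card_odd_mod D
    omega
  · have h1 := class_card (G := G) z
    have h2 := class_card (G := G) t
    have h3 := F.pairs_total
    rw [F.card_Pr_z, F.card_Pr_t] at h3
    rw [card_Cz h] at h1
    rw [F.card_Ct] at h2
    have hG : 0 < Nat.card G := Nat.card_pos
    generalize Nat.card {u : G // IsConj u z} = A at h1 h3
    generalize Nat.card {v : G // IsConj v t} = B at h2 h3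
    generalize Nat.card {u : G // IsConj u z ∧ z ∈ zpowers (u * t)} = Nz at h3 ⊢
    generalize Nat.card {v : G // IsConj v t ∧ t ∈ zpowers (z * v)} = Nt at h3 ⊢
    generalize Nat.card G = N at h1 h2 hG ⊢
    refine Nat.eq_of_mul_eq_mul_left hG ?_
    calc N * N = (A * B) * (3317760 * 161280) := by rw [← h1]; nth_rw 2 [h1]; rw [← h2]; ring
      _ = (A * (6480 * Nz) + B * (315 * Nt)) * (3317760 * 161280) := by rw [h3]
      _ = (A * 3317760) * (1045094400 * Nz) + (B * 161280) * (1045094400 * Nt) := by ring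
      _ = N * (1045094400 * (Nz + Nt)) := by rw [h1, h2]; ring

end Frame

end Cfsg.Agent.H55.Suz
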