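import Cfsg.Agent.H55.Suz.SylowFive
import Cfsg.Agent.H55.Suz.OrderFormula

/-!
The normaliser of a Sylow 5-subgroup has order 600 and two orbits on the nonidentity elements.
-/

set_option autoImplicit false
set_option linter.unusedSectionVars false
set_option linter.style.haveILetI false

namespace Cfsg.Agent.H55.Suz

open Cfsg.Agent.H73.Suz Subgroup

variable {G : Type*} [Group G] [Finite G]

theorem neg_one_five : ∀ e : ZMod 5, e ^ 2 = 1 → e = 1 ∨ e = 4 := by decide

theorem unit_five_four : ∀ e : ZMod 5, e ≠ 0 → e ^ 4 = 1 := by decide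

theorem double_zero_five : ∀ x : ZMod 5, x + x = 0 → x = 0 := by decide

theorem four_sq_ne : ¬ (4 : ZMod 5) * 4 = 4 := by decide

namespace Rank2

variable {w c : G} (D : Rank2 w c)

include D

/-- Commuting with both generators. -/
theorem centralizes {x : G} (h1 : x * w = w * x) (h2 : x * c = c * x) :
    x ∈ centralizer (D.R : Set G) := mem_centralizer_iff.mpr fun r hr => by
  obtain ⟨a, b, rfl⟩ := D.exists_pow_of_mem hr
  exact (((show Commute x w from h1).pow_right a).mul_right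
    ((show Commute x c from h2).pow_right b)).eq.symm

/-- An element fixing `w` and normalising the group: the exponent on the second generator is
multiplicative. -/
theorem second_pow {x : G} (hxw : x * w = w * x) {i j : ℕ}
    (hxc : x * c * x⁻¹ = w ^ i * c ^ j) (n : ℕ) :
    ∃ i', x ^ n * c * (x ^ n)⁻¹ = w ^ i' * c ^ (j ^ n) := by
  induction n with
  | zero => exact ⟨0, by simp⟩
  | succ n ih =>
    obtain ⟨i', hi'⟩ := ih
    refine ⟨i' + i * j ^ n, ?_⟩
    calc x ^ (n + 1) * c * (x ^ (n + 1))⁻¹ = x * (x ^ n * c * (x ^ n)⁻¹) * x⁻¹ := by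
          rw [pow_succ']; group
      _ = x * w ^ i' * x⁻¹ * (x * c * x⁻¹) ^ (j ^ n) := by rw [hi', conj_pow]; group
      _ = w ^ i' * (w ^ i * c ^ j) ^ (j ^ n) := by
          rw [((show Commute x w from hxw).pow_right i').eq, mul_inv_cancel_right, hxc]
      _ = _ := by
          rw [(show Commute (w ^ i) (c ^ j) from (show Commute w c from D.comm.symm).pow_pow i j).mul_pow,
            ← pow_mul, ← pow_mul, ← mul_assoc, ← pow_add, ← pow_succ']

theorem exp_unique {a b a' b' : ℕ} (e : w ^ a * c ^ b = w ^ a' * c ^ b') :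
    (a : ZMod 5) = a' ∧ (b : ZMod 5) = b' := by
  rw [← D.el_cast, ← D.el_cast] at e
  exact Prod.ext_iff.mp (D.el_inj e)

end Rank2

namespace Frame

variable {z : G} {Q : Subgroup G} {h : Setup z Q} {s w t om hh : G} (F : Frame h s w t om hh)
variable {s' w' g r : G}

omit [Finite G] in
/-- Elements of order five of the first kind. -/
def IsA (_F : Frame h s w t om hh) (u : G) : Prop :=
  orderOf u = 5 ∧ Nat.card (centralizer ({u} : Set G)) = 1800

omit [Finite G] in
/-- Elements of order five of the second kind. -/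
def IsB (_F : Frame h s w t om hh) (u : G) : Prop :=
  orderOf u = 5 ∧ Nat.card (centralizer ({u} : Set G)) = 300

include F

theorem kind_conj {u : G} {n : ℕ} (hn : orderOf u = 5) {d v : G} (hv : orderOf v = 5)
    (e : d * u * d⁻¹ = v ^ n) : (F.IsA u → F.IsA v) ∧ (F.IsB u → F.IsB v) := by
  have hc := card_cent_transfer (by norm_num) hn hv e
  exact ⟨fun hu => ⟨hv, hc ▸ hu.2⟩, fun hu => ⟨hv, hc ▸ hu.2⟩⟩

theorem not_AB {u : G} (ha : F.IsA u) (hb : F.IsB u) : False := by
  have := ha.2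
  rw [hb.2] at this
  norm_num at this

theorem A_invol (D : Five h s' w' g r) {u i : G} (hu : F.IsA u) (hi : orderOf i = 2)
    (hiu : i * u = u * i) : IsConj i z :=
  ((F.cent_five D hu.1 hi hiu).resolve_right fun e => by
    have := hu.2
    rw [e.2] at this
    norm_num at this).1

theorem B_invol (D : Five h s' w' g r) {u i : G} (hu : F.IsB u) (hi : orderOf i = 2)
    (hiu : i * u = u * i) : IsConj i t :=
  ((F.cent_five D hu.1 hi hiu).resolve_left fun e => by
    have := hu.2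
    rw [e.2] at this
    norm_num at this).1

theorem exists_comm_invol {u : G} (he : Even (Nat.card (centralizer ({u} : Set G)))) :
    ∃ i, orderOf i = 2 ∧ i * u = u * i := by
  haveI : Fact (Nat.Prime 2) := ⟨Nat.prime_two⟩
  obtain ⟨i, hi⟩ := exists_prime_orderOf_dvd_card' 2 he.two_dvd
  exact ⟨i, by rw [Subgroup.orderOf_coe, hi], mem_centralizer_singleton_iff.mp i.2⟩

/-- Elements of either kind are conjugate to their squares. -/
theorem exists_sq_conj (D : Five h s' w' g r) {u : G} (hu : F.IsA u ∨ F.IsB u) :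
    ∃ d, d * u * d⁻¹ = u ^ 2 := by
  have hfin : ∀ (v a d : G) (n : ℕ), d * u * d⁻¹ = v ^ n → a * v * a⁻¹ = v ^ 2 →
      ∃ d, d * u * d⁻¹ = u ^ 2 := by
    intro v a d n hd ha
    refine ⟨d⁻¹ * a * d, ?_⟩
    calc d⁻¹ * a * d * u * (d⁻¹ * a * d)⁻¹ = d⁻¹ * (a * (d * u * d⁻¹) * a⁻¹) * d := by group
      _ = d⁻¹ * (d * u * d⁻¹) ^ 2 * d := by
        rw [hd, ← conj_pow, ha, ← pow_mul, ← pow_mul, mul_comm]
      _ = u ^ 2 := by rw [conj_pow]; group
  rcases hu with hu | hu
  · obtain ⟨i, hi, hiu⟩ := F.exists_comm_invol (by rw [hu.2]; decide)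
    obtain ⟨d, n, hd, -⟩ := to_g D hu.1 (F.A_invol D hu hi hiu) hiu
    obtain ⟨c, -, hcg, -⟩ := D.exists_square
    exact hfin g c d n hd hcg
  · obtain ⟨i, hi, hiu⟩ := F.exists_comm_invol (by rw [hu.2]; decide)
    obtain ⟨y, hy, hyp⟩ := F.exists_order (p := 5) (Or.inl rfl)
    obtain ⟨d, n, hd, -⟩ := F.to_y (Or.inl rfl) hy hyp hu.1 (F.B_invol D hu hi hiu) hiu
    obtain ⟨a, -, ha⟩ := F.exists_exp_all (Or.inl rfl) hy hyp 2 (by decide)
    exact hfin y a d n hd ha

theorem exists_in_sylow (D : Five h s' w' g r) (P : Sylow 5 G) :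
    ∃ a b, a ∈ (P : Subgroup G) ∧ b ∈ (P : Subgroup G) ∧ F.IsA a ∧ F.IsB b ∧ Rank2 a b := by
  haveI : Fact (Nat.Prime 5) := ⟨by norm_num⟩
  have hmove : ∀ x : G, orderOf x = 5 → ∃ d, d * x * d⁻¹ ∈ (P : Subgroup G) := by
    intro x hx
    obtain ⟨P', hP'⟩ := (IsPGroup.of_card (p := 5) (n := 1) (G := zpowers x)
      (by rw [Nat.card_zpowers, hx, pow_one])).exists_le_sylow
    obtain ⟨d, hd⟩ := MulAction.exists_smul_eq G P' P
    exact ⟨d, by rw [← hd]; exact ⟨x, hP' (mem_zpowers x), rfl⟩⟩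
  obtain ⟨y, hy, hyp⟩ := F.exists_order (p := 5) (Or.inl rfl)
  obtain ⟨d, hd⟩ := hmove g D.ord
  obtain ⟨d', hd'⟩ := hmove y hyp
  have h1 : orderOf (d * g * d⁻¹) = 5 := (H65.orderOf_conj' d g).trans D.ord
  have h2 : orderOf (d' * y * d'⁻¹) = 5 := (H65.orderOf_conj' d' y).trans hyp
  have hA : F.IsA (d * g * d⁻¹) :=
    (F.kind_conj D.ord (n := 1) (d := d) h1 (pow_one _).symm).1 ⟨D.ord, F.card_Cg D⟩
  have hB : F.IsB (d' * y * d'⁻¹) :=
    (F.kind_conj hyp (n := 1) (d := d') h2 (pow_one _).symm).2 ⟨hyp, F.card_Cy_five D hy hyp⟩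
  have hcomm := IsPGroup.isMulCommutative_of_card_eq_prime_sq (p := 5) (G := (P : Subgroup G))
    (by rw [F.dvd_25 D]; norm_num)
  refine ⟨_, _, hd, hd', hA, hB, h1, h2,
    congrArg Subtype.val (hcomm.is_comm.comm (⟨_, hd'⟩ : (P : Subgroup G)) ⟨_, hd⟩), fun e => ?_⟩
  rw [← mem_powers_iff_mem_zpowers, Submonoid.mem_powers_iff] at e
  obtain ⟨n, hn⟩ := e
  exact F.not_AB hA ((F.kind_conj h2 (n := n) (d := 1) h1 (by rw [hn]; group)).2 hB)

theorem eq_R (D : Five h s' w' g r) (P : Sylow 5 G) {a b : G} (hab : Rank2 a b)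
    (ha : a ∈ (P : Subgroup G)) (hb : b ∈ (P : Subgroup G)) : hab.R = (P : Subgroup G) :=
  eq_of_le_of_card_ge (by
    rintro _ ⟨k, rfl⟩
    exact mul_mem (pow_mem ha _) (pow_mem hb _)) (by rw [hab.card_R, F.dvd_25 D])

/-- A Sylow 5-subgroup is its own centraliser. -/
theorem cent_P (D : Five h s' w' g r) (P : Sylow 5 G) :
    centralizer ((P : Subgroup G) : Set G) = (P : Subgroup G) := by
  classical
  haveI : Fact (Nat.Prime 5) := ⟨by norm_num⟩
  haveI : Fact (Nat.Prime 2) := ⟨Nat.prime_two⟩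
  obtain ⟨a, b, ha, hb, hA, hB, hab⟩ := F.exists_in_sylow D P
  have hR := F.eq_R D P hab ha hb
  set C := centralizer ((P : Subgroup G) : Set G)
  have hPC : (P : Subgroup G) ≤ C := fun x hx => mem_centralizer_iff.mpr fun r hr => by
    rw [← hR] at hx hr
    exact hab.R_comm hr hx
  have hCmem : ∀ {u}, u ∈ (P : Subgroup G) → C ≤ centralizer ({u} : Set G) := fun {u} hu x hx =>
    mem_centralizer_singleton_iff.mpr (mem_centralizer_iff.mp hx u hu).symm
  have hodd : Odd (Nat.card C) := by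
    refine Nat.not_even_iff_odd.mp fun he => ?_
    obtain ⟨i, hi⟩ := exists_prime_orderOf_dvd_card' 2 he.two_dvd
    have hi2 : orderOf (i : G) = 2 := by rw [Subgroup.orderOf_coe, hi]
    exact F.not_both (F.A_invol D hA hi2 (mem_centralizer_singleton_iff.mp (hCmem ha i.2)))
      (F.B_invol D hB hi2 (mem_centralizer_singleton_iff.mp (hCmem hb i.2)))
  have h75 : Nat.card C ∣ 75 := by
    have h1 : Nat.card C ∣ 300 := hB.2 ▸ card_dvd_of_le (hCmem hb)
    exact Nat.Coprime.dvd_of_dvd_mul_right (Nat.coprime_two_right.mpr hodd |>.pow_right 2)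
      (show Nat.card C ∣ 75 * 2 ^ 2 by norm_num; exact h1)
  have h25 : 25 ∣ Nat.card C := F.dvd_25 D (P := P) ▸ card_dvd_of_le hPC
  have hcases : Nat.card C = 25 ∨ Nat.card C = 75 := by
    obtain ⟨k, hk⟩ := h25
    rw [hk] at h75
    have h3 : k ∣ 3 := Nat.dvd_of_mul_dvd_mul_left (by norm_num) (show 25 * k ∣ 25 * 3 from h75)
    rcases (Nat.dvd_prime Nat.prime_three).mp h3 with rfl | rfl
    · exact Or.inl (by omega)
    · exact Or.inr (by omega)
  rcases hcases with e | e
  · exact (eq_of_le_of_card_ge hPC (by rw [F.dvd_25 D, e])).symm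
  exfalso
  -- then `C(b)` normalises `P`
  set X := centralizer ({b} : Set G) with hX
  have hPX : (P : Subgroup G) ≤ X := hPC.trans (hCmem hb)
  set R := (P : Subgroup G).subgroupOf X with hRdef
  have hR25 : Nat.card R = 25 := by
    rw [hRdef, Nat.card_congr (subgroupOfEquivOfLe hPX).toEquiv, F.dvd_25 D]
  have hX300 : Nat.card X = 300 := hB.2
  have hfac : (Nat.card X).factorization 5 = 2 := by
    rw [hX300, show 300 = 5 ^ 2 * 12 by norm_num, Nat.factorization_mul (by norm_num) (by norm_num),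
      Finsupp.add_apply, (show Nat.Prime 5 by norm_num).factorization_pow, Finsupp.single_eq_same,
      Nat.factorization_eq_zero_of_not_dvd (by norm_num)]
  set S : Sylow 5 X := Sylow.ofCard R (by rw [hfac, hR25]; norm_num)
  have hN : normalizer (R : Set X) = ⊤ := by
    rw [← index_eq_one]
    have h1 : Nat.card (Sylow 5 X) % 5 = 1 := card_sylow_modEq_one 5 X
    have h2 : Nat.card (Sylow 5 X) ∣ R.index := S.card_dvd_index
    have h3 : Nat.card (Sylow 5 X) = (normalizer (R : Set X)).index := S.card_eq_index_normalizer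
    have h4 := (normalizer (R : Set X)).card_mul_index
    have h5 := R.card_mul_index
    rw [hR25, hX300] at h5
    rw [show R.index = 12 by omega] at h2
    have hle : C.subgroupOf X ≤ normalizer (R : Set X) := fun x hx => mem_normalizer_iff.mpr fun n => by
      have hc : ∀ r : G, r ∈ (P : Subgroup G) → (x : G) * r * (x : G)⁻¹ = r := fun r hr =>
        mul_inv_eq_iff_eq_mul.mpr (mem_centralizer_iff.mp (mem_subgroupOf.mp hx) r hr).symm
      constructor
      · intro hn
        show ((x * n * x⁻¹ : X) : G) ∈ (P : Subgroup G)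
        simp only [Subgroup.coe_mul, InvMemClass.coe_inv]
        rw [hc n hn]; exact hn
      · intro hn
        have hn' : (x : G) * n * (x : G)⁻¹ ∈ (P : Subgroup G) := hn
        have h6 := hc _ hn'
        have h7 : (x : G) * n * (x : G)⁻¹ = n := mul_left_cancel (mul_right_cancel h6)
        show (n : G) ∈ (P : Subgroup G)
        rw [← h7]; exact hn'
    have h6 := card_le_of_le hle
    rw [Nat.card_congr (subgroupOfEquivOfLe (hCmem hb)).toEquiv, e] at h6
    rw [← h3, hX300] at h4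
    rw [← h3]
    rcases div_twelve _ (Nat.lt_succ_of_le (Nat.le_of_dvd (by norm_num) h2)) h2 h1 with r | r
    · exact r
    · rw [r] at h4; omega
  have hnorm : ∀ x ∈ X, x * a * x⁻¹ ∈ (P : Subgroup G) := fun x hx =>
    (mem_normalizer_iff.mp (show (⟨x, hx⟩ : X) ∈ normalizer (R : Set X) by rw [hN]; trivial)
      ⟨a, hPX ha⟩).mp ha
  have hba : Rank2 b a :=
    ⟨hab.hc, hab.hw, hab.comm.symm, fun e' => by
      rw [← mem_powers_iff_mem_zpowers, Submonoid.mem_powers_iff] at e'
      obtain ⟨n, hn⟩ := e'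
      exact F.not_AB ((F.kind_conj hab.hw (n := n) (d := 1) hab.hc (by rw [hn]; group)).1 hA) hB⟩
  have hR' := F.eq_R D P hba hb ha
  have hexp : ∀ x ∈ X, ∃ i j : ℕ, x * a * x⁻¹ = b ^ i * a ^ j := fun x hx =>
    hba.exists_pow_of_mem (hR'.symm ▸ hnorm x hx)
  have hinv : ∀ i : G, i ∈ X → orderOf i = 2 → ∀ f j : ℕ, i * a * i⁻¹ = b ^ f * a ^ j →
      (j : ZMod 5) = 4 := by
    intro i hiX hi f j hij
    have hib : i * b = b * i := mem_centralizer_singleton_iff.mp hiX
    have h2 : i * (i * a * i⁻¹) * i⁻¹ = a := by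
      rw [show i * (i * a * i⁻¹) * i⁻¹ = i * i * a * (i * i)⁻¹ by group, H65.mul_self_eq_one hi]
      simp
    rw [hij, ← conj_mul, ← conj_pow, ← conj_pow, hij, mul_inv_eq_iff_eq_mul.mpr hib,
      (show Commute (b ^ f) (a ^ j) from (show Commute b a from hab.comm).pow_pow f j).mul_pow,
      ← pow_mul, ← pow_mul, ← mul_assoc, ← pow_add] at h2
    obtain ⟨e1, e2⟩ := hba.exp_unique (a' := 0) (b' := 1) (h2.trans (by simp))
    push_cast at e1 e2
    refine (neg_one_five _ (by rw [pow_two]; exact e2)).resolve_left fun e3 => ?_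
    rw [e3, mul_one] at e1
    have hf : (f : ZMod 5) = 0 := double_zero_five _ e1
    rw [hba.congr (a' := 0) (b' := 1) (by rw [hf]; simp) (by rw [e3]; simp), pow_zero, one_mul,
      pow_one] at hij
    exact F.not_both (F.A_invol D hA hi (mul_inv_eq_iff_eq_mul.mp hij)) (F.B_invol D hB hi hib)
  obtain ⟨y, hy, hyp⟩ := F.exists_order (p := 5) (Or.inl rfl)
  obtain ⟨i₀, hi₀, hi₀b⟩ := F.exists_comm_invol (show Even (Nat.card X) by rw [hX300]; decide)
  obtain ⟨d, n, hd, -⟩ := F.to_y (Or.inl rfl) hy hyp hB.1 (F.B_invol D hB hi₀ hi₀b) hi₀b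
  have hpull : ∀ v ∈ F.Vsub, d⁻¹ * v * d ∈ X := fun v hv => by
    refine mem_centralizer_singleton_iff.mpr ((cent_transfer (by norm_num) hB.1 hyp hd _).mpr ?_)
    rw [show d * (d⁻¹ * v * d) * d⁻¹ = v by group]
    exact (F.V_comm hv hy).symm
  have hord : ∀ v : G, v * v = 1 → v ≠ 1 → orderOf (d⁻¹ * v * d) = 2 := fun v h2 h1 => by
    have := H65.orderOf_conj' d⁻¹ v
    rw [inv_inv] at this
    rw [this, F.ord_two h2 h1]
  have hT : t ∈ F.Vsub := Or.inr (Or.inl rfl)
  have hV : F.vv ∈ F.Vsub := Or.inr (Or.inr (Or.inl rfl))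
  obtain ⟨f₁, j₁, h1⟩ := hexp _ (hpull t hT)
  obtain ⟨f₂, j₂, h2⟩ := hexp _ (hpull _ hV)
  obtain ⟨f₃, j₃, h3⟩ := hexp _ (hpull _ (mul_mem hT hV))
  have k1 := hinv _ (hpull t hT) (hord t F.t2 F.t_ne) f₁ j₁ h1
  have k2 := hinv _ (hpull _ hV) (hord _ F.v2 F.v_ne) f₂ j₂ h2
  have k3 := hinv _ (hpull _ (mul_mem hT hV))
    (hord _ F.tv2 fun e' => tb_ne.2.2.1 (isW_unique F.P (isW_mul F.P F.ht F.hv)
      (by rw [e']; exact isW_one F.P))) f₃ j₃ h3
  have hprod : d⁻¹ * (t * F.vv) * d = d⁻¹ * t * d * (d⁻¹ * F.vv * d) := by group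
  rw [hprod, show d⁻¹ * t * d * (d⁻¹ * F.vv * d) * a * (d⁻¹ * t * d * (d⁻¹ * F.vv * d))⁻¹ =
    d⁻¹ * t * d * (d⁻¹ * F.vv * d * a * (d⁻¹ * F.vv * d)⁻¹) * (d⁻¹ * t * d)⁻¹ by group, h2,
    ← conj_mul, ← conj_pow, ← conj_pow, h1,
    mul_inv_eq_iff_eq_mul.mpr (mem_centralizer_singleton_iff.mp (hpull t hT)),
    (show Commute (b ^ f₁) (a ^ j₁) from (show Commute b a from hab.comm).pow_pow f₁ j₁).mul_pow,
    ← pow_mul, ← pow_mul, ← mul_assoc, ← pow_add] at h3
  obtain ⟨-, e3⟩ := hba.exp_unique h3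
  push_cast at e3
  rw [k1, k2, k3] at e3
  exact four_sq_ne e3

theorem card_NC (D : Five h s' w' g r) (P : Sylow 5 G) {a : G} (haP : a ∈ (P : Subgroup G))
    (ha : F.IsA a ∨ F.IsB a) :
    Nat.card ↥(normalizer ((P : Subgroup G) : Set G) ⊓ centralizer ({a} : Set G)) = 50 := by
  classical
  haveI : Fact (Nat.Prime 5) := ⟨by norm_num⟩
  have ha5 : orderOf a = 5 := ha.elim (·.1) (·.1)
  have hcard : Nat.card (centralizer ({a} : Set G)) = 1800 ∨
      Nat.card (centralizer ({a} : Set G)) = 300 := ha.imp (·.2) (·.2)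
  have hcomm := IsPGroup.isMulCommutative_of_card_eq_prime_sq (p := 5) (G := (P : Subgroup G))
    (by rw [F.dvd_25 D]; norm_num)
  have hPc : ∀ x ∈ (P : Subgroup G), ∀ y ∈ (P : Subgroup G), x * y = y * x := fun x hx y hy =>
    congrArg Subtype.val (hcomm.is_comm.comm (⟨x, hx⟩ : (P : Subgroup G)) ⟨y, hy⟩)
  obtain ⟨b, hbP, hb5, hbn⟩ : ∃ b ∈ (P : Subgroup G), orderOf b = 5 ∧ b ∉ zpowers a := by
    obtain ⟨x, y, hx, hy, -, -, hxy⟩ := F.exists_in_sylow D P
    by_cases hxa : x ∈ zpowers a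
    · refine ⟨y, hy, hxy.hc, fun hya => hxy.nmem ?_⟩
      rw [eq_of_le_of_card_ge (zpowers_le.mpr hxa)
        (by rw [Nat.card_zpowers, Nat.card_zpowers, hxy.hw, ha5])]
      exact hya
    · exact ⟨x, hx, hxy.hw, hxa⟩
  have hab : Rank2 a b := ⟨ha5, hb5, hPc b hbP a haP, hbn⟩
  have hR := F.eq_R D P hab haP hbP
  set C := centralizer ({a} : Set G) with hC
  set M := normalizer ((P : Subgroup G) : Set G) ⊓ C with hM
  have hPC : (P : Subgroup G) ≤ C := fun x hx => mem_centralizer_singleton_iff.mpr (hPc x hx a haP)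
  have hPM : (P : Subgroup G) ≤ M := le_inf le_normalizer hPC
  -- the exponents
  have hexp : ∀ x ∈ M, ∃ i j : ℕ, x * b * x⁻¹ = a ^ i * b ^ j := fun x hx =>
    hab.exists_pow_of_mem (hR.symm ▸ (mem_normalizer_iff.mp hx.1 b).mp hbP)
  have hker : ∀ x ∈ M, ∀ i j : ℕ, x * b * x⁻¹ = a ^ i * b ^ j → (j : ZMod 5) = 1 →
      x ∈ (P : Subgroup G) := by
    intro x hx i j hxb hj
    have hxa : x * a = a * x := mem_centralizer_singleton_iff.mp hx.2
    rw [hab.pow_congr_c (b' := 1) (by rw [hj]; simp), pow_one] at hxb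
    have hstep : ∀ n : ℕ, x ^ n * b * (x ^ n)⁻¹ = a ^ (i * n) * b := by
      intro n
      induction n with
      | zero => simp
      | succ n ih =>
        calc x ^ (n + 1) * b * (x ^ (n + 1))⁻¹ = x * (x ^ n * b * (x ^ n)⁻¹) * x⁻¹ := by
              rw [pow_succ']; group
          _ = x * a ^ (i * n) * x⁻¹ * (x * b * x⁻¹) := by rw [ih]; group
          _ = _ := by
              rw [((show Commute x a from hxa).pow_right _).eq, mul_inv_cancel_right, hxb,
                ← mul_assoc, ← pow_add, mul_add, mul_one]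
    have h5 : x ^ 5 ∈ (P : Subgroup G) := by
      rw [← F.cent_P D P, ← hR]
      refine hab.centralizes ((show Commute x a from hxa).pow_left 5).eq (mul_inv_eq_iff_eq_mul.mp ?_)
      rw [hstep 5, hab.pow_congr_w (a' := 0) (by push_cast; rw [show (5 : ZMod 5) = 0 from rfl, mul_zero]),
        pow_zero, one_mul]
    have hp : IsPGroup 5 (zpowers x) := by
      obtain ⟨k, hk⟩ := P.2 ⟨x ^ 5, h5⟩
      have h1 : x ^ (5 ^ (k + 1)) = 1 := by
        rw [pow_succ', pow_mul]; exact congrArg Subtype.val hk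
      obtain ⟨l, -, hl⟩ := (Nat.dvd_prime_pow (show Nat.Prime 5 by norm_num)).mp
        (orderOf_dvd_of_pow_eq_one h1)
      exact IsPGroup.of_card (n := l) (by rw [Nat.card_zpowers, hl])
    have h6 : zpowers x ⊔ (P : Subgroup G) = (P : Subgroup G) :=
      P.3 (hp.to_sup_of_normal_right' P.2 (zpowers_le.mpr hx.1)) le_sup_right
    rw [← h6]
    exact mem_sup_left (mem_zpowers x)
  -- the bound
  set R := (P : Subgroup G).subgroupOf M
  have hR25 : Nat.card R = 25 := by
    rw [Nat.card_congr (subgroupOfEquivOfLe hPM).toEquiv, F.dvd_25 D]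
  have hidx : R.index ≤ 4 := by
    choose i j hij using fun x : M => hexp x x.2
    have hj0 : ∀ x, (j x : ZMod 5) ≠ 0 := fun x hx0 => by
      have h1 := hij x
      rw [hab.pow_congr_c (b' := 0) (by rw [hx0]; simp), pow_zero, mul_one] at h1
      apply hbn
      have h2 : (x : G)⁻¹ * a * x = a := by
        rw [mul_assoc, ← mem_centralizer_singleton_iff.mp x.2.2, inv_mul_cancel_left]
      have h3 : b = a ^ i x := by
        calc b = (x : G)⁻¹ * ((x : G) * b * (x : G)⁻¹) * (x : G)⁻¹⁻¹ := by group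
          _ = a ^ i x := by rw [h1, ← conj_pow, inv_inv, h2]
      rw [h3]; exact pow_mem (mem_zpowers a) _
    let f : M → (ZMod 5)ˣ := fun x => Units.mk0 (j x : ZMod 5) (hj0 x)
    have hf : ∀ x y : M, f x = f y → x⁻¹ * y ∈ R := by
      intro x y e
      have e' : (j x : ZMod 5) = j y := congrArg Units.val e
      obtain ⟨i', j', hd⟩ := hexp _ (x⁻¹ * y : M).2
      refine hker _ (x⁻¹ * y : M).2 i' j' hd ?_
      have h1 : (x : G) * ((x⁻¹ * y : M) : G) = y := by simp
      have h2 := hij y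
      rw [← h1, show (x : G) * ((x⁻¹ * y : M) : G) * b * ((x : G) * ((x⁻¹ * y : M) : G))⁻¹ =
        (x : G) * (((x⁻¹ * y : M) : G) * b * ((x⁻¹ * y : M) : G)⁻¹) * (x : G)⁻¹ by group, hd,
        ← conj_mul, ← conj_pow, ← conj_pow, hij x,
        mul_inv_eq_iff_eq_mul.mpr (mem_centralizer_singleton_iff.mp x.2.2),
        (show Commute (a ^ i x) (b ^ j x) from (show Commute a b from hab.comm.symm).pow_pow _ _).mul_pow,
        ← pow_mul, ← pow_mul, ← mul_assoc, ← pow_add] at h2
      obtain ⟨-, e2⟩ := hab.exp_unique h2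
      push_cast at e2
      rw [← e'] at e2
      exact mul_left_cancel₀ (hj0 x) (e2.trans (mul_one _).symm)
    have hinj : Function.Injective fun c : M ⧸ R => f c.out := by
      intro c c' e
      rw [← QuotientGroup.out_eq' c, ← QuotientGroup.out_eq' c']
      exact QuotientGroup.eq.mpr (hf _ _ e)
    have h1 := Nat.card_le_card_of_injective _ hinj
    rw [← index_eq_card, Nat.card_eq_fintype_card (α := (ZMod 5)ˣ), ZMod.card_units] at h1
    exact h1
  have h5 := R.card_mul_index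
  rw [hR25] at h5
  -- Sylow's theorem in the centraliser
  set S := (P : Subgroup G).subgroupOf C
  have hS25 : Nat.card S = 25 := by
    rw [Nat.card_congr (subgroupOfEquivOfLe hPC).toEquiv, F.dvd_25 D]
  have hfac : (Nat.card C).factorization 5 = 2 := by
    rcases hcard with e | e <;> rw [e]
    · rw [show 1800 = 5 ^ 2 * 72 by norm_num, Nat.factorization_mul (by norm_num) (by norm_num),
        Finsupp.add_apply, (show Nat.Prime 5 by norm_num).factorization_pow, Finsupp.single_eq_same,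
        Nat.factorization_eq_zero_of_not_dvd (by norm_num)]
    · rw [show 300 = 5 ^ 2 * 12 by norm_num, Nat.factorization_mul (by norm_num) (by norm_num),
        Finsupp.add_apply, (show Nat.Prime 5 by norm_num).factorization_pow, Finsupp.single_eq_same,
        Nat.factorization_eq_zero_of_not_dvd (by norm_num)]
  set S' : Sylow 5 C := Sylow.ofCard S (by rw [hfac, hS25]; norm_num)
  have h1 : Nat.card (Sylow 5 C) % 5 = 1 := card_sylow_modEq_one 5 C
  have h2 : Nat.card (Sylow 5 C) ∣ S.index := S'.card_dvd_index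
  have h3 : Nat.card (Sylow 5 C) = (normalizer (S : Set C)).index := S'.card_eq_index_normalizer
  have h4 := (normalizer (S : Set C)).card_mul_index
  have h6 := S.card_mul_index
  rw [hS25] at h6
  have hNM : Nat.card (normalizer (S : Set C)) ≤ Nat.card M := by
    refine Nat.card_le_card_of_injective (fun x => ⟨((x : C) : G), mem_normalizer_iff.mpr fun n =>
      ⟨fun hn => (mem_normalizer_iff.mp x.2 ⟨n, hPC hn⟩).mp hn, fun hn => ?_⟩, (x : C).2⟩) ?_
    · have hnC : n ∈ C := by
        have h7 := mul_mem (mul_mem (inv_mem (x : C).2) (hPC hn)) (x : C).2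
        rwa [show ((x : C) : G)⁻¹ * (((x : C) : G) * n * ((x : C) : G)⁻¹) * ((x : C) : G) = n by
          group] at h7
      exact (mem_normalizer_iff.mp x.2 ⟨n, hnC⟩).mpr hn
    · intro x y e
      exact Subtype.ext (Subtype.ext (congrArg (fun m : M => (m : G)) e))
  have hMN : Nat.card M ≤ Nat.card (normalizer (S : Set C)) := by
    refine Nat.card_le_card_of_injective (fun x => ⟨⟨x, x.2.2⟩, mem_normalizer_iff.mpr fun n =>
      mem_normalizer_iff.mp x.2.1 n⟩) ?_
    intro x y e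
    exact Subtype.ext (congrArg (fun m : normalizer (S : Set C) => ((m : C) : G)) e)
  rw [← h3] at h4
  rcases hcard with e | e <;> rw [e] at h4 h6
  · rw [show S.index = 72 by omega] at h2
    rcases div_seventytwo _ (Nat.lt_succ_of_le (Nat.le_of_dvd (by norm_num) h2)) h2 h1 with
      r | r | r <;> rw [r] at h4 <;> omega
  · rw [show S.index = 12 by omega] at h2
    rcases div_twelve _ (Nat.lt_succ_of_le (Nat.le_of_dvd (by norm_num) h2)) h2 h1 with
      r | r <;> rw [r] at h4 <;> omega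

end Frame

end Cfsg.Agent.H55.Suz
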