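import Mathlib

/-!
Recognition of `Z4 × S3`.
-/

set_option autoImplicit false
set_option linter.unusedSectionVars false
set_option linter.style.haveILetI false

namespace Cfsg.Agent.H55.Suz.ZFourSThree

open Subgroup
open scoped Pointwise

theorem equiv {X : Type*} [Group X] [Finite X] {Y : Type*} [Finite Y] (φ : X →* Equiv.Perm Y)
    (hX : Nat.card X = 24) (hY : Nat.card Y = 3)
    (hσ : ∃ σ ∈ φ.ker, orderOf σ = 4) (hker : Nat.card φ.ker ≤ 4)
    (hcen : ∀ k ∈ φ.ker, ∀ x : X, x * k = k * x)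
    (hr : ∃ r : X, orderOf r = 2 ∧ r ∉ φ.ker) :
    Nonempty (X ≃* Multiplicative (ZMod 4) × Equiv.Perm (Fin 3)) := by
  classical
  haveI := Fintype.ofFinite Y
  haveI : Fact (Nat.Prime 3) := ⟨Nat.prime_three⟩
  haveI : Nontrivial Y := Finite.one_lt_card_iff_nontrivial.mp (by rw [hY]; norm_num)
  obtain ⟨σ, hσk, hσ4⟩ := hσ
  obtain ⟨r, hr2, hrk⟩ := hr
  have hcardY : Fintype.card Y = 3 := by rw [← Nat.card_eq_fintype_card]; exact hY
  have hP6 : Nat.card (Equiv.Perm Y) = 6 := by
    rw [Nat.card_perm, hY]; rfl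
  have hk4 : Nat.card φ.ker = 4 :=
    le_antisymm hker (Nat.le_of_dvd Nat.card_pos (hσ4 ▸ Subgroup.orderOf_dvd_natCard _ hσk))
  have hkσ : zpowers σ = φ.ker :=
    eq_of_le_of_card_ge (zpowers_le.mpr hσk) (by rw [hk4, Nat.card_zpowers, hσ4])
  -- the element of order three
  obtain ⟨c, hc⟩ := exists_prime_orderOf_dvd_card' (G := X) 3 (by rw [hX]; norm_num)
  have hk_pow : ∀ k ∈ φ.ker, k ^ 3 = 1 → k = 1 := fun k hk h3 => orderOf_eq_one_iff.mp
    (Nat.eq_one_of_dvd_coprimes (by norm_num : Nat.Coprime 3 4) (orderOf_dvd_of_pow_eq_one h3)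
      (hk4 ▸ Subgroup.orderOf_dvd_natCard _ hk))
  have hck : c ∉ φ.ker := fun hm => by
    have := hk4 ▸ Subgroup.orderOf_dvd_natCard _ hm
    rw [hc] at this; norm_num at this
  have hφc : orderOf (φ c) = 3 := orderOf_eq_prime
    (by rw [← map_pow, show c ^ 3 = 1 by rw [← hc, pow_orderOf_eq_one], map_one])
    fun e => hck (MonoidHom.mem_ker.mpr e)
  have hA : zpowers (φ c) = alternatingGroup Y := by
    have hle : zpowers (φ c) ≤ alternatingGroup Y := zpowers_le.mpr (by
      rw [Equiv.Perm.mem_alternatingGroup]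
      have h1 : Equiv.Perm.sign (φ c) ^ 3 = 1 := by
        rw [← map_pow, ← hφc, pow_orderOf_eq_one, map_one]
      rcases Int.units_eq_one_or (Equiv.Perm.sign (φ c)) with e | e
      · exact e
      · rw [e] at h1; exact absurd h1 (by decide))
    refine eq_of_le_of_card_ge hle ?_
    have h2 : 2 * Nat.card (alternatingGroup Y) = 6 := by
      rw [two_mul_nat_card_alternatingGroup]; exact hP6
    rw [Nat.card_zpowers, hφc]
    omega
  haveI hN : (zpowers c).Normal := ⟨fun n hn x => by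
    have hgen : x * c * x⁻¹ ∈ zpowers c := by
      have h1 : φ (x * c * x⁻¹) ∈ zpowers (φ c) := by
        rw [hA, map_mul, map_mul, map_inv]
        exact (inferInstance : (alternatingGroup Y).Normal).conj_mem _ (hA ▸ mem_zpowers _) _
      obtain ⟨j, hj⟩ := mem_zpowers_iff.mp h1
      set k := (c ^ j)⁻¹ * (x * c * x⁻¹) with hk
      have hkk : k ∈ φ.ker := MonoidHom.mem_ker.mpr (by
        rw [hk, map_mul, map_inv, map_zpow, hj, inv_mul_cancel])
      have he : x * c * x⁻¹ = c ^ j * k := by rw [hk, mul_inv_cancel_left]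
      have h3 : (x * c * x⁻¹) ^ 3 = 1 := by
        rw [conj_pow, show c ^ 3 = 1 by rw [← hc, pow_orderOf_eq_one], mul_one, mul_inv_cancel]
      have hc3 : (c ^ j) ^ 3 = 1 := by
        rw [← zpow_natCast, ← zpow_mul, mul_comm, zpow_mul, zpow_natCast,
          show c ^ 3 = 1 by rw [← hc, pow_orderOf_eq_one], one_zpow]
      rw [he, (show Commute (c ^ j) k from hcen k hkk _).mul_pow, hc3, one_mul] at h3
      rw [he, hk_pow k hkk h3, mul_one]
      exact zpow_mem (mem_zpowers c) j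
    obtain ⟨i, rfl⟩ := mem_zpowers_iff.mp hn
    rw [← conj_zpow]
    exact zpow_mem hgen i⟩
  set M := zpowers c ⊔ zpowers r with hM
  let q : M →* Equiv.Perm Y := φ.comp M.subtype
  have hφr : φ r ∉ zpowers (φ c) := fun hm => by
    have h1 : orderOf (φ r) ∣ 3 := hφc ▸ orderOf_dvd_of_mem_zpowers hm
    have h2 : orderOf (φ r) ∣ 2 := orderOf_dvd_of_pow_eq_one (by
      rw [← map_pow, show r ^ 2 = 1 by rw [← hr2, pow_orderOf_eq_one], map_one])
    exact hrk (MonoidHom.mem_ker.mpr (orderOf_eq_one_iff.mp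
      (Nat.eq_one_of_dvd_coprimes (by norm_num) h1 h2)))
  have hqi : Function.Injective q := by
    rw [injective_iff_map_eq_one]
    rintro ⟨m, hm⟩ hm1
    have hm1' : φ m = 1 := hm1
    have hmem : m ∈ ((zpowers c : Subgroup X) : Set X) * ((zpowers r : Subgroup X) : Set X) := by
      rw [← Subgroup.normal_mul]; exact hm
    obtain ⟨a, ha, b, hb, rfl⟩ := Set.mem_mul.mp hmem
    obtain ⟨i, rfl⟩ := mem_zpowers_iff.mp ha
    obtain ⟨j, rfl⟩ := mem_zpowers_iff.mp hb
    rcases Int.even_or_odd j with ⟨l, rfl⟩ | ⟨l, rfl⟩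
    · have hrj : r ^ (l + l) = 1 := by
        rw [← two_mul, zpow_mul, show r ^ (2 : ℤ) = 1 by
          rw [show (2 : ℤ) = ((2 : ℕ) : ℤ) from rfl, zpow_natCast, ← hr2, pow_orderOf_eq_one], one_zpow]
      rw [hrj, mul_one] at hm1'
      rw [map_zpow, ← orderOf_dvd_iff_zpow_eq_one, hφc] at hm1'
      apply Subtype.ext
      show c ^ i * r ^ (l + l) = 1
      rw [hrj, mul_one, ← orderOf_dvd_iff_zpow_eq_one, hc]
      exact hm1'
    · exfalso
      apply hφr
      have hrj : r ^ (2 * l + 1) = r := by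
        rw [zpow_add, zpow_one, zpow_mul, show r ^ (2 : ℤ) = 1 by
          rw [show (2 : ℤ) = ((2 : ℕ) : ℤ) from rfl, zpow_natCast, ← hr2, pow_orderOf_eq_one],
          one_zpow, one_mul]
      rw [hrj, map_mul, map_zpow] at hm1'
      rw [eq_inv_of_mul_eq_one_right hm1']
      exact inv_mem (zpow_mem (mem_zpowers _) i)
  have hq : Function.Bijective q := by
    refine ⟨hqi, ?_⟩
    rw [← MonoidHom.range_eq_top]
    apply Subgroup.eq_top_of_card_eq
    have h3 : 3 ∣ Nat.card q.range := hφc ▸ Subgroup.orderOf_dvd_natCard _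
      (show φ c ∈ q.range from ⟨⟨c, mem_sup_left (mem_zpowers c)⟩, rfl⟩)
    have h2 : 2 ∣ Nat.card q.range := by
      have ho : orderOf (φ r) = 2 := orderOf_eq_prime
        (by rw [← map_pow, show r ^ 2 = 1 by rw [← hr2, pow_orderOf_eq_one], map_one])
        fun e => hrk (MonoidHom.mem_ker.mpr e)
      exact ho ▸ Subgroup.orderOf_dvd_natCard _
        (show φ r ∈ q.range from ⟨⟨r, mem_sup_right (mem_zpowers r)⟩, rfl⟩)
    have h6 : 6 ∣ Nat.card q.range := Nat.Coprime.mul_dvd_of_dvd_of_dvd (by norm_num) h2 h3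
    exact Nat.dvd_antisymm (card_subgroup_dvd_card _) (hP6 ▸ h6)
  let f : φ.ker × M →* X := MonoidHom.noncommCoprod φ.ker.subtype M.subtype
    fun k m => (hcen k k.2 m).symm
  have hfi : Function.Injective f := by
    rw [injective_iff_map_eq_one]
    rintro ⟨k, m⟩ hkm
    have e : (k : X) * (m : X) = 1 := hkm
    have hm1 : q m = 1 := by
      show φ (m : X) = 1
      rw [eq_inv_of_mul_eq_one_right e, map_inv, MonoidHom.mem_ker.mp k.2, inv_one]
    have hm : m = 1 := (injective_iff_map_eq_one q).mp hqi m hm1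
    rw [hm, OneMemClass.coe_one, mul_one] at e
    exact Prod.ext (Subtype.ext e) hm
  have hf : Function.Bijective f :=
    Nat.bijective_iff_injective_and_card _ |>.mpr ⟨hfi, by
      rw [Nat.card_prod, hk4, Nat.card_congr (Equiv.ofBijective q hq), hP6, hX]⟩
  haveI : IsCyclic φ.ker := hkσ ▸ (inferInstance : IsCyclic (zpowers σ))
  let eK : φ.ker ≃* Multiplicative (ZMod 4) :=
    mulEquivOfCyclicCardEq (by rw [hk4]; simp [Nat.card_eq_fintype_card])
  exact ⟨(MulEquiv.ofBijective f hf).symm.trans (eK.prodCongr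
    ((MulEquiv.ofBijective q hq).trans (Fintype.equivFinOfCardEq hcardY).permCongrHom))⟩

end Cfsg.Agent.H55.Suz.ZFourSThree
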