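import Cfsg.Agent.H55.Suz.FiveNorm
import Cfsg.Agent.H55.Suz.ZFourSThree

/-!
The normaliser of a Sylow 5-subgroup: order, orbits, quotient.
-/

set_option autoImplicit false
set_option linter.unusedSectionVars false
set_option linter.style.haveILetI false

namespace Cfsg.Agent.H55.Suz

open Cfsg.Agent.H73.Suz Subgroup

theorem pow_two_five : ∀ e : ZMod 5, e ≠ 0 → e = 2 ^ 0 ∨ e = 2 ^ 1 ∨ e = 2 ^ 2 ∨ e = 2 ^ 3 := by decide

theorem two_ne_zero_five : (2 : ZMod 5) ≠ 0 := by decide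

theorem two_sq_ne_five : ¬ (2 : ZMod 5) * 2 = 1 := by decide

theorem four_pow_five : ∀ e : ZMod 5, e ^ 4 = 0 → e = 0 := by decide

theorem Rank2.pow_five {G : Type*} [Group G] [Finite G] {w c : G} (D : Rank2 w c) {v : G}
    (hv : v ∈ D.R) : v ^ 5 = 1 := by
  obtain ⟨e1, f1, rfl⟩ := D.exists_pow_of_mem hv
  rw [((show Commute w c from D.comm.symm).pow_pow e1 f1).mul_pow, ← pow_mul, ← pow_mul,
    mul_comm e1, mul_comm f1, pow_mul, pow_mul,
    show w ^ 5 = 1 by rw [← D.hw, pow_orderOf_eq_one],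
    show c ^ 5 = 1 by rw [← D.hc, pow_orderOf_eq_one], one_pow, one_pow, one_mul]

theorem pow_congr_five {M : Type*} [Monoid M] {v : M} (hv : v ^ 5 = 1) {m n : ℕ}
    (e : (m : ZMod 5) = n) : v ^ m = v ^ n := by
  rw [ZMod.natCast_eq_natCast_iff'] at e
  rw [← Nat.div_add_mod m 5, ← Nat.div_add_mod n 5, pow_add, pow_add, pow_mul, pow_mul, hv,
    one_pow, one_pow, e]

namespace Frame

variable {G : Type*} [Group G] [Finite G]
variable {z : G} {Q : Subgroup G} {h : Setup z Q} {s w t om hh : G} (F : Frame h s w t om hh)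
variable {s' w' g r : G}

omit [Finite G] in
/-- The orbit of `a` under the normaliser of `P`. -/
def Orb (_F : Frame h s w t om hh) (P : Sylow 5 G) (a v : G) : Prop :=
  ∃ x ∈ normalizer ((P : Subgroup G) : Set G), x * a * x⁻¹ = v

include F

theorem exists_N_pow (D : Five h s' w' g r) (P : Sylow 5 G) {a : G} (haP : a ∈ (P : Subgroup G))
    (ha : F.IsA a ∨ F.IsB a) (n : ℕ) (hn : (n : ZMod 5) ≠ 0) :
    ∃ x ∈ normalizer ((P : Subgroup G) : Set G), x * a * x⁻¹ = a ^ n := by
  haveI : Fact (Nat.Prime 5) := ⟨by norm_num⟩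
  have ha5 : orderOf a = 5 := ha.elim (·.1) (·.1)
  obtain ⟨d, hd⟩ := F.exists_sq_conj D ha
  have hcomm := IsPGroup.isMulCommutative_of_card_eq_prime_sq (p := 5) (G := (P : Subgroup G))
    (by rw [F.dvd_25 D]; norm_num)
  set C := centralizer ({a} : Set G)
  have hPC : (P : Subgroup G) ≤ C := fun x hx => mem_centralizer_singleton_iff.mpr
    (congrArg Subtype.val (hcomm.is_comm.comm (⟨x, hx⟩ : (P : Subgroup G)) ⟨a, haP⟩))
  have ha2 : orderOf (a ^ 2) = 5 := by rw [← hd, H65.orderOf_conj', ha5]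
  have hP'C : cj d (P : Subgroup G) ≤ C := fun x hx => by
    have hc := mem_centralizer_singleton_iff.mp (hPC (mem_cj.mp hx))
    refine mem_centralizer_singleton_iff.mpr
      ((commute_pow_iff (by norm_num) ha2 ha5 rfl x).mp ?_)
    rw [← hd]
    calc x * (d * a * d⁻¹) = d * (d⁻¹ * x * d * a) * d⁻¹ := by group
      _ = d * a * d⁻¹ * x := by rw [hc]; group
  obtain ⟨m, hm, hmx⟩ := exists_conj_le (p := 5) hPC P.2 (fun U _ hU => by
      obtain ⟨k, hk⟩ := IsPGroup.iff_card.mp hU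
      have : k ≤ 2 := by
        by_contra h3
        exact F.not_125 D ((pow_dvd_pow 5 (by omega : 3 ≤ k)).trans (hk ▸ card_subgroup_dvd_card _))
      rw [hk, F.dvd_25 D]
      exact (Nat.pow_le_pow_right (by norm_num) this).trans_eq (by norm_num))
    hP'C (isPGroup_cj d P.2)
  set x := m * d with hx
  have hxa : x * a * x⁻¹ = a ^ 2 := by
    rw [hx, show m * d * a * (m * d)⁻¹ = m * (d * a * d⁻¹) * m⁻¹ by group, hd,
      ((show Commute m a from mem_centralizer_singleton_iff.mp hm).pow_right 2).eq,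
      mul_inv_cancel_right]
  have hxle : cj x (P : Subgroup G) ≤ (P : Subgroup G) := fun y hy => by
    have h1 := hmx (m⁻¹ * y * m) (mem_cj.mpr (by
      have h2 := mem_cj.mp hy
      rwa [hx, show (m * d)⁻¹ * y * (m * d) = d⁻¹ * (m⁻¹ * y * m) * d by group] at h2))
    rwa [show m * (m⁻¹ * y * m) * m⁻¹ = y by group] at h1
  have hxeq := eq_of_le_of_card_ge hxle (by rw [card_cj])
  have hxN : x ∈ normalizer ((P : Subgroup G) : Set G) := mem_normalizer_iff.mpr fun y => by
    constructor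
    · intro hy; rw [← hxeq]; exact conj_mem_cj hy
    · intro hy
      rw [← hxeq] at hy
      have := mem_cj.mp hy
      rwa [show x⁻¹ * (x * y * x⁻¹) * x = y by group] at this
  obtain ⟨k, hk⟩ : ∃ k : ℕ, (n : ZMod 5) = (2 : ZMod 5) ^ k := by
    rcases pow_two_five _ hn with e | e | e | e
    exacts [⟨0, e⟩, ⟨1, e⟩, ⟨2, e⟩, ⟨3, e⟩]
  refine ⟨x ^ k, pow_mem hxN k, ?_⟩
  rw [conj_pow_iter hxa k, pow_eq_pow_iff_modEq, ha5, ← ZMod.natCast_eq_natCast_iff]
  push_cast
  exact hk.symm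

theorem orb_card (D : Five h s' w' g r) (P : Sylow 5 G) {a : G} (haP : a ∈ (P : Subgroup G))
    (ha : F.IsA a ∨ F.IsB a) :
    Nat.card {v : G // F.Orb P a v} * 50 = Nat.card (normalizer ((P : Subgroup G) : Set G)) ∧
      Nat.card ↥(normalizer ((P : Subgroup G) : Set G) ⊓ normalizer ((zpowers a : Subgroup G) : Set G))
        = 200 := by
  classical
  haveI := Fintype.ofFinite G
  haveI : Fact (Nat.Prime 5) := ⟨by norm_num⟩
  have ha5 : orderOf a = 5 := ha.elim (·.1) (·.1)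
  set N := normalizer ((P : Subgroup G) : Set G)
  have h1 := orbit_card N a
  rw [F.card_NC D P haP ha] at h1
  refine ⟨h1, ?_⟩
  have h2 := orbit_card (N ⊓ normalizer ((zpowers a : Subgroup G) : Set G)) a
  rw [show N ⊓ normalizer ((zpowers a : Subgroup G) : Set G) ⊓ centralizer ({a} : Set G) =
    N ⊓ centralizer ({a} : Set G) from le_antisymm (inf_le_inf_right _ inf_le_left)
      (le_inf (le_inf inf_le_left (inf_le_right.trans (CyclicNorm.centralizer_le_normalizer a)))
        inf_le_right),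
    F.card_NC D P haP ha] at h2
  let e : (ZMod 5)ˣ → {v : G // ∃ c ∈ N ⊓ normalizer ((zpowers a : Subgroup G) : Set G),
      c * a * c⁻¹ = v} := fun u => ⟨a ^ (u : ZMod 5).val, by
    obtain ⟨x, hx, hxa⟩ := F.exists_N_pow D P haP ha (u : ZMod 5).val
      (by rw [ZMod.natCast_zmod_val]; exact u.ne_zero)
    exact ⟨x, ⟨hx, CyclicNorm.mem_normalizer_of_pow (by norm_num) ha5 hxa⟩, hxa⟩⟩
  have he : Function.Bijective e := by
    constructor
    · intro u u' ee
      have e1 : a ^ (u : ZMod 5).val = a ^ (u' : ZMod 5).val := congrArg Subtype.val ee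
      rw [pow_eq_pow_iff_modEq, ha5, ← ZMod.natCast_eq_natCast_iff, ZMod.natCast_zmod_val,
        ZMod.natCast_zmod_val] at e1
      exact Units.ext e1
    · rintro ⟨v, c, hc, rfl⟩
      obtain ⟨i, hi⟩ := CyclicNorm.exists_pow hc.2
      refine ⟨Units.mk0 (i : ZMod 5) (F.exp_ne_zero (by norm_num) ha5 hi), Subtype.ext ?_⟩
      show a ^ ((i : ZMod 5)).val = c * a * c⁻¹
      rw [hi, pow_eq_pow_iff_modEq, ha5, ← ZMod.natCast_eq_natCast_iff, ZMod.natCast_zmod_val]
  rw [← Nat.card_congr (Equiv.ofBijective e he), Nat.card_eq_fintype_card (α := (ZMod 5)ˣ),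
    ZMod.card_units] at h2
  omega

theorem orb_kind (P : Sylow 5 G) {a v : G} (hv : F.Orb P a v) :
    (F.IsA a → F.IsA v) ∧ (F.IsB a → F.IsB v) := by
  obtain ⟨x, -, hx⟩ := hv
  constructor
  · exact fun ha => (F.kind_conj ha.1 (n := 1) (d := x) (by rw [← hx, H65.orderOf_conj', ha.1])
      (by rw [pow_one, hx])).1 ha
  · exact fun ha => (F.kind_conj ha.1 (n := 1) (d := x) (by rw [← hx, H65.orderOf_conj', ha.1])
      (by rw [pow_one, hx])).2 ha

theorem orb_mem (P : Sylow 5 G) {a v : G} (haP : a ∈ (P : Subgroup G)) (ha : a ≠ 1)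
    (hv : F.Orb P a v) : v ∈ (P : Subgroup G) ∧ v ≠ 1 := by
  obtain ⟨x, hx, rfl⟩ := hv
  exact ⟨(mem_normalizer_iff.mp hx a).mp haP, fun e => ha (conj_eq_one_iff.mp e)⟩

/-- The normaliser of a Sylow 5-subgroup has order 600 and two orbits on its nonidentity elements. -/
theorem card_N_five (D : Five h s' w' g r) (P : Sylow 5 G) {a b : G} (haP : a ∈ (P : Subgroup G))
    (hbP : b ∈ (P : Subgroup G)) (hA : F.IsA a) (hB : F.IsB b) :
    Nat.card (normalizer ((P : Subgroup G) : Set G)) = 600 ∧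
      Nat.card {v : G // F.Orb P a v} = 12 ∧
      ∀ v ∈ (P : Subgroup G), v ≠ 1 → F.Orb P a v ∨ F.Orb P b v := by
  classical
  haveI := Fintype.ofFinite G
  haveI : Fact (Nat.Prime 5) := ⟨by norm_num⟩
  obtain ⟨h1, h200⟩ := F.orb_card D P haP (Or.inl hA)
  obtain ⟨h2, -⟩ := F.orb_card D P hbP (Or.inr hB)
  set N := normalizer ((P : Subgroup G) : Set G)
  have hd : 200 ∣ Nat.card N := h200 ▸ card_dvd_of_le inf_le_left
  obtain ⟨k, hk⟩ := hd
  have ha1 : a ≠ 1 := fun e => by have := hA.1; rw [e, orderOf_one] at this; norm_num at this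
  have hb1 : b ≠ 1 := fun e => by have := hB.1; rw [e, orderOf_one] at this; norm_num at this
  rw [Nat.card_eq_fintype_card (α := {v // F.Orb P a v}), Fintype.card_subtype] at h1 ⊢
  rw [Nat.card_eq_fintype_card (α := {v // F.Orb P b v}), Fintype.card_subtype] at h2
  set OA := Finset.univ.filter fun v : G => F.Orb P a v
  set OB := Finset.univ.filter fun v : G => F.Orb P b v
  set PS := (Finset.univ.filter fun v : G => v ∈ (P : Subgroup G)).erase 1
  have hPS : PS.card = 24 := by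
    rw [Finset.card_erase_of_mem (by simp), ← Fintype.card_subtype, ← Nat.card_eq_fintype_card,
      F.dvd_25 D]
  have hdisj : Disjoint OA OB := by
    rw [Finset.disjoint_left]
    intro v hv hv'
    exact F.not_AB ((F.orb_kind P (Finset.mem_filter.mp hv).2).1 hA)
      ((F.orb_kind P (Finset.mem_filter.mp hv').2).2 hB)
  have hsub : OA ∪ OB ⊆ PS := by
    intro v hv
    rcases Finset.mem_union.mp hv with hv | hv
    · obtain ⟨h5, h6⟩ := F.orb_mem P haP ha1 (Finset.mem_filter.mp hv).2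
      exact Finset.mem_erase.mpr ⟨h6, Finset.mem_filter.mpr ⟨Finset.mem_univ _, h5⟩⟩
    · obtain ⟨h5, h6⟩ := F.orb_mem P hbP hb1 (Finset.mem_filter.mp hv).2
      exact Finset.mem_erase.mpr ⟨h6, Finset.mem_filter.mpr ⟨Finset.mem_univ _, h5⟩⟩
  have h24 := Finset.card_le_card hsub
  rw [Finset.card_union_of_disjoint hdisj, hPS] at h24
  have hk3 : k = 3 := by
    obtain ⟨M, hM, hG⟩ := F.order_mod D
    have hn : Nat.card (Sylow 5 G) % 5 = 1 := card_sylow_modEq_one 5 G
    have h3 : Nat.card (Sylow 5 G) = N.index := P.card_eq_index_normalizer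
    have h4 := N.card_mul_index
    rw [← h3, hk, hG] at h4
    have h5 : k * Nat.card (Sylow 5 G) = 5225472 * M := by
      generalize Nat.card (Sylow 5 G) = n at h4 ⊢
      rw [mul_assoc] at h4
      omega
    have h6 := congrArg (· % 5) h5
    rw [Nat.mul_mod, hn, Nat.mul_mod 5225472 M, hM] at h6
    have hk3' : k ≤ 3 := by omega
    interval_cases k <;> omega
  subst hk3
  refine ⟨by omega, by omega, fun v hv hv1 => ?_⟩
  have heq : OA ∪ OB = PS := Finset.eq_of_subset_of_card_le hsub (by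
    rw [Finset.card_union_of_disjoint hdisj, hPS]; omega)
  have hmem : v ∈ OA ∪ OB := by
    rw [heq]; exact Finset.mem_erase.mpr ⟨hv1, Finset.mem_filter.mpr ⟨Finset.mem_univ _, hv⟩⟩
  rcases Finset.mem_union.mp hmem with e | e
  exacts [Or.inl (Finset.mem_filter.mp e).2, Or.inr (Finset.mem_filter.mp e).2]

omit F in
/-- The quotient of the normaliser by the Sylow subgroup. -/
theorem scalar_of_three {a v₁ v₂ x : G} (D2 : Rank2 a v₁) {p q i j l : ℕ}
    (hv₂ : v₂ = a ^ p * v₁ ^ q) (hp : (p : ZMod 5) ≠ 0) (hq : (q : ZMod 5) ≠ 0)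
    (h1 : x * a * x⁻¹ = a ^ i) (h2 : x * v₁ * x⁻¹ = v₁ ^ j) (h3 : x * v₂ * x⁻¹ = v₂ ^ l) :
    ∀ v ∈ D2.R, x * v * x⁻¹ = v ^ i := by
  haveI : Fact (Nat.Prime 5) := ⟨by norm_num⟩
  have hcomm : Commute a v₁ := D2.comm.symm
  rw [hv₂, ← conj_mul, ← conj_pow, ← conj_pow, h1, h2, (hcomm.pow_pow p q).mul_pow, ← pow_mul,
    ← pow_mul, ← pow_mul, ← pow_mul] at h3
  obtain ⟨e1, e2⟩ := D2.exp_unique h3
  push_cast at e1 e2
  have hil : (i : ZMod 5) = l := mul_right_cancel₀ hp (e1.trans (mul_comm _ _))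
  have hjl : (j : ZMod 5) = l := mul_right_cancel₀ hq (e2.trans (mul_comm _ _))
  intro v hv
  obtain ⟨e, f, rfl⟩ := D2.exists_pow_of_mem hv
  rw [← conj_mul, ← conj_pow, ← conj_pow, h1, h2, (hcomm.pow_pow e f).mul_pow, ← pow_mul, ← pow_mul,
    ← pow_mul, ← pow_mul]
  exact D2.congr (by push_cast; ring) (by push_cast; rw [hjl, ← hil]; ring)

theorem quotient_equiv (D : Five h s' w' g r) (P : Sylow 5 G) :
    Nonempty (↥(normalizer ((P : Subgroup G) : Set G)) ⧸
      (P : Subgroup G).subgroupOf (normalizer ((P : Subgroup G) : Set G)) ≃*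
        Multiplicative (ZMod 4) × Equiv.Perm (Fin 3)) := by
  classical
  haveI : Fact (Nat.Prime 5) := ⟨by norm_num⟩
  haveI : Fact (Nat.Prime 2) := ⟨Nat.prime_two⟩
  obtain ⟨a, b, haP, hbP, hA, hB, hab⟩ := F.exists_in_sylow D P
  obtain ⟨hN600, hO12, -⟩ := F.card_N_five D P haP hbP hA hB
  obtain ⟨-, h200⟩ := F.orb_card D P haP (Or.inl hA)
  have hRP := F.eq_R D P hab haP hbP
  have ha5 : orderOf a = 5 := hA.1
  set N := normalizer ((P : Subgroup G) : Set G) with hN
  set PN := (P : Subgroup G).subgroupOf N with hPN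
  set mk := QuotientGroup.mk' PN
  have hmk : Function.Surjective mk := QuotientGroup.mk'_surjective _
  have hPle : (P : Subgroup G) ≤ N := le_normalizer
  have hPc : ∀ x ∈ (P : Subgroup G), ∀ y ∈ (P : Subgroup G), x * y = y * x := fun x hx y hy => by
    rw [← hRP] at hx hy
    exact hab.R_comm hx hy
  have hQ24 : Nat.card (N ⧸ PN) = 24 := by
    have h1 := card_eq_card_quotient_mul_card_subgroup PN
    have h2 : Nat.card PN = 25 := by
      rw [hPN, Nat.card_congr (subgroupOfEquivOfLe hPle).toEquiv, F.dvd_25 D]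
    rw [hN600, h2] at h1
    omega
  -- the stabiliser of the line of `a`
  set L := normalizer ((zpowers a : Subgroup G) : Set G)
  set H' := L.subgroupOf N
  have hPL : (P : Subgroup G) ≤ L := fun x hx => CyclicNorm.centralizer_le_normalizer a
    (mem_centralizer_singleton_iff.mpr (hPc x hx a haP))
  set H := H'.map mk
  have hH8 : H.index = 3 := by
    have h1 : H.index = H'.index := index_map_eq _ hmk (by
      rw [QuotientGroup.ker_mk']; exact fun x hx => hPL hx)
    rw [h1]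
    have h2 := H'.card_mul_index
    have h3 : Nat.card H' = 200 := by
      rw [← h200]
      exact Nat.card_congr
        { toFun := fun x => ⟨((x : N) : G), (x : N).2, x.2⟩
          invFun := fun x => ⟨⟨(x : G), x.2.1⟩, x.2.2⟩
          left_inv := fun x => rfl
          right_inv := fun x => rfl }
    rw [h3, hN600] at h2
    omega
  set φ := MulAction.toPermHom (N ⧸ PN) ((N ⧸ PN) ⧸ H)
  have hkcore : φ.ker = H.normalCore := (Subgroup.normalCore_eq_ker H).symm
  have hconj : ∀ x y : N, mk x = mk y → ∀ v ∈ (P : Subgroup G),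
      (x : G) * v * (x : G)⁻¹ = (y : G) * v * (y : G)⁻¹ := by
    intro x y e v hv
    have h1 : (x : G)⁻¹ * y ∈ (P : Subgroup G) := (QuotientGroup.eq (s := PN)).mp e
    calc (x : G) * v * (x : G)⁻¹
        = (x : G) * (((x : G)⁻¹ * y) * v * ((x : G)⁻¹ * y)⁻¹) * (x : G)⁻¹ := by
          rw [hPc _ h1 v hv, mul_inv_cancel_right]
      _ = _ := by group
  have hfaith : ∀ x y : N, (∀ v ∈ (P : Subgroup G),
      (x : G) * v * (x : G)⁻¹ = (y : G) * v * (y : G)⁻¹) → mk x = mk y := by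
    intro x y e
    refine (QuotientGroup.eq (s := PN)).mpr ?_
    show (x : G)⁻¹ * y ∈ (P : Subgroup G)
    rw [← F.cent_P D P]
    refine mem_centralizer_iff.mpr fun v hv => ((mul_inv_eq_iff_eq_mul.mp ?_)).symm
    calc (x : G)⁻¹ * y * v * ((x : G)⁻¹ * y)⁻¹ = (x : G)⁻¹ * ((y : G) * v * (y : G)⁻¹) * x := by group
      _ = v := by rw [← e v hv]; group
  -- kernel elements are scalars
  have hscal : ∀ x : N, mk x ∈ φ.ker → ∃ i : ℕ, (i : ZMod 5) ≠ 0 ∧
      ∀ v ∈ (P : Subgroup G), (x : G) * v * (x : G)⁻¹ = v ^ i := by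
    intro x hx
    rw [hkcore] at hx
    haveI := Fintype.ofFinite G
    have hfix : ∀ v, F.Orb P a v → ∃ i : ℕ, (x : G) * v * (x : G)⁻¹ = v ^ i := by
      rintro v ⟨y, hy, rfl⟩
      have h1 : mk ⟨y⁻¹, inv_mem hy⟩ * mk x * (mk ⟨y⁻¹, inv_mem hy⟩)⁻¹ ∈ H := hx _
      rw [← map_inv, ← map_mul, ← map_mul] at h1
      obtain ⟨m, hm, e⟩ := h1
      have h2 : (y⁻¹ * (x : G) * y⁻¹⁻¹) ∈ L := by
        have h3 : ((⟨y⁻¹, inv_mem hy⟩ * x * (⟨y⁻¹, inv_mem hy⟩ : N)⁻¹ : N) : G) ∈ L := by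
          obtain ⟨n, hn, e2⟩ : ∃ n : G, n ∈ (P : Subgroup G) ∧
              ((⟨y⁻¹, inv_mem hy⟩ * x * (⟨y⁻¹, inv_mem hy⟩ : N)⁻¹ : N) : G) = (m : G) * n :=
            ⟨(m : G)⁻¹ * _, (QuotientGroup.eq (s := PN)).mp e, by group⟩
          rw [e2]
          exact mul_mem hm (hPL hn)
        exact h3
      obtain ⟨i, hi⟩ := CyclicNorm.exists_pow h2
      exact ⟨i, by rw [conj_pow, ← hi]; group⟩
    set OA := Finset.univ.filter fun v : G => F.Orb P a v
    have hOA : OA.card = 12 := by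
      rw [← Fintype.card_subtype, ← Nat.card_eq_fintype_card]; exact hO12
    have hline : ∀ u : G, orderOf u = 5 → ((Finset.univ.filter fun v : G => v ∈ zpowers u)).card = 5 :=
      fun u hu => by
        rw [← Fintype.card_subtype, ← Nat.card_eq_fintype_card]
        exact (Nat.card_zpowers u).trans hu
    have hOmem : ∀ v ∈ OA, v ∈ (P : Subgroup G) ∧ orderOf v = 5 := fun v hv =>
      ⟨(F.orb_mem P haP (fun e => by rw [e, orderOf_one] at ha5; norm_num at ha5)
        (Finset.mem_filter.mp hv).2).1, ((F.orb_kind P (Finset.mem_filter.mp hv).2).1 hA).1⟩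
    obtain ⟨v₁, hv₁, hv₁a⟩ := Finset.exists_mem_notMem_of_card_lt_card
      (s := Finset.univ.filter fun v : G => v ∈ zpowers a) (t := OA) (by rw [hline a ha5, hOA]; norm_num)
    obtain ⟨hv₁P, hv₁5⟩ := hOmem v₁ hv₁
    obtain ⟨v₂, hv₂, hv₂n⟩ := Finset.exists_mem_notMem_of_card_lt_card
      (s := (Finset.univ.filter fun v : G => v ∈ zpowers a) ∪ Finset.univ.filter fun v : G => v ∈ zpowers v₁)
      (t := OA) (by
        rw [hOA]
        refine lt_of_le_of_lt (Finset.card_union_le _ _) ?_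
        rw [hline a ha5, hline v₁ hv₁5]; norm_num)
    obtain ⟨hv₂P, -⟩ := hOmem v₂ hv₂
    have hv₁n : v₁ ∉ zpowers a := fun e => hv₁a (Finset.mem_filter.mpr ⟨Finset.mem_univ _, e⟩)
    have D2 : Rank2 a v₁ := ⟨ha5, hv₁5, hPc v₁ hv₁P a haP, hv₁n⟩
    have hR2 := F.eq_R D P D2 haP hv₁P
    obtain ⟨p, q, hpq⟩ := D2.exists_pow_of_mem (hR2.symm ▸ hv₂P)
    obtain ⟨i, hi⟩ := hfix a ⟨1, one_mem _, by simp⟩
    obtain ⟨j, hj⟩ := hfix v₁ (Finset.mem_filter.mp hv₁).2
    obtain ⟨l, hl⟩ := hfix v₂ (Finset.mem_filter.mp hv₂).2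
    have hp : (p : ZMod 5) ≠ 0 := fun e => hv₂n (Finset.mem_union_right _ (Finset.mem_filter.mpr
      ⟨Finset.mem_univ _, by
        rw [hpq, D2.pow_congr_w (a' := 0) (by rw [e]; simp), pow_zero, one_mul]
        exact pow_mem (mem_zpowers _) _⟩))
    have hq : (q : ZMod 5) ≠ 0 := fun e => hv₂n (Finset.mem_union_left _ (Finset.mem_filter.mpr
      ⟨Finset.mem_univ _, by
        rw [hpq, D2.pow_congr_c (b' := 0) (by rw [e]; simp), pow_zero, mul_one]
        exact pow_mem (mem_zpowers _) _⟩))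
    exact ⟨i, F.exp_ne_zero (by norm_num) ha5 hi,
      fun v hv => scalar_of_three D2 hpq hp hq hi hj hl v (hR2.symm ▸ hv)⟩
  have hP24 : Nat.card (Equiv.Perm ((N ⧸ PN) ⧸ H)) = 6 := by
    rw [Nat.card_perm, ← index_eq_card, hH8]; rfl
  choose ex hex0 hex using hscal
  choose lf hlf using hmk
  let ek : φ.ker → (ZMod 5)ˣ := fun k =>
    Units.mk0 (ex (lf k) ((hlf k).symm ▸ k.2) : ZMod 5) (hex0 _ _)
  have hek : Function.Injective ek := by
    intro k k' e
    have e' := congrArg Units.val e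
    simp only [ek, Units.val_mk0] at e'
    apply Subtype.ext
    rw [← hlf k, ← hlf k']
    refine hfaith _ _ fun v hv => ?_
    rw [hex (lf k) ((hlf k).symm ▸ k.2) v hv, hex (lf k') ((hlf k').symm ▸ k'.2) v hv]
    have hv5 : v ^ 5 = 1 := hab.pow_five (hRP.symm ▸ hv)
    exact pow_congr_five hv5 e'
  have hu4 : Nat.card (ZMod 5)ˣ = 4 := by
    rw [Nat.card_eq_fintype_card, ZMod.card_units]
  have hker : Nat.card φ.ker ≤ 4 := hu4 ▸ Nat.card_le_card_of_injective ek hek
  have hker4 : Nat.card φ.ker = 4 := by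
    refine le_antisymm hker ?_
    have h1 := φ.ker.card_mul_index
    rw [index_ker, hQ24] at h1
    have h2 : Nat.card φ.range ≤ 6 := hP24 ▸ Nat.le_of_dvd Nat.card_pos (card_subgroup_dvd_card _)
    nlinarith
  have heks : Function.Surjective ek :=
    ((Nat.bijective_iff_injective_and_card ek).mpr ⟨hek, hker4.trans hu4.symm⟩).2
  refine ZFourSThree.equiv φ hQ24 ((index_eq_card H).symm.trans hH8) ?_ hker ?_ ?_
  · obtain ⟨σ, hσ⟩ := heks (Units.mk0 (2 : ZMod 5) two_ne_zero_five)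
    refine ⟨σ, σ.2, ?_⟩
    refine orderOf_eq_prime_pow (p := 2) (n := 1) (fun e => ?_) ?_
    · have he : (ex (lf σ) ((hlf σ).symm ▸ σ.2) : ZMod 5) = 2 := congrArg Units.val hσ
      have h1 : mk (lf σ * lf σ) = mk 1 := by
        rw [map_mul, hlf, map_one, ← sq]; exact e
      have h2 := hconj _ _ h1 a haP
      have h3 := hex (lf σ) ((hlf σ).symm ▸ σ.2) a haP
      generalize ex (lf σ) _ = i at he h3
      have h4 : a = a ^ (i * i) := by
        calc a = ((1 : N) : G) * a * ((1 : N) : G)⁻¹ := by simp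
          _ = (lf σ : G) * ((lf σ : G) * a * (lf σ : G)⁻¹) * (lf σ : G)⁻¹ := by
            rw [← h2, Subgroup.coe_mul]; group
          _ = a ^ (i * i) := by rw [h3, ← conj_pow, h3, ← pow_mul]
      nth_rewrite 1 [← pow_one a] at h4
      rw [pow_eq_pow_iff_modEq, ha5, ← ZMod.natCast_eq_natCast_iff, Nat.cast_mul, Nat.cast_one, he] at h4
      exact two_sq_ne_five h4.symm
    · rw [show (2 : ℕ) ^ (1 + 1) = Nat.card φ.ker by rw [hker4]; norm_num]
      exact congrArg Subtype.val (pow_card_eq_one' (x := σ))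
  · intro k hk x
    obtain ⟨X, rfl⟩ := QuotientGroup.mk'_surjective PN x
    obtain ⟨K, rfl⟩ := QuotientGroup.mk'_surjective PN k
    rw [← map_mul, ← map_mul]
    refine hfaith _ _ fun v hv => ?_
    have hXv : (X : G) * v * (X : G)⁻¹ ∈ (P : Subgroup G) := (mem_normalizer_iff.mp X.2 v).mp hv
    calc ((X * K : N) : G) * v * ((X * K : N) : G)⁻¹
        = (X : G) * ((K : G) * v * (K : G)⁻¹) * (X : G)⁻¹ := by rw [Subgroup.coe_mul]; group
      _ = ((X : G) * v * (X : G)⁻¹) ^ ex K hk := by rw [hex K hk v hv, conj_pow]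
      _ = (K : G) * ((X : G) * v * (X : G)⁻¹) * (K : G)⁻¹ := (hex K hk _ hXv).symm
      _ = ((K * X : N) : G) * v * ((K * X : N) : G)⁻¹ := by rw [Subgroup.coe_mul]; group
  · obtain ⟨i, hi⟩ := exists_prime_orderOf_dvd_card' (G := ↥(N ⊓ centralizer ({a} : Set G))) 2
      (by rw [F.card_NC D P haP (Or.inl hA)]; norm_num)
    have hi2 : orderOf (i : G) = 2 := by rw [Subgroup.orderOf_coe, hi]
    have hiP : (i : G) ∉ (P : Subgroup G) := fun hm => by
      have := Subgroup.orderOf_dvd_natCard _ hm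
      rw [hi2, F.dvd_25 D] at this
      norm_num at this
    set I : N := ⟨(i : G), i.2.1⟩
    have hI1 : mk I ≠ 1 := fun e => hiP ((QuotientGroup.eq_one_iff I).mp e)
    refine ⟨mk I, orderOf_eq_prime ?_ hI1, fun hk => ?_⟩
    · rw [← map_pow]
      have : I ^ 2 = 1 := Subtype.ext (by
        show (i : G) ^ 2 = 1
        rw [← hi2, pow_orderOf_eq_one])
      rw [this, map_one]
    · have hia : (i : G) * a * (i : G)⁻¹ = a ^ 1 := by
        rw [pow_one, mem_centralizer_singleton_iff.mp i.2.2, mul_inv_cancel_right]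
      have h1 := (hex I hk a haP).symm.trans hia
      rw [pow_eq_pow_iff_modEq, ha5, ← ZMod.natCast_eq_natCast_iff] at h1
      apply hI1
      rw [← map_one mk]
      refine hfaith _ _ fun v hv => ?_
      rw [hex I hk v hv, OneMemClass.coe_one, one_mul, inv_one, mul_one]
      have hv5 : v ^ 5 = 1 := by
        rw [← hRP] at hv
        exact hab.pow_five hv
      exact (pow_congr_five hv5 h1).trans (pow_one v)

end Frame

end Cfsg.Agent.H55.Suz
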