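import Cfsg.Agent.H55.Suz.FiveOrbits

/-!
A five-element commuting with `g` and inverted by an involution commuting with `g` is of the second
kind and some involution inverts `g` and centralises it.
-/

set_option autoImplicit false
set_option linter.unusedSectionVars false
set_option linter.style.haveILetI false

namespace Cfsg.Agent.H55.Suz

open Cfsg.Agent.H73.Suz Subgroup

/-- The lines through the axes and one further pair. -/
def lines16 (m : ZMod 5) : Finset (ZMod 5 × ZMod 5) :=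
  Finset.univ.filter fun k => k ≠ 0 ∧ (k.1 = 0 ∨ k.2 = 0 ∨ k.2 = m * k.1 ∨ k.2 = -(m * k.1))

theorem card_lines16 : (lines16 1).card = 16 ∧ (lines16 2).card = 16 := by decide

theorem axes_card : (Finset.univ.filter fun k : ZMod 5 × ZMod 5 => k ≠ 0 ∧ (k.1 = 0 ∨ k.2 = 0)).card = 8 := by
  decide

theorem line_cases : ∀ k : ZMod 5 × ZMod 5, k ≠ 0 →
    k.1 = 0 ∨ k.2 = 0 ∨ k.2 = k.1 ∨ k.2 = -k.1 ∨ k.2 = 2 * k.1 ∨ k.2 = -(2 * k.1) := by decide

theorem sq_one_shift : ∀ p q : ZMod 5, p * p = 1 → p * q + q = 0 → (p = 1 ∧ q = 0) ∨ p = 4 := by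
  decide

theorem eq_neg_self : ∀ q : ZMod 5, q = -q → q = 0 := by decide

namespace Frame

variable {G : Type*} [Group G] [Finite G]
variable {z : G} {Q : Subgroup G} {h : Setup z Q} {s w t om hh : G} (F : Frame h s w t om hh)
variable {s' w' g r : G}

include F

theorem exists_inverter (D : Five h s' w' g r) {y σ : G} (hy : Rank2 g y) (hσ : σ * σ = 1)
    (hσg : σ * g * σ⁻¹ = g) (hσy : σ * y * σ⁻¹ = y⁻¹) :
    F.IsB y ∧ ∃ j, orderOf j = 2 ∧ j * y * j⁻¹ = y ∧ j * g * j⁻¹ = g⁻¹ := by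
  classical
  haveI : Fact (Nat.Prime 5) := ⟨by norm_num⟩
  haveI : Fact (Nat.Prime 2) := ⟨Nat.prime_two⟩
  obtain ⟨P, hP⟩ := (IsPGroup.of_card (p := 5) (n := 2) (G := hy.R) (by rw [hy.card_R]; norm_num)).exists_le_sylow
  have hgP := hP hy.w_mem
  have hyP := hP hy.c_mem
  have hR := F.eq_R D P hy hgP hyP
  obtain ⟨a', b', ha', hb', hA', hB', -⟩ := F.exists_in_sylow D P
  obtain ⟨-, hO12, hcover⟩ := F.card_N_five D P ha' hb' hA' hB'
  have hIA : F.IsA g := ⟨D.ord, F.card_Cg D⟩
  have hkind : ∀ v ∈ (P : Subgroup G), v ≠ 1 → F.IsA v ∨ F.IsB v := fun v hv hv1 =>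
    (hcover v hv hv1).imp (fun e => (F.orb_kind P e).1 hA') (fun e => (F.orb_kind P e).2 hB')
  have hel : ∀ k, hy.el k ∈ (P : Subgroup G) := fun k => hR ▸ ⟨k, rfl⟩
  have hord : ∀ k, k ≠ 0 → orderOf (hy.el k) = 5 := fun k hk =>
    orderOf_eq_prime (hy.pow_five ⟨k, rfl⟩) fun e => hk (hy.el_eq_one e)
  -- the set of coordinates of the first kind
  set S := Finset.univ.filter fun k : ZMod 5 × ZMod 5 => k ≠ 0 ∧ F.IsA (hy.el k) with hSdef
  have hS : S.card ≤ 12 := by
    haveI := Fintype.ofFinite G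
    rw [← hO12, Nat.card_eq_fintype_card, Fintype.card_subtype,
      ← Finset.card_image_of_injective S hy.el_inj]
    refine Finset.card_le_card fun v hv => ?_
    obtain ⟨k, hk, rfl⟩ := Finset.mem_image.mp hv
    obtain ⟨hk0, hkA⟩ := (Finset.mem_filter.mp hk).2
    refine Finset.mem_filter.mpr ⟨Finset.mem_univ _, ?_⟩
    rcases hcover _ (hel k) (fun e => hk0 (hy.el_eq_one e)) with e | e
    · exact e
    · exact (F.not_AB hkA ((F.orb_kind P e).2 hB')).elim
  have hS12 : S.card = 12 := by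
    refine le_antisymm hS ?_
    haveI := Fintype.ofFinite G
    rw [← hO12, Nat.card_eq_fintype_card, Fintype.card_subtype,
      ← Finset.card_image_of_injective S hy.el_inj]
    refine Finset.card_le_card fun v hv => ?_
    have hv' := (Finset.mem_filter.mp hv).2
    obtain ⟨hvP, hv1⟩ := F.orb_mem P ha' (fun e => by
      have := hA'.1; rw [e, orderOf_one] at this; norm_num at this) hv'
    have hvR : v ∈ hy.R := by rw [hR]; exact hvP
    obtain ⟨k, rfl⟩ := hy.mem_R.mp hvR
    exact Finset.mem_image.mpr ⟨k, Finset.mem_filter.mpr ⟨Finset.mem_univ _,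
      fun e => hv1 (by rw [e, hy.el_zero]), (F.orb_kind P hv').1 hA'⟩, rfl⟩
  have hscale : ∀ (n : ZMod 5) (k : ZMod 5 × ZMod 5), n ≠ 0 → k ≠ 0 → F.IsA (hy.el k) →
      F.IsA (hy.el (n * k.1, n * k.2)) := by
    intro n k hn hk hA
    have hnk : ((n * k.1, n * k.2) : ZMod 5 × ZMod 5) ≠ 0 := fun e => hk (Prod.ext
      ((mul_eq_zero.mp (congrArg Prod.fst e)).resolve_left hn)
      ((mul_eq_zero.mp (congrArg Prod.snd e)).resolve_left hn))
    refine (F.kind_conj (hord k hk) (n := (n⁻¹).val) (d := 1) (hord _ hnk) ?_).1 hA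
    rw [one_mul, inv_one, mul_one, Rank2.el, Rank2.el,
      ((show Commute g y from hy.comm.symm).pow_pow _ _).mul_pow, ← pow_mul, ← pow_mul]
    exact hy.congr (by push_cast; simp only [ZMod.natCast_zmod_val]; field_simp)
      (by push_cast; simp only [ZMod.natCast_zmod_val]; field_simp)
  have hσel : ∀ k : ZMod 5 × ZMod 5, σ * hy.el k * σ⁻¹ = hy.el (k.1, -k.2) := by
    intro k
    rw [Rank2.el, ← conj_mul, ← conj_pow, ← conj_pow, hσg, hσy]
    show g ^ k.1.val * y⁻¹ ^ k.2.val = g ^ k.1.val * y ^ (-k.2).val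
    congr 1
    rw [inv_pow]
    refine inv_eq_of_mul_eq_one_right ?_
    rw [← pow_add, ← pow_zero y]
    exact hy.pow_congr_c (by simp)
  have hσA : ∀ k : ZMod 5 × ZMod 5, k ≠ 0 → F.IsA (hy.el k) → F.IsA (hy.el (k.1, -k.2)) := by
    intro k hk hA
    have hk' : ((k.1, -k.2) : ZMod 5 × ZMod 5) ≠ 0 := fun e => hk (Prod.ext (congrArg Prod.fst e : k.1 = 0)
      (neg_eq_zero.mp (congrArg Prod.snd e)))
    exact (F.kind_conj (hord k hk) (n := 1) (d := σ) (hord _ hk')
      (by rw [pow_one, hσel])).1 hA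
  have hy1 : y ≠ 1 := fun e => by have := hy.hc; rw [e, orderOf_one] at this; norm_num at this
  have hg0 : F.IsA (hy.el (1, 0)) := by
    rw [show hy.el (1, 0) = g by simp [Rank2.el, ZMod.val_one]]; exact hIA
  have hyB : F.IsB y := by
    refine (hkind y hyP hy1).resolve_left fun hyA => ?_
    have hy0 : F.IsA (hy.el (0, 1)) := by
      rw [show hy.el (0, 1) = y by simp [Rank2.el, ZMod.val_one]]; exact hyA
    have haxis : ∀ k : ZMod 5 × ZMod 5, k ≠ 0 → k.1 = 0 ∨ k.2 = 0 → F.IsA (hy.el k) := by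
      rintro ⟨i, j⟩ hk (rfl | rfl)
      · simpa using hscale j (0, 1) (fun e => hk (by simp [e])) (by simp) hy0
      · simpa using hscale i (1, 0) (fun e => hk (by simp [e])) (by simp) hg0
    have hno : ∀ m : ZMod 5, (lines16 m).card = 16 → ¬ F.IsA (hy.el (1, m)) := by
      intro m hm hA
      have hsub : lines16 m ⊆ S := fun k hk => by
        obtain ⟨-, hk0, hk'⟩ := Finset.mem_filter.mp hk
        refine Finset.mem_filter.mpr ⟨Finset.mem_univ _, hk0, ?_⟩
        obtain ⟨i, j⟩ := k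
        simp only at hk'
        rcases hk' with e | e | e | e
        · exact haxis _ hk0 (Or.inl e)
        · exact haxis _ hk0 (Or.inr e)
        · subst e
          have := hscale i (1, m) (fun e => hk0 (by simp [e])) (by simp) hA
          simpa [mul_comm] using this
        · subst e
          have h1 := hσA (1, m) (by simp) hA
          have := hscale i (1, -m) (fun e => hk0 (by simp [e])) (by simp) h1
          simpa [mul_comm] using this
      have := Finset.card_le_card hsub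
      omega
    have hno1 := hno 1 card_lines16.1
    have hno2 := hno 2 card_lines16.2
    have hsub : S ⊆ Finset.univ.filter fun k : ZMod 5 × ZMod 5 => k ≠ 0 ∧ (k.1 = 0 ∨ k.2 = 0) := by
      intro k hk
      obtain ⟨hk0, hkA⟩ := (Finset.mem_filter.mp hk).2
      refine Finset.mem_filter.mpr ⟨Finset.mem_univ _, hk0, ?_⟩
      by_contra hne
      push Not at hne
      have h1 := hscale k.1⁻¹ k (inv_ne_zero hne.1) hk0 hkA
      rw [inv_mul_cancel₀ hne.1] at h1
      have hk2 : k.1⁻¹ * k.2 = 1 ∨ k.1⁻¹ * k.2 = -1 ∨ k.1⁻¹ * k.2 = 2 ∨ k.1⁻¹ * k.2 = -2 := by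
        have hi := inv_mul_cancel₀ hne.1
        rcases line_cases k hk0 with e | e | e | e | e | e
        · exact absurd e hne.1
        · exact absurd e hne.2
        · left; rw [e, hi]
        · right; left; rw [e, mul_neg, hi]
        · right; right; left; rw [e, mul_left_comm, hi, mul_one]
        · right; right; right; rw [e, mul_neg, mul_left_comm, hi, mul_one]
      rcases hk2 with e | e | e | e <;> rw [e] at h1
      · exact hno1 h1
      · exact hno1 (by simpa using hσA _ (by simp) h1)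
      · exact hno2 h1
      · exact hno2 (by simpa using hσA _ (by simp) h1)
    have := Finset.card_le_card hsub
    rw [hS12, axes_card] at this
    omega
  refine ⟨hyB, ?_⟩
  set N := normalizer ((P : Subgroup G) : Set G) ⊓ centralizer ({y} : Set G) with hNdef
  have h50 : Nat.card N = 50 := F.card_NC D P hyP (Or.inr hyB)
  have hPN : (P : Subgroup G) ≤ N := fun x hx => ⟨le_normalizer hx, mem_centralizer_singleton_iff.mpr
    (by rw [← hR] at hx; exact hy.R_comm hx hy.c_mem)⟩
  have hidx : ((P : Subgroup G).subgroupOf N).index = 2 := by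
    have h1 := ((P : Subgroup G).subgroupOf N).card_mul_index
    rw [Nat.card_congr (subgroupOfEquivOfLe hPN).toEquiv, F.dvd_25 D, h50] at h1
    omega
  obtain ⟨j0, hj0⟩ := exists_prime_orderOf_dvd_card' (G := N) 2 (by rw [h50]; norm_num)
  set j : G := (j0 : G) with hjdef
  have hj : orderOf j = 2 := by rw [hjdef, Subgroup.orderOf_coe, hj0]
  have hjy : j * y = y * j := mem_centralizer_singleton_iff.mp j0.2.2
  have hjy' : j * y * j⁻¹ = y := mul_inv_eq_iff_eq_mul.mpr hjy
  have hnotP : ∀ i : G, orderOf i = 2 → i ∉ (P : Subgroup G) := fun i hi hm => by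
    have := Subgroup.orderOf_dvd_natCard _ hm
    rw [hi, F.dvd_25 D] at this
    norm_num at this
  obtain ⟨p, q, hpq⟩ := hy.exists_pow_of_mem (x := j * g * j⁻¹)
    (hR.symm ▸ (mem_normalizer_iff.mp j0.2.1 g).mp hgP)
  have hjj : j * j = 1 := H65.mul_self_eq_one hj
  have h2 : j * (j * g * j⁻¹) * j⁻¹ = g := by
    rw [show j * (j * g * j⁻¹) * j⁻¹ = j * j * g * (j * j)⁻¹ by group, hjj]; simp
  rw [hpq, ← conj_mul, ← conj_pow, ← conj_pow, hpq, hjy',
    ((show Commute g y from hy.comm.symm).pow_pow p q).mul_pow, ← pow_mul, ← pow_mul, mul_assoc,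
    ← pow_add] at h2
  obtain ⟨e1, e2⟩ := hy.exp_unique (a' := 1) (b' := 0) (h2.trans (by simp))
  push_cast at e1 e2
  rcases sq_one_shift (p : ZMod 5) q e1 (by rw [mul_comm]; exact e2) with ⟨hp, hq⟩ | hp
  · exfalso
    rw [hy.congr (a' := 1) (b' := 0) (by simpa using hp) (by simpa using hq)] at hpq
    simp only [pow_one, pow_zero, mul_one] at hpq
    exact F.not_both (F.A_invol D hIA hj (mul_inv_eq_iff_eq_mul.mp hpq))
      (F.B_invol D hyB hj hjy)
  · -- the conjugate by `σ` acts in the same way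
    set j' := σ * j * σ⁻¹ with hj'def
    have hσN : ∀ x, x ∈ (P : Subgroup G) → σ * x * σ⁻¹ ∈ (P : Subgroup G) := fun x hx => by
      rw [← hR] at hx
      obtain ⟨k, rfl⟩ := hy.mem_R.mp hx
      rw [hσel]; exact hel _
    have hσi : σ⁻¹ = σ := inv_eq_of_mul_eq_one_left hσ
    have hσn : σ ∈ normalizer ((P : Subgroup G) : Set G) := mem_normalizer_iff.mpr fun x => by
      refine ⟨hσN x, fun hx => ?_⟩
      have h5 := hσN _ hx
      rw [show σ * (σ * x * σ⁻¹) * σ⁻¹ = σ * σ * x * (σ * σ)⁻¹ by group, hσ] at h5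
      simpa using h5
    have hσy' : σ⁻¹ * y * σ = y⁻¹ := by rw [hσi] at hσy ⊢; exact hσy
    have hj'y : j' * y * j'⁻¹ = y := by
      calc j' * y * j'⁻¹ = σ * (j * (σ⁻¹ * y * σ) * j⁻¹) * σ⁻¹ := by rw [hj'def]; group
        _ = σ * y⁻¹ * σ⁻¹ := by
          rw [hσy', show j * y⁻¹ * j⁻¹ = (j * y * j⁻¹)⁻¹ by group, hjy']
        _ = (σ * y * σ⁻¹)⁻¹ := by group
        _ = y := by rw [hσy, inv_inv]
    have hj'N : j' ∈ N := ⟨mul_mem (mul_mem hσn j0.2.1) ((normalizer _).inv_mem hσn),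
      mem_centralizer_singleton_iff.mpr (mul_inv_eq_iff_eq_mul.mp hj'y)⟩
    have hprod : j * j' ∈ (P : Subgroup G) := by
      have := (mul_mem_iff_of_index_two hidx (a := j0) (b := ⟨j', hj'N⟩)).mpr
        (iff_of_false (hnotP j hj) (hnotP j' ((H65.orderOf_conj' σ j).trans hj)))
      exact this
    have hsame : j' * g * j'⁻¹ = j * g * j⁻¹ := by
      have hc : (j * j') * g = g * (j * j') := by
        rw [← hR] at hprod; exact hy.R_comm hprod hy.w_mem
      calc j' * g * j'⁻¹ = j⁻¹ * ((j * j') * g * (j * j')⁻¹) * j := by group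
        _ = j⁻¹ * g * j := by rw [hc, mul_inv_cancel_right]
        _ = j * g * j⁻¹ := by rw [show j⁻¹ = j from inv_eq_of_mul_eq_one_left hjj]
    have hσg' : σ⁻¹ * g * σ = g := by rw [hσi] at hσg ⊢; exact hσg
    have hj'g : j' * g * j'⁻¹ = g ^ p * (y⁻¹) ^ q := by
      calc j' * g * j'⁻¹ = σ * (j * (σ⁻¹ * g * σ) * j⁻¹) * σ⁻¹ := by rw [hj'def]; group
        _ = _ := by rw [hσg', hpq, ← conj_mul, ← conj_pow, ← conj_pow, hσg, hσy]
    rw [hsame, hpq, show y⁻¹ = y ^ 4 from inv_eq_of_mul_eq_one_left (by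
      rw [← pow_succ, show 4 + 1 = orderOf y from hy.hc.symm, pow_orderOf_eq_one]), ← pow_mul] at hj'g
    obtain ⟨-, e4⟩ := hy.exp_unique hj'g
    have hq : (q : ZMod 5) = 0 := eq_neg_self _ (by
      push_cast at e4
      rw [show (4 : ZMod 5) = -1 from rfl, neg_one_mul] at e4
      exact e4)
    refine ⟨j, hj, hjy', ?_⟩
    rw [hpq, hy.congr (a' := 4) (b' := 0) (by simpa using hp) (by simpa using hq), pow_zero, mul_one]
    refine eq_inv_of_mul_eq_one_left ?_
    rw [← pow_succ, show 4 + 1 = orderOf g from D.ord.symm, pow_orderOf_eq_one]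

end Frame

end Cfsg.Agent.H55.Suz
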