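import Cfsg.Agent.H55.Suz.Fin

/-!
An involution of the second type, the element of order three cycling its four-group and the swap.
-/

set_option autoImplicit false
set_option linter.unusedSectionVars false

namespace Cfsg.Agent.H55.Suz

open Cfsg.Agent.H73.Suz QuadraticMap Cfsg.Agent.Orthogonal Cfsg.Agent.H92.ExtraForm

variable {G : Type*} [Group G] [Finite G] {z : G} {Q : Subgroup G}

/-- The configuration. -/
structure Frame (h : Setup z Q) (s w t om hh : G) : Prop where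
  P : Pair h s w
  om_z : om * z = z * om
  om_s : om * s = s * om
  om3 : om * om * om = 1
  om_res : ∀ a, res (h.ρ om) a = omU a
  ht : IsW h s w t tb
  t2 : t * t = 1
  orbit : t * (om * t * om⁻¹) * (om * (om * t * om⁻¹) * om⁻¹) = 1
  hh_z : hh * z = z * hh
  hh_t : hh * t = t * hh
  hh_s : hh * s * hh⁻¹ = s * z
  hh_conj : ∀ x p, IsW h s w x p → IsW h s w (hh * x * hh⁻¹) (phiR p)

theorem res_one {h : Setup z Q} (a : U4) : res (h.ρ 1) a = a := by
  rw [h.ρ_one]; rfl

theorem exists_om {h : Setup z Q} {s w : G} (P : Pair h s w) :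
    ∃ om, om * z = z * om ∧ om * s = s * om ∧ om * om * om = 1 ∧
      ∀ a, res (h.ρ om) a = omU a := by
  obtain ⟨c, hc, hcs, hρ⟩ := h.exists_lift P.hs P.hπ (pairO_mem qU_a0 qU_u0)
    (pairO_v0 qU_a0 qU_u0)
  set k := pairO a0 u0 with hk
  have k3 : k ^ 3 = 1 := O.ext_app fun y => by
    rw [pow_app]
    simp only [Function.iterate_succ_apply', Function.iterate_zero_apply, hk,
      pairO_app qU_a0 qU_u0]
    show (y.1, omU (omU (omU y.2))) = y
    rw [omU_three]
  have hz3 : c ^ 3 * z = z * c ^ 3 := ((show Commute c z from hc).pow_left 3).eq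
  have h3 : c ^ 3 ∈ Q := (h.ρ_ker _ hz3).mp (by rw [h.ρ_pow hc, hρ, k3])
  refine ⟨c ^ 4, ((show Commute c z from hc).pow_left 4).eq,
    ((show Commute c s from hcs).pow_left 4).eq, ?_, fun a => ?_⟩
  · rw [← pow_add, ← pow_add, show 4 + 4 + 4 = 3 * 4 from rfl, pow_mul, h.pow_four h3]
  · rw [h.ρ_pow hc, hρ, pow_succ, k3, one_mul, res, hk, pairO_app qU_a0 qU_u0, emb_snd]
    rfl

theorem exists_frame (h : Setup z Q) : ∃ s w t om hh, Frame h s w t om hh := by
  obtain ⟨s, w, P⟩ := exists_setup_pair h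
  obtain ⟨om, hoz, hos, ho3, hor⟩ := exists_om P
  -- the involution
  obtain ⟨t₀, ht₀⟩ := isW_exists P tb
  have hconj : ∀ x p, IsW h s w x p → IsW h s w (om * x * om⁻¹) (omR p) := by
    intro x p hx
    have := isW_conj P hoz hos hx
    rwa [hor, hor] at this
  have h1 := hconj _ _ ht₀
  have h2 := hconj _ _ h1
  have hsum : IsW h s w (t₀ * (om * t₀ * om⁻¹) * (om * (om * t₀ * om⁻¹) * om⁻¹)) 0 := by
    have := isW_mul P (isW_mul P ht₀ h1) h2
    rwa [omR_tb, omR_vb, show tb + vb + (tb + vb) = 0 from add_self_R2 _] at this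
  obtain ⟨i, j, he⟩ := isW_eq_tt P hsum
  set d := tt z s i j with hd
  set t := t₀ * d with ht'
  have ht : IsW h s w t tb := by simpa using isW_mul P ht₀ (isW_tt P i j)
  have hdom : Commute om d := commute_tt P hoz hos i j
  have t2 : t * t = 1 := by
    rw [isW_sq P ht, sqv_tb]; simp [tt, zp]
  have hd_om : ∀ x, om * (x * d) * om⁻¹ = om * x * om⁻¹ * d := fun x => by
    calc om * (x * d) * om⁻¹ = om * x * (d * om⁻¹) := by group
      _ = om * x * (om⁻¹ * d) := by rw [hdom.inv_left.symm.eq]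
      _ = om * x * om⁻¹ * d := by group
  have orbit : t * (om * t * om⁻¹) * (om * (om * t * om⁻¹) * om⁻¹) = 1 := by
    rw [ht', hd_om, hd_om]
    set x := om * t₀ * om⁻¹
    set y := om * x * om⁻¹
    have hxd : Commute x d := isW_commute_tt P h1 i j
    have hyd : Commute y d := isW_commute_tt P h2 i j
    calc t₀ * d * (x * d) * (y * d) = t₀ * (d * x) * (d * y) * d := by group
      _ = t₀ * (x * d) * (y * d) * d := by rw [hxd.eq, hyd.eq]
      _ = t₀ * x * (d * y) * (d * d) := by group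
      _ = t₀ * x * (y * d) := by rw [tt_self P, mul_one, hyd.eq]
      _ = 1 := by rw [← mul_assoc, he, tt_self P]
  -- the swap
  obtain ⟨r, hr, hrπ, hrs⟩ := h.exists_flip P.hs P.hπ
  obtain ⟨c, hc, hcs, hcres⟩ := P.exists_M qU_u0 qU_c0
  have hrz := h.le r hr
  have hrconj : ∀ x p, IsW h s w x p → IsW h s w (r * x * r⁻¹) (p.1 + p.2, p.2) := by
    rintro x p ⟨q, b, hq, hb, rfl, e1, e2⟩
    have hsz : r⁻¹ * s * r = s * z := by
      calc r⁻¹ * s * r = r⁻¹ * (s * (r * z)) * z := by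
            rw [mul_assoc r⁻¹, mul_assoc r⁻¹, mul_assoc s (r * z) z, mul_assoc r z z, h.zz, mul_one]
        _ = r⁻¹ * (r * s * r⁻¹) * r * z := by rw [hrs, hrz]; group
        _ = s * z := by group
    have hcomm : ∀ y, y * z = z * y → y * s = s * y → (r * y * r⁻¹) * s = s * (r * y * r⁻¹) := by
      intro y hy hys
      have : Commute y (s * z) := (show Commute y s from hys).mul_right hy
      calc r * y * r⁻¹ * s = r * (y * (r⁻¹ * s * r)) * r⁻¹ := by group
        _ = r * (r⁻¹ * s * r * y) * r⁻¹ := by rw [hsz, this.eq]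
        _ = s * (r * y * r⁻¹) := by group
    have hq' : InA Q s (r * q * r⁻¹) :=
      ⟨mul_mem (mul_mem hr hq.1) (inv_mem hr), hcomm q (P.zc hq) hq.2⟩
    have eq' : alpha h (r * q * r⁻¹) = alpha h q := by
      rw [alpha, h.ρ_π r hrz q hq.1, h.ρ_Q hr]; rfl
    set y := r * b * r⁻¹ * b⁻¹ with hy
    have hyQ : y ∈ Q := by
      rw [hy, mul_assoc r b, mul_assoc r]
      exact mul_mem hr (h.norm b hb.2 _ (inv_mem hr))
    have hyA : InA Q s y := ⟨hyQ, by
      rw [hy]
      exact ((show Commute (r * b * r⁻¹) s from hcomm b hb.2 (P.sB hb)).mul_left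
        (show Commute b s from P.sB hb).inv_left).eq⟩
    have hπy : h.π y = h.π r + (E (theta h b) : V6 ≃ₗ[ZMod 2] V6) f0 := by
      rw [hy, mul_assoc r b, mul_assoc r, h.π_mul _ hr _ (h.norm b hb.2 _ (inv_mem hr)),
        h.ρ_π b hb.2 _ (inv_mem hr), h.π_inv hr, hrπ, P.rho_B hb]
    have ey : alpha h y = theta h b := by
      rw [alpha, hπy, hrπ, E_f0]; simp [f0]
    refine ⟨r * q * r⁻¹ * y, b, P.InA_mul hq' hyA, hb, by rw [hy]; group, ?_, e2⟩
    rw [P.alpha_mul hq'.1 hyQ, eq', ey, e1, e2]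
  set h₀ := c * r with hh₀
  have h₀z : h₀ * z = z * h₀ := h.mul_comm' hc hrz
  have h₀conj : ∀ x p, IsW h s w x p → IsW h s w (h₀ * x * h₀⁻¹) (phiR p) := by
    intro x p hx
    have := isW_conj P hc hcs (hrconj x p hx)
    rw [hcres, hcres] at this
    rw [hh₀, show c * r * x * (c * r)⁻¹ = c * (r * x * r⁻¹) * c⁻¹ by group]
    exact this
  have hcsz : Commute c (s * z) := (show Commute c s from hcs).mul_right hc
  have h₀s : h₀ * s * h₀⁻¹ = s * z := by
    calc h₀ * s * h₀⁻¹ = c * (r * s * r⁻¹) * c⁻¹ := by rw [hh₀]; group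
      _ = s * z := by rw [hrs, hcsz.eq, mul_inv_cancel_right]
  have htt₀ := h₀conj t tb ht
  rw [phiR_tb] at htt₀
  obtain ⟨k, l, hkl⟩ := isW_mul_tt P ht htt₀
  obtain ⟨a', hk, hl⟩ := pair_values k l
  obtain ⟨q, hqA, hqπ⟩ := P.exists_A a'
  have hqW := isW_A P hqA
  have hα : alpha h q = a' := by rw [alpha, hqπ]; rfl
  have hqt : q * (h₀ * t * h₀⁻¹) * q⁻¹ = t := by
    have hb : bil (alpha h q, 0) tb = (k, l) := by
      have h0 : fU a0 0 = 0 ∧ fU (0 : U4) u0 = 0 := by decide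
      simp only [bil, tb, hα, h0.1, h0.2, add_zero]
      rw [hk, hl]
    have e := isW_comm P hqW htt₀
    rw [hb] at e
    have e' : q * (h₀ * t * h₀⁻¹) = h₀ * t * h₀⁻¹ * q * tt z s k l := by
      rw [e, mul_assoc (q * _), tt_self P, mul_one]
    rw [e', hkl, mul_assoc (t * tt z s k l) q, (isW_commute_tt P hqW k l).eq]
    calc t * tt z s k l * (tt z s k l * q) * q⁻¹ = t * (tt z s k l * tt z s k l) := by group
      _ = t := by rw [tt_self P, mul_one]
  refine ⟨s, w, t, om, q * h₀, P, hoz, hos, ho3, hor, ht, t2, orbit,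
    h.mul_comm' (P.zc hqA) h₀z, ?_, ?_, fun x p hx => ?_⟩
  · rw [← mul_inv_eq_iff_eq_mul,
      show q * h₀ * t * (q * h₀)⁻¹ = q * (h₀ * t * h₀⁻¹) * q⁻¹ by group, hqt]
  · calc q * h₀ * s * (q * h₀)⁻¹ = q * (h₀ * s * h₀⁻¹) * q⁻¹ := by group
      _ = s * z := by
        rw [h₀s, ((show Commute q s from hqA.2).mul_right (P.zc hqA)).eq, mul_inv_cancel_right]
  · rw [show q * h₀ * x * (q * h₀)⁻¹ = q * (h₀ * x * h₀⁻¹) * q⁻¹ by group]
    exact isW_conj_W P hqW (h₀conj x p hx)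

end Cfsg.Agent.H55.Suz
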