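import Cfsg.Agent.H55.Suz.Groups
import Cfsg.Agent.H55.Suz.Sub

/-!
The only conjugates of `v` under `C(t)` lying in `T` are `v` and `t v`.
-/

set_option autoImplicit false
set_option linter.unusedSectionVars false
set_option linter.style.haveILetI false
set_option linter.unusedVariables false

namespace Cfsg.Agent.H55.Suz.Frame

open Cfsg.Agent.H73.Suz Cfsg.Agent.H92.ExtraForm Subgroup

variable {G : Type*} [Group G] [Finite G] {z : G} {Q : Subgroup G}
variable {h : Setup z Q} {s w t om hh : G} (F : Frame h s w t om hh)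

include F

local notation "W[" x ", " p "]" => IsW h s w x p

theorem commute_om_zero {x : G} (hx : W[x, 0]) : Commute om x :=
  F.commute_om hx (by decide)

theorem commute_om_inE {x : G} {p : R2} (hx : W[x, p]) (hp : InE p) : Commute om x :=
  F.commute_om hx (inE_props p hp).2.2.2.1

theorem om_t : om * t * om⁻¹ = F.vv := rfl

theorem om_v' : om⁻¹ * F.vv * om = t := by rw [vv]; group

/-- The key uniqueness of the four-group cycled by `om`. -/
theorem canon_core {c e : G} (hcz : c * z = z * c) (hcs : c * s = s * c) (hce : c * e = e * c)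
    (heo : Commute om e) (h1 : c * t * c⁻¹ = F.vv * e)
    (h2 : c * (F.vv * e) * c⁻¹ = t * F.vv * e) : e = 1 := by
  have hcv : c * F.vv * c⁻¹ = t * F.vv := by
    rw [← conj_mul, mul_inv_eq_iff_eq_mul.mpr hce] at h2
    exact mul_right_cancel h2
  set k := om⁻¹ * c with hk
  have hkv : k * F.vv * k⁻¹ = F.vv := by
    calc k * F.vv * k⁻¹ = om⁻¹ * (c * F.vv * c⁻¹) * om := by rw [hk]; group
      _ = F.vv := by rw [hcv, ← F.om_v]; group
  have hkt : k * t * k⁻¹ = t * e := by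
    calc k * t * k⁻¹ = om⁻¹ * (c * t * c⁻¹) * om := by rw [hk]; group
      _ = (om⁻¹ * F.vv * om) * (om⁻¹ * e * om) := by rw [h1]; group
      _ = t * e := by rw [F.om_v', heo.inv_left.eq, inv_mul_cancel_right]
  have hcom : ∀ y : G, Commute om y → Commute c y → Commute (om⁻¹ * k * om) y := fun y ho hc =>
    (ho.inv_left.mul_left (ho.inv_left.mul_left hc)).mul_left ho
  have hk2 : om⁻¹ * k * om ∈ F.Ssub := by
    refine F.W_of_fix (hcom z F.om_z hcz).eq (hcom s F.om_s hcs).eq (mul_inv_eq_iff_eq_mul.mp ?_)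
    calc om⁻¹ * k * om * t * (om⁻¹ * k * om)⁻¹ = om⁻¹ * (k * F.vv * k⁻¹) * om := by rw [vv]; group
      _ = t := by rw [hkv, F.om_v']
  obtain ⟨p, hp, -⟩ := F.mem_S.mp hk2
  have hkW : W[k, omR p] := by
    have := F.om_conj hp
    rwa [show om * (om⁻¹ * k * om) * om⁻¹ = k by group] at this
  have hkS := F.S_of_W_comm_v hkW (mul_inv_eq_iff_eq_mul.mp hkv)
  have := mem_centralizer_singleton_iff.mp hkS.2
  rw [mul_inv_eq_iff_eq_mul.mpr this, left_eq_mul] at hkt
  exact hkt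

theorem canon {g e : G} (hg : g * t = t * g) (heo : Commute om e)
    (hz : Commute om (g⁻¹ * z * g)) (hs : Commute om (g⁻¹ * s * g))
    (he : Commute om (g⁻¹ * e * g)) (hv : g * F.vv * g⁻¹ = F.vv * e) : e = 1 := by
  have hc : ∀ y : G, Commute om (g⁻¹ * y * g) → g * om * g⁻¹ * y = y * (g * om * g⁻¹) := fun y hy => by
    calc g * om * g⁻¹ * y = g * (om * (g⁻¹ * y * g)) * g⁻¹ := by group
      _ = g * (g⁻¹ * y * g * om) * g⁻¹ := by rw [hy.eq]
      _ = y * (g * om * g⁻¹) := by group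
  have hgt : g⁻¹ * t * g = t := by rw [mul_assoc, ← hg, inv_mul_cancel_left]
  refine F.canon_core (c := g * om * g⁻¹) (hc z hz) (hc s hs) (hc e he) heo ?_ ?_
  · calc g * om * g⁻¹ * t * (g * om * g⁻¹)⁻¹ = g * (om * (g⁻¹ * t * g) * om⁻¹) * g⁻¹ := by group
      _ = F.vv * e := by rw [hgt, ← hv]; rfl
  · calc g * om * g⁻¹ * (F.vv * e) * (g * om * g⁻¹)⁻¹
        = g * (om * (g⁻¹ * (F.vv * e) * g) * om⁻¹) * g⁻¹ := by group
      _ = g * (om * F.vv * om⁻¹) * g⁻¹ := by rw [← hv]; group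
      _ = g * t * g⁻¹ * (g * F.vv * g⁻¹) := by rw [F.om_v]; group
      _ = t * F.vv * e := by rw [hv, mul_inv_eq_iff_eq_mul.mpr hg, ← mul_assoc]

theorem canon' {g e : G} (hg : g * t = t * g) (heo : Commute om e)
    (hz : Commute om (g⁻¹ * z * g)) (hs : Commute om (g⁻¹ * s * g))
    (he : Commute om (g⁻¹ * e * g)) (hv : g * F.vv * g⁻¹ = t * F.vv * e) : e = 1 := by
  have hc : ∀ y : G, Commute om (g⁻¹ * y * g) →
      g * (om * om) * g⁻¹ * y = y * (g * (om * om) * g⁻¹) := fun y hy => by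
    calc g * (om * om) * g⁻¹ * y = g * (om * om * (g⁻¹ * y * g)) * g⁻¹ := by group
      _ = g * (g⁻¹ * y * g * (om * om)) * g⁻¹ := by rw [(hy.mul_left hy).eq]
      _ = y * (g * (om * om) * g⁻¹) := by group
  have hgt : g⁻¹ * t * g = t := by rw [mul_assoc, ← hg, inv_mul_cancel_left]
  have hgt' : g * t * g⁻¹ = t := mul_inv_eq_iff_eq_mul.mpr hg
  have hgtv : g * (t * F.vv) * g⁻¹ = F.vv * e := by
    rw [← conj_mul, hgt', hv, ← mul_assoc, ← mul_assoc, F.t2, one_mul]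
  refine F.canon_core (c := g * (om * om) * g⁻¹) (hc z hz) (hc s hs) (hc e he) heo ?_ ?_
  · calc g * (om * om) * g⁻¹ * t * (g * (om * om) * g⁻¹)⁻¹
        = g * (om * (om * (g⁻¹ * t * g) * om⁻¹) * om⁻¹) * g⁻¹ := by group
      _ = g * (t * F.vv) * g⁻¹ := by rw [hgt, F.om_t, F.om_v]
      _ = F.vv * e := hgtv
  · calc g * (om * om) * g⁻¹ * (F.vv * e) * (g * (om * om) * g⁻¹)⁻¹
        = g * (om * (om * (g⁻¹ * (F.vv * e) * g) * om⁻¹) * om⁻¹) * g⁻¹ := by group
      _ = g * (om * (om * (t * F.vv) * om⁻¹) * om⁻¹) * g⁻¹ := by rw [← hgtv]; group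
      _ = g * F.vv * g⁻¹ := by rw [F.om_tv, F.om_t]
      _ = t * F.vv * e := hv

theorem hh_inv_T : hh⁻¹ ∈ F.Tsub ∧ hh⁻¹ ∉ F.Ssub :=
  ⟨inv_mem F.hh_mem_T, fun e => F.hh_notMem ((inv_mem_iff (H := F.Ssub)).mp e)⟩

theorem T_out_inv {c x : G} {p : R2} (hc : c ∈ F.Tsub) (hcS : c ∉ F.Ssub) (hx : W[x, p]) :
    W[c⁻¹ * x * c, phiR p] := by
  simpa using F.T_out (inv_mem hc) (fun e => hcS ((inv_mem_iff (H := F.Ssub)).mp e)) hx

theorem isW_z : W[z, 0] := by simpa [tt, zp] using isW_tt F.P (1 : ZMod 2) (0 : ZMod 2)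

theorem isW_s : W[s, 0] := by simpa [tt, zp] using isW_tt F.P (0 : ZMod 2) (1 : ZMod 2)

/-- The swap exchanges `v` and `t v`. -/
theorem hh_v : hh * F.vv * hh⁻¹ = t * F.vv := by
  have hW : W[t * F.vv, tb + vb] := isW_mul F.P F.ht F.hv
  have hc := F.hh_conj _ _ F.hv
  rw [phiR_vb] at hc
  obtain ⟨i, j, e⟩ := isW_mul_tt F.P hW hc
  have h0 : ∀ y, W[y, 0] → Commute om (hh⁻¹ * y * hh) := fun y hy => by
    have := F.T_out_inv F.hh_mem_T F.hh_notMem hy
    rw [phiR_zero] at this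
    exact F.commute_om_zero this
  have hd := F.canon' F.hh_t (F.commute_om_zero (isW_tt F.P i j)) (h0 z F.isW_z) (h0 s F.isW_s)
    (h0 _ (isW_tt F.P i j)) e
  rw [e, hd, mul_one]

theorem hh_tv : hh * (t * F.vv) * hh⁻¹ = F.vv := by
  rw [← conj_mul, F.hh_v, mul_inv_eq_iff_eq_mul.mpr F.hh_t, ← mul_assoc, F.t2, one_mul]

/-- `T` is a maximal `2`-subgroup of `C(t)`. -/
theorem T_max {U : Subgroup G} (hU : U ≤ centralizer ({t} : Set G)) (hU2 : IsPGroup 2 U)
    (hTU : F.Tsub ≤ U) : U = F.Tsub := by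
  haveI : Fact (Nat.Prime 2) := ⟨Nat.prime_two⟩
  by_contra hne
  obtain ⟨x, hxU, hxT, hx⟩ := exists_normalizing hTU hU2 (Ne.symm hne)
  apply hxT
  refine F.mem_T.mpr ⟨?_, mem_centralizer_singleton_iff.mp (hU hxU)⟩
  set y := x * z * x⁻¹ with hy
  have hyT : y ∈ F.Tsub := (hx z (F.S_le_T F.z_mem_S)).2
  have hcen : ∀ c ∈ F.Tsub, c * y = y * c := by
    intro c hc
    have hc' := (F.mem_T.mp (hx c hc).1).1
    calc c * y = x * (x⁻¹ * c * x * z) * x⁻¹ := by rw [hy]; group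
      _ = y * c := by rw [hc', hy]; group
  have hys : y * s = s * y := (hcen s (F.S_le_T F.s_mem_S)).symm
  have hyS : y ∈ F.Ssub :=
    F.W_of_fix (F.mem_T.mp hyT).1 hys (F.mem_T.mp hyT).2
  have hyz : IsConj y z := isConj_iff.mpr ⟨x⁻¹, by rw [hy]; group⟩
  obtain ⟨p, hp, hpE⟩ := F.zType_S hyS hyz
  have hp0 : p = 0 := wit_detect p hpE fun q hq => by
    obtain ⟨r, hr⟩ := isW_exists F.P q
    exact (isW_commute_iff F.P hp hr).mp
      (hcen r (F.S_le_T (F.mem_S.mpr ⟨q, hr, (inE_props q (wit_mem q hq)).2.2.1⟩))).symm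
  subst hp0
  obtain ⟨i, j, hij⟩ := isW_eq_tt F.P hp
  have hfix : hh * y * hh⁻¹ = y := mul_inv_eq_iff_eq_mul.mpr (hcen hh F.hh_mem_T)
  rcases two_cases' j with rfl | rfl
  · rcases two_cases' i with rfl | rfl
    · rw [tt_zero F.P] at hij
      exact absurd (conj_eq_one_iff.mp (hy ▸ hij)) h.z_ne
    · simp only [tt, zp_one, zp_zero, mul_one] at hij
      exact mul_inv_eq_iff_eq_mul.mp hij
  · exfalso
    have hs : tt z s i 1 = zp z i * s := by simp [tt, zp_one]
    rw [hij, hs, ← conj_mul, F.hh_s] at hfix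
    have hz' : hh * zp z i * hh⁻¹ = zp z i := by
      unfold zp; split_ifs <;> simp [F.hh_z]
    rw [hz', mul_right_inj] at hfix
    exact h.z_ne (mul_eq_left.mp hfix)

/-- Every `2`-subgroup of `C(t)` has order at most `512`. -/
theorem card_le_T {U : Subgroup G} (hU : U ≤ centralizer ({t} : Set G)) (hU2 : IsPGroup 2 U) :
    Nat.card U ≤ 512 := by
  haveI : Fact (Nat.Prime 2) := ⟨Nat.prime_two⟩
  set H := centralizer ({t} : Set G)
  have hTH : F.Tsub ≤ H := fun x hx => hx.2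
  obtain ⟨S₀, hS₀⟩ := (IsPGroup.of_equiv F.T_two (subgroupOfEquivOfLe hTH).symm).exists_le_sylow
  have hT := F.T_max (U := (S₀ : Subgroup H).map H.subtype) (map_subtype_le _)
    (S₀.isPGroup'.map _) (fun y hy => ⟨⟨y, hTH hy⟩, hS₀ (show (⟨y, hTH hy⟩ : H) ∈
      F.Tsub.subgroupOf H from hy), rfl⟩)
  have hc : Nat.card (S₀ : Subgroup H) = 512 := by
    rw [← F.card_T, ← hT]
    exact Nat.card_congr (equivMapOfInjective _ _ H.subtype_injective).toEquiv
  obtain ⟨S₁, hS₁⟩ := (IsPGroup.of_equiv hU2 (subgroupOfEquivOfLe hU).symm).exists_le_sylow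
  have := card_le_of_le hS₁
  rw [Nat.card_congr (subgroupOfEquivOfLe hU).toEquiv, S₁.card_eq_multiplicity,
    ← S₀.card_eq_multiplicity, hc] at this
  exact this

theorem exists_conj_T {U : Subgroup G} (hU : U ≤ centralizer ({t} : Set G)) (hU2 : IsPGroup 2 U) :
    ∃ g, g * t = t * g ∧ ∀ x ∈ U, g * x * g⁻¹ ∈ F.Tsub := by
  haveI : Fact (Nat.Prime 2) := ⟨Nat.prime_two⟩
  obtain ⟨g, hg, hgx⟩ := exists_conj_le (H := centralizer ({t} : Set G)) (T := F.Tsub)
    (fun x hx => hx.2) F.T_two (fun V hV hV2 => (F.card_le_T hV hV2).trans_eq F.card_T.symm) hU hU2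
  exact ⟨g, mem_centralizer_singleton_iff.mp hg, hgx⟩

/-- A `2`-subgroup of `C(t)` centralising `v` has order at most `256`. -/
theorem card_le_S {U : Subgroup G} (hU : U ≤ centralizer ({t} : Set G)) (hU2 : IsPGroup 2 U)
    (hUv : ∀ x ∈ U, x * F.vv = F.vv * x) : Nat.card U ≤ 256 := by
  haveI : Fact (Nat.Prime 2) := ⟨Nat.prime_two⟩
  by_contra hlt
  obtain ⟨g, hg, hgx⟩ := F.exists_conj_T hU hU2
  have hle : cj g U ≤ F.Tsub := fun x hx => by
    have := hgx _ (mem_cj.mp hx)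
    rwa [show g * (g⁻¹ * x * g) * g⁻¹ = x by group] at this
  obtain ⟨n, hn⟩ := IsPGroup.iff_card.mp hU2
  have hd := card_dvd_of_le hle
  rw [F.card_T, card_cj, hn, show (512 : ℕ) = 2 ^ 9 from rfl,
    Nat.pow_dvd_pow_iff_le_right (by norm_num : 1 < 2)] at hd
  have hn9 : n = 9 := by
    have h8 : ¬ n ≤ 8 := fun h' => hlt (hn ▸ (Nat.pow_le_pow_right (by norm_num) h'))
    omega
  have heq := eq_of_le_of_card_ge hle (by rw [F.card_T, card_cj, hn, hn9]; norm_num)
  set u := g * F.vv * g⁻¹ with hu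
  have hut : u * t = t * u := by
    have hgt : g⁻¹ * t * g = t := by rw [mul_assoc, ← hg, inv_mul_cancel_left]
    calc u * t = g * (F.vv * (g⁻¹ * t * g)) * g⁻¹ := by rw [hu]; group
      _ = g * (g⁻¹ * t * g * F.vv) * g⁻¹ := by rw [hgt, F.tv_comm]
      _ = t * u := by rw [hu]; group
  have hcen : ∀ c ∈ F.Tsub, c * u = u * c := by
    intro c hc
    rw [← heq, mem_cj] at hc
    calc c * u = g * (g⁻¹ * c * g * F.vv) * g⁻¹ := by rw [hu]; group
      _ = u * c := by rw [hUv _ hc, hu]; group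
  have huT : u ∈ F.Tsub := F.mem_T.mpr ⟨(hcen z (F.S_le_T F.z_mem_S)).symm, hut⟩
  have huS := F.W_of_fix (F.mem_T.mp huT).1 (hcen s (F.S_le_T F.s_mem_S)).symm hut
  have hu2 : u * u = 1 := by rw [hu, conj_mul, F.v2, mul_one, mul_inv_cancel]
  have hu1 : u ≠ 1 := fun e => F.v_ne (conj_eq_one_iff.mp e)
  obtain ⟨p, hp, hpb⟩ := F.mem_S.mp huS
  have hq1 : qU p.1 = 1 := by
    rcases two_cases' (qU p.1) with e | e
    · exact absurd ((isConj_iff.mpr ⟨g, rfl⟩ : IsConj F.vv u).trans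
        ((F.isConj_z_iff hp hu2 hu1).mpr e)) F.v_not_z
    · exact e
  have hfix : hh * u * hh⁻¹ = u := mul_inv_eq_iff_eq_mul.mpr (hcen hh F.hh_mem_T)
  have hphi : phiR p = p := isW_unique F.P (F.hh_conj u p hp) (hfix.symm ▸ hp)
  have hp0 := central_T p hpb (F.sqv_zero hp hu2) hq1 hphi fun q hq => by
    obtain ⟨r, hr⟩ := isW_exists F.P q
    exact (isW_commute_iff F.P hp hr).mp
      (hcen r (F.S_le_T (F.mem_S.mpr ⟨q, hr, (inE_props q (wit_mem q hq)).2.2.1⟩))).symm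
  subst hp0
  obtain ⟨i, j, hij⟩ := isW_mul_tt F.P F.ht hp
  have hgt' : g * t * g⁻¹ = t := mul_inv_eq_iff_eq_mul.mpr hg
  have hgtv : g * (t * F.vv) * g⁻¹ = tt z s i j := by
    rw [← conj_mul, hgt', ← hu, hij, ← mul_assoc, F.t2, one_mul]
  have hne : tt z s i j ≠ 1 := fun e => by
    rw [e] at hgtv
    have : t * F.vv = 1 := conj_eq_one_iff.mp hgtv
    exact tb_ne.2.2.1 (isW_unique F.P (isW_mul F.P F.ht F.hv) (this.symm ▸ isW_one F.P))
  exact F.tv_not_z ((isConj_iff.mpr ⟨g, hgtv⟩ : IsConj (t * F.vv) (tt z s i j)).trans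
    ((F.isConj_z_iff (isW_tt F.P i j) (tt_self F.P i j) hne).mpr (by decide)))

/-- Conjugates of `v` admit a conjugation of their centraliser into `S`. -/
theorem exists_conj_S {g u : G} {P : Subgroup G} (hg : g * t = t * g) (hu : g * F.vv * g⁻¹ = u)
    (hP : P ≤ centralizer ({t} : Set G)) (hP2 : IsPGroup 2 P) (hPu : ∀ x ∈ P, x * u = u * x) :
    ∃ k, k * t = t * k ∧ k * u * k⁻¹ = F.vv ∧ ∀ x ∈ P, k * x * k⁻¹ ∈ F.Ssub := by
  haveI : Fact (Nat.Prime 2) := ⟨Nat.prime_two⟩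
  have hgi : g⁻¹ * t = t * g⁻¹ := ((show Commute g t from hg).inv_left).eq
  have hle : ∀ x ∈ cj g⁻¹ P, x * t = t * x ∧ x * F.vv = F.vv * x := by
    intro x hx
    rw [mem_cj, inv_inv] at hx
    have h1 := mem_centralizer_singleton_iff.mp (hP hx)
    have h2 := hPu _ hx
    refine ⟨?_, ?_⟩
    · have hgt : g * t * g⁻¹ = t := mul_inv_eq_iff_eq_mul.mpr hg
      calc x * t = g⁻¹ * (g * x * g⁻¹ * (g * t * g⁻¹)) * g := by group
        _ = g⁻¹ * (g * t * g⁻¹ * (g * x * g⁻¹)) * g := by rw [hgt, h1]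
        _ = t * x := by group
    · rw [← hu] at h2
      calc x * F.vv = g⁻¹ * (g * x * g⁻¹ * (g * F.vv * g⁻¹)) * g := by group
        _ = g⁻¹ * (g * F.vv * g⁻¹ * (g * x * g⁻¹)) * g := by rw [h2]
        _ = F.vv * x := by group
  have hmemH : ∀ x, x ∈ centralizer ({t} : Set G) ⊓ centralizer ({F.vv} : Set G) ↔
      x * t = t * x ∧ x * F.vv = F.vv * x := fun x => by
    simp [mem_centralizer_singleton_iff]
  obtain ⟨k, hk, hkx⟩ := exists_conj_le
    (H := centralizer ({t} : Set G) ⊓ centralizer ({F.vv} : Set G)) (T := F.Ssub)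
    (fun x hx => (hmemH x).mpr ⟨(F.mem_T.mp (F.S_le_T hx)).2, F.S_comm_v hx⟩) F.S_two
    (fun V hV hV2 => (F.card_le_S (fun x hx => (hV hx).1) hV2
      (fun x hx => ((hmemH x).mp (hV hx)).2)).trans_eq F.card_S.symm)
    (fun x hx => (hmemH x).mpr (hle x hx)) (isPGroup_cj g⁻¹ hP2)
  obtain ⟨hkt, hkv⟩ := (hmemH k).mp hk
  refine ⟨k * g⁻¹, ((show Commute k t from hkt).mul_left hgi).eq, ?_, fun x hx => ?_⟩
  · calc k * g⁻¹ * u * (k * g⁻¹)⁻¹ = k * (g⁻¹ * u * g) * k⁻¹ := by group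
      _ = F.vv := by
        rw [← hu, show g⁻¹ * (g * F.vv * g⁻¹) * g = F.vv by group]
        exact mul_inv_eq_iff_eq_mul.mpr hkv
  · have := hkx _ (conj_mem_cj (g := g⁻¹) hx)
    rwa [show k * g⁻¹ * x * (k * g⁻¹)⁻¹ = k * (g⁻¹ * x * g⁻¹⁻¹) * k⁻¹ by group]

/-- The centraliser in `S` of an element on a line. -/
theorem card_cent {x : G} {p : R2} (hx : W[x, p]) :
    Nat.card (F.Ssub ⊓ centralizer ({x} : Set G) : Subgroup G) =
      4 * (Finset.univ.filter fun q : R2 => bil tb q = 0 ∧ bil p q = 0).card := by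
  rw [← F.card_fibre]
  refine Nat.card_congr (Equiv.subtypeEquivRight fun y => ?_)
  constructor
  · rintro ⟨hy, hyx⟩
    obtain ⟨q, hq, hb⟩ := F.mem_S.mp hy
    exact ⟨q, Finset.mem_filter.mpr ⟨Finset.mem_univ _, hb,
      (isW_commute_iff F.P hx hq).mp (mem_centralizer_singleton_iff.mp hyx).symm⟩, hq⟩
  · rintro ⟨q, hq, hy⟩
    obtain ⟨-, hb, hb'⟩ := Finset.mem_filter.mp hq
    exact ⟨F.mem_S.mpr ⟨q, hy, hb⟩,
      mem_centralizer_singleton_iff.mpr ((isW_commute_iff F.P hx hy).mpr hb').symm⟩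

/-- Involutions outside `S` have small centralisers in `T`. -/
theorem card_cent_out {u : G} (hu : u ∈ F.Tsub) (huS : u ∉ F.Ssub) :
    Nat.card (F.Tsub ⊓ centralizer ({u} : Set G) : Subgroup G) ≤ 32 := by
  classical
  set A : Set G := {c | c ∈ F.Ssub ∧ c * u = u * c} with hA
  set B := (Finset.univ.filter fun q : R2 => bil tb q = 0 ∧ phiR q = q) with hB
  have hAfix : ∀ c ∈ A, ∃ q ∈ B, W[c, q] := by
    rintro c ⟨hc, hcu⟩
    obtain ⟨q, hq, hb⟩ := F.mem_S.mp hc
    have := F.T_out hu huS hq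
    rw [← hcu, mul_inv_cancel_right] at this
    exact ⟨q, Finset.mem_filter.mpr ⟨Finset.mem_univ _, hb, isW_unique F.P this hq⟩, hq⟩
  have hAs : ∀ c ∈ A, c * s ∉ A := by
    rintro c ⟨hc, hcu⟩ ⟨-, hcsu⟩
    have hus := F.T_out_s hu huS
    have h1 : u * s * u⁻¹ = s := by
      calc u * s * u⁻¹ = u * c⁻¹ * (c * s) * u⁻¹ := by group
        _ = c⁻¹ * u * (c * s) * u⁻¹ := by rw [((show Commute c u from hcu).inv_left).eq]
        _ = c⁻¹ * (u * (c * s)) * u⁻¹ := by group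
        _ = s := by rw [← hcsu]; group
    rw [h1] at hus
    exact h.z_ne (left_eq_mul.mp hus)
  have hcardA : A.ncard ≤ 16 := by
    have hsub : A ∪ (fun c => c * s) '' A ⊆ {x | ∃ p ∈ B, W[x, p]} := by
      rintro c (hc | ⟨c, hc, rfl⟩)
      · exact hAfix c hc
      · obtain ⟨q, hq, hW⟩ := hAfix c hc
        exact ⟨q, hq, by simpa using isW_mul F.P hW F.isW_s⟩
    have hd : Disjoint A ((fun c => c * s) '' A) := Set.disjoint_left.mpr (by
      rintro _ hx ⟨c, hc, rfl⟩; exact hAs c hc hx)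
    have h1 := Set.ncard_le_ncard hsub (Set.toFinite _)
    rw [Set.ncard_union_eq hd (Set.toFinite _) (Set.toFinite _),
      Set.ncard_image_of_injective _ (mul_left_injective s),
      ← Nat.card_coe_set_eq {x | ∃ p ∈ B, W[x, p]}] at h1
    have h2 : Nat.card {x | ∃ p ∈ B, W[x, p]} = 4 * B.card := F.card_fibre B
    have h3 : B.card ≤ 8 := card_fixed
    omega
  have hsub : ((F.Tsub ⊓ centralizer ({u} : Set G) : Subgroup G) : Set G) ⊆
      A ∪ (fun c => u * c) '' A := by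
    rintro c ⟨hcT, hcu⟩
    have hcu' : c * u = u * c := mem_centralizer_singleton_iff.mp hcu
    rcases F.T_cases hcT with e | e
    · exact Or.inl ⟨e, hcu'⟩
    · refine Or.inr ⟨u⁻¹ * c, ⟨?_, ?_⟩, by group⟩
      · have := mul_mem (inv_mem ((F.T_cases hu).resolve_left huS)) e
        rwa [show (hh * u)⁻¹ * (hh * c) = u⁻¹ * c by group] at this
      · calc u⁻¹ * c * u = u⁻¹ * (c * u) := by group
          _ = u * (u⁻¹ * c) := by rw [hcu']; group
  have h1 := Set.ncard_le_ncard hsub (Set.toFinite _)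
  have h2 := Set.ncard_union_le A ((fun c => u * c) '' A)
  rw [Set.ncard_image_of_injective _ (mul_right_injective u)] at h2
  have h3 : Nat.card (F.Tsub ⊓ centralizer ({u} : Set G) : Subgroup G) =
      ((F.Tsub ⊓ centralizer ({u} : Set G) : Subgroup G) : Set G).ncard := Nat.card_coe_set_eq _
  omega

/-- A conjugate of `v` in `T` lies in `S`. -/
theorem conj_mem_S {g : G} (hg : g * t = t * g) (hgz : g * F.vv * g⁻¹ * z = z * (g * F.vv * g⁻¹)) :
    g * F.vv * g⁻¹ ∈ F.Ssub := by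
  haveI : Fact (Nat.Prime 2) := ⟨Nat.prime_two⟩
  set u := g * F.vv * g⁻¹ with hu
  have hut : u * t = t * u := by
    have hgt : g⁻¹ * t * g = t := by rw [mul_assoc, ← hg, inv_mul_cancel_left]
    calc u * t = g * (F.vv * (g⁻¹ * t * g)) * g⁻¹ := by rw [hu]; group
      _ = g * (g⁻¹ * t * g * F.vv) * g⁻¹ := by rw [hgt, F.tv_comm]
      _ = t * u := by rw [hu]; group
  by_contra huS
  have huT : u ∈ F.Tsub := F.mem_T.mpr ⟨hgz, hut⟩
  -- `z` moves into `S`
  have hz2 : IsPGroup 2 (zpowers z) := IsPGroup.of_card (n := 1) (by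
    rw [Nat.card_zpowers, h.hzo, pow_one])
  obtain ⟨k, hkt, hku, hk⟩ := F.exists_conj_S hg rfl
    (zpowers_le.mpr (mem_centralizer_singleton_iff.mpr F.t_z.symm)) hz2 (fun x hx => by
      obtain ⟨n, rfl⟩ := mem_zpowers_iff.mp hx
      exact ((show Commute z u from hgz.symm).zpow_left n).eq)
  set z₁ := k * z * k⁻¹ with hz1
  have hz1S : z₁ ∈ F.Ssub := hk z (mem_zpowers z)
  obtain ⟨p, hp, hpE⟩ := F.zType_S hz1S (isConj_iff.mpr ⟨k⁻¹, by rw [hz1]; group⟩)
  have hcard := F.card_cent hp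
  have h16 := line_lower p hpE
  have hle : cj k⁻¹ (F.Ssub ⊓ centralizer ({z₁} : Set G)) ≤ F.Tsub ⊓ centralizer ({u} : Set G) := by
    intro x hx
    rw [mem_cj, inv_inv] at hx
    obtain ⟨hxS, hx1⟩ := hx
    have hx1' := mem_centralizer_singleton_iff.mp hx1
    have hxv := F.S_comm_v hxS
    have hxt := (F.mem_T.mp (F.S_le_T hxS)).2
    refine ⟨F.mem_T.mpr ⟨?_, ?_⟩, mem_centralizer_singleton_iff.mpr ?_⟩
    · calc x * z = k⁻¹ * (k * x * k⁻¹ * z₁) * k := by rw [hz1]; group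
        _ = z * x := by rw [hx1', hz1]; group
    · have hkt' : k * t * k⁻¹ = t := mul_inv_eq_iff_eq_mul.mpr hkt
      calc x * t = k⁻¹ * (k * x * k⁻¹ * (k * t * k⁻¹)) * k := by group
        _ = k⁻¹ * (k * t * k⁻¹ * (k * x * k⁻¹)) * k := by rw [hkt', hxt]
        _ = t * x := by group
    · calc x * u = k⁻¹ * (k * x * k⁻¹ * (k * u * k⁻¹)) * k := by group
        _ = k⁻¹ * (k * u * k⁻¹ * (k * x * k⁻¹)) * k := by rw [hku, hxv]
        _ = u * x := by group
  have h1 := (card_le_of_le hle).trans (F.card_cent_out huT huS)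
  rw [card_cj, hcard] at h1
  omega

/-- Case of a translate by `⟨z, s⟩`. -/
theorem no_center {g l : G} (hg : g * t = t * g) (hl : W[l, 0]) (hv : g * F.vv * g⁻¹ = F.vv * l) :
    l = 1 := by
  haveI : Fact (Nat.Prime 2) := ⟨Nat.prime_two⟩
  have hSl : ∀ x ∈ F.Ssub, Commute x l := by
    intro x hx
    obtain ⟨i, j, rfl⟩ := isW_eq_tt F.P hl
    exact commute_tt F.P (F.mem_T.mp (F.S_le_T hx)).1 (F.S_comm_s hx) i j
  obtain ⟨k, hkt, hku, hk⟩ := F.exists_conj_S hg hv (fun x hx => (F.S_le_T hx).2) F.S_two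
    (fun x hx => ((show Commute x F.vv from F.S_comm_v hx).mul_right (hSl x hx)).eq)
  -- `k⁻¹` maps `v` to `v l` and normalises `S`
  have heq : cj k F.Ssub = F.Ssub :=
    eq_of_le_of_card_ge (fun x hx => by
      have := hk _ (mem_cj.mp hx)
      rwa [show k * (k⁻¹ * x * k) * k⁻¹ = x by group] at this) (card_cj k F.Ssub).ge
  have hcen : ∀ y, W[y, 0] → (y = 1 ∨ IsConj y z) → Commute om (k * y * k⁻¹) := by
    intro y hy hcase
    rcases hcase with rfl | hyz
    · simp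
    have hyS : y ∈ F.Ssub := F.mem_S.mpr ⟨0, hy, bil_tb_zero⟩
    obtain ⟨p, hp, hpE⟩ := F.zType_S (hk y hyS)
      ((isConj_iff.mpr ⟨k⁻¹, by group⟩ : IsConj (k * y * k⁻¹) y).trans hyz)
    have hp0 : p = 0 := wit_detect p hpE fun q hq => by
      obtain ⟨r, hr⟩ := isW_exists F.P q
      have hrS : r ∈ F.Ssub := F.mem_S.mpr ⟨q, hr, (inE_props q (wit_mem q hq)).2.2.1⟩
      rw [← heq, mem_cj] at hrS
      refine (isW_commute_iff F.P hp hr).mp ?_
      have hc : y * (k⁻¹ * r * k) = k⁻¹ * r * k * y := by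
        obtain ⟨i, j, rfl⟩ := isW_eq_tt F.P hy
        exact (commute_tt F.P (F.mem_T.mp (F.S_le_T hrS)).1 (F.S_comm_s hrS) i j).eq.symm
      calc k * y * k⁻¹ * r = k * (y * (k⁻¹ * r * k)) * k⁻¹ := by group
        _ = r * (k * y * k⁻¹) := by rw [hc]; group
    exact F.commute_om_zero (hp0 ▸ hp)
  have hl' : l = 1 ∨ IsConj l z := by
    by_cases e : l = 1
    · exact Or.inl e
    · obtain ⟨i, j, rfl⟩ := isW_eq_tt F.P hl
      exact Or.inr ((F.isConj_z_iff hl (tt_self F.P i j) e).mpr (by decide))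
  have hki : k⁻¹ * t = t * k⁻¹ := ((show Commute k t from hkt).inv_left).eq
  refine F.canon (g := k⁻¹) hki (F.commute_om_zero hl) ?_ ?_ ?_ ?_
  · simpa using hcen z F.isW_z (Or.inr (IsConj.refl z))
  · simpa using hcen s F.isW_s (Or.inr (F.P.conj_Q F.P.hs F.P.ss F.P.s_ne))
  · simpa using hcen l hl hl'
  · calc k⁻¹ * F.vv * k⁻¹⁻¹ = k⁻¹ * (k * (F.vv * l) * k⁻¹) * k⁻¹⁻¹ := by rw [hku]
      _ = F.vv * l := by group

theorem tv2 : t * F.vv * (t * F.vv) = 1 := by
  calc t * F.vv * (t * F.vv) = t * (F.vv * t) * F.vv := by group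
    _ = t * t * (F.vv * F.vv) := by rw [← F.tv_comm]; group
    _ = 1 := by rw [F.t2, F.v2, mul_one]

/-- Case of a translate by an element of a line. -/
theorem no_line {g l : G} {p : R2} (hg : g * t = t * g) (hl : W[l, p]) (hp : InE p)
    (hl2 : l * l = 1) (hv : g * F.vv * g⁻¹ = F.vv * l) : l = 1 := by
  haveI : Fact (Nat.Prime 2) := ⟨Nat.prime_two⟩
  by_cases hp0 : p = 0
  · exact F.no_center hg (hp0 ▸ hl) hv
  exfalso
  have hl1 : l ≠ 1 := fun e => hp0 (isW_unique F.P hl (e.symm ▸ isW_one F.P))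
  have hlz : IsConj l z := (F.isConj_z_iff hl hl2 hl1).mpr (inE_props p hp).1
  have hlS : l ∈ F.Ssub := F.mem_S.mpr ⟨p, hl, (inE_props p hp).2.2.1⟩
  set u := F.vv * l with hu
  set R := F.Ssub ⊓ centralizer ({l} : Set G) with hR
  have hRcard : Nat.card R ≤ 64 := by
    have h1 := cent_line p hp hp0
    have h2 := F.card_cent hl
    rw [← hR] at h2
    omega
  obtain ⟨k, hkt, hku, hk⟩ := F.exists_conj_S (P := R) hg hv
    (fun x hx => (F.S_le_T hx.1).2) (F.S_two.to_le inf_le_left)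
    (fun x hx => ((show Commute x F.vv from F.S_comm_v hx.1).mul_right
      (mem_centralizer_singleton_iff.mp hx.2)).eq)
  set P' := cj k⁻¹ F.Ssub with hP'
  have hP'mem : ∀ x ∈ P', x * t = t * x ∧ x * u = u * x := by
    intro x hx
    rw [hP', mem_cj, inv_inv] at hx
    have hxt := (F.mem_T.mp (F.S_le_T hx)).2
    have hxv := F.S_comm_v hx
    refine ⟨?_, ?_⟩
    · have hkt' : k * t * k⁻¹ = t := mul_inv_eq_iff_eq_mul.mpr hkt
      calc x * t = k⁻¹ * (k * x * k⁻¹ * (k * t * k⁻¹)) * k := by group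
        _ = k⁻¹ * (k * t * k⁻¹ * (k * x * k⁻¹)) * k := by rw [hkt', hxt]
        _ = t * x := by group
    · calc x * u = k⁻¹ * (k * x * k⁻¹ * (k * u * k⁻¹)) * k := by group
        _ = k⁻¹ * (k * u * k⁻¹ * (k * x * k⁻¹)) * k := by rw [hku, hxv]
        _ = u * x := by group
  have hP'2 : IsPGroup 2 P' := isPGroup_cj k⁻¹ F.S_two
  have hRP : R ≤ P' := fun x hx => by rw [hP', mem_cj, inv_inv]; exact hk x hx
  have hne : R ≠ P' := fun e => by
    have h1 : Nat.card P' = 256 := by rw [hP', card_cj, F.card_S]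
    rw [← e] at h1
    omega
  obtain ⟨x, hxP, hxR, hxn⟩ := exists_normalizing hRP hP'2 hne
  obtain ⟨hxt, hxu⟩ := hP'mem x hxP
  have hzType : ∀ y ∈ R, IsConj y z → ∃ q, W[x⁻¹ * y * x, q] ∧ InE q := fun y hy hyz =>
    F.zType_S (hxn y hy).1.1 ((isConj_iff.mpr ⟨x, by group⟩ : IsConj (x⁻¹ * y * x) y).trans hyz)
  have hzR : z ∈ R := ⟨F.z_mem_S, mem_centralizer_singleton_iff.mpr (isW_cz F.P hl).1.symm⟩
  have hsR : s ∈ R := ⟨F.s_mem_S, mem_centralizer_singleton_iff.mpr (isW_cz F.P hl).2.symm⟩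
  have hlR : l ∈ R := ⟨hlS, mem_centralizer_singleton_iff.mpr rfl⟩
  have hzz := hzType z hzR (IsConj.refl z)
  have hss := hzType s hsR (F.P.conj_Q F.P.hs F.P.ss F.P.s_ne)
  set l' := x * l * x⁻¹ with hl'
  obtain ⟨q', hq', hq'E⟩ := F.zType_S (hxn l hlR).2.1
    ((isConj_iff.mpr ⟨x⁻¹, by rw [hl']; group⟩ : IsConj l' l).trans hlz)
  obtain ⟨q'', hq'', hq''E⟩ := hzType l hlR hlz
  have hll' : l * l' = l' * l := (mem_centralizer_singleton_iff.mp (hxn l hlR).2.2).symm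
  have hll'' : l * (x⁻¹ * l * x) = x⁻¹ * l * x * l :=
    (mem_centralizer_singleton_iff.mp (hxn l hlR).1.2).symm
  set e := l * l' with he
  have heW : W[e, p + q'] := isW_mul F.P hl hq'
  have heE : InE (p + q') := inE_add p hp q' hq'E ((isW_commute_iff F.P hl hq').mp hll')
  have hxe : x⁻¹ * e * x = x⁻¹ * l * x * l := by rw [he, hl']; group
  have heE' : InE (q'' + p) :=
    inE_add q'' hq''E p hp ((isW_commute_iff F.P hq'' hl).mp hll''.symm)
  have hlinv : l⁻¹ = l := inv_eq_of_mul_eq_one_left hl2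
  have hxv : x * F.vv * x⁻¹ = F.vv * e := by
    calc x * F.vv * x⁻¹ = x * u * x⁻¹ * (x * l * x⁻¹)⁻¹ := by rw [hu]; group
      _ = u * (x * l * x⁻¹)⁻¹ := by rw [mul_inv_eq_iff_eq_mul.mpr hxu]
      _ = u * (x * l * x⁻¹) := by
        rw [show (x * l * x⁻¹)⁻¹ = x * l⁻¹ * x⁻¹ by group, hlinv]
      _ = F.vv * e := by rw [hu, he, hl', mul_assoc]
  have he1 : e = 1 := by
    refine F.canon hxt (F.commute_om_inE heW heE) ?_ ?_ ?_ hxv
    · obtain ⟨q, hq, hqE⟩ := hzz; exact F.commute_om_inE hq hqE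
    · obtain ⟨q, hq, hqE⟩ := hss; exact F.commute_om_inE hq hqE
    · rw [hxe]; exact F.commute_om_inE (isW_mul F.P hq'' hl) heE'
  have hxl : x * l = l * x := by
    rw [← mul_inv_eq_iff_eq_mul, ← hl', ← inv_eq_of_mul_eq_one_right he1, hlinv]
  have hxvv : x * F.vv = F.vv * x := by
    rw [he1, mul_one] at hxv; exact mul_inv_eq_iff_eq_mul.mp hxv
  -- a subgroup of order at least `128` centralising `v` and `l`
  obtain ⟨f, hft, hfl⟩ := F.z_class (F.mem_T.mp (F.S_le_T hlS)).2 hlz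
  set M := P' ⊓ centralizer ({F.vv} : Set G) ⊓ centralizer ({l} : Set G) with hM
  have hRM : R < M := by
    refine lt_of_le_of_ne (fun y hy => ⟨⟨hRP hy, mem_centralizer_singleton_iff.mpr
      (F.S_comm_v hy.1)⟩, hy.2⟩) fun e' => hxR ?_
    rw [e']
    exact ⟨⟨hxP, mem_centralizer_singleton_iff.mpr hxvv⟩, mem_centralizer_singleton_iff.mpr hxl⟩
  have hMcard : 128 ≤ Nat.card M := by
    have hM2 : IsPGroup 2 M := hP'2.to_le (inf_le_left.trans inf_le_left)
    obtain ⟨n, hn⟩ := IsPGroup.iff_card.mp hM2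
    have h1 := F.card_cent hl
    have h2 := line_lower p hp
    rw [← hR] at h1
    have h3 : Nat.card R < Nat.card M := by
      by_contra hle
      exact hRM.ne (eq_of_le_of_card_ge hRM.le (not_lt.mp hle))
    rw [hn] at h3 ⊢
    have : 7 ≤ n := by
      by_contra hn7
      have := Nat.pow_le_pow_right (show 1 ≤ 2 by norm_num) (show n ≤ 6 by omega)
      omega
    calc (128 : ℕ) = 2 ^ 7 := by norm_num
      _ ≤ 2 ^ n := Nat.pow_le_pow_right (by norm_num) this
  set u' := f * F.vv * f⁻¹ with hu'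
  have hu'z : u' * z = z * u' := by
    calc u' * z = f * F.vv * f⁻¹ * (f * l * f⁻¹) := by rw [hfl]
      _ = f * l * f⁻¹ * (f * F.vv * f⁻¹) := by
        rw [conj_mul, conj_mul, F.S_comm_v hlS]
      _ = z * u' := by rw [hfl]
  have hu'S := F.conj_mem_S hft hu'z
  have hMle : cj f M ≤ F.Tsub ⊓ centralizer ({u'} : Set G) := by
    intro y hy
    rw [mem_cj] at hy
    obtain ⟨⟨hy1, hy2⟩, hy3⟩ := hy
    have hy2' := mem_centralizer_singleton_iff.mp hy2
    have hy3' := mem_centralizer_singleton_iff.mp hy3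
    refine ⟨F.mem_T.mpr ⟨?_, ?_⟩, mem_centralizer_singleton_iff.mpr ?_⟩
    · rw [← hfl]
      calc y * (f * l * f⁻¹) = f * (f⁻¹ * y * f * l) * f⁻¹ := by group
        _ = f * l * f⁻¹ * y := by rw [hy3']; group
    · have hft' : f⁻¹ * t * f = t := by rw [mul_assoc, ← hft, inv_mul_cancel_left]
      calc y * t = f * (f⁻¹ * y * f * (f⁻¹ * t * f)) * f⁻¹ := by group
        _ = f * (f⁻¹ * t * f * (f⁻¹ * y * f)) * f⁻¹ := by rw [hft', (hP'mem _ hy1).1]
        _ = t * y := by group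
    · rw [hu']
      calc y * (f * F.vv * f⁻¹) = f * (f⁻¹ * y * f * F.vv) * f⁻¹ := by group
        _ = f * F.vv * f⁻¹ * y := by rw [hy2']; group
  have hbig : 128 ≤ Nat.card (F.Tsub ⊓ centralizer ({u'} : Set G) : Subgroup G) := by
    have := card_le_of_le hMle
    rw [card_cj] at this
    omega
  obtain ⟨r, hr, hrb⟩ := F.mem_S.mp hu'S
  have hu2 : u' * u' = 1 := by rw [hu', conj_mul, F.v2, mul_one, mul_inv_cancel]
  have hu1 : u' ≠ 1 := fun e' => F.v_ne (conj_eq_one_iff.mp e')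
  -- residues of the conjugate
  have hsmall : ∀ x' q0, (x' = vb ∨ x' = tb + vb) → r = x' + q0 → InE q0 → q0 = 0 := by
    intro x' q0 hx' hrx hq0
    by_contra hne0
    have hout : ∀ c ∈ F.Tsub, c * u' = u' * c → c ∈ F.Ssub := by
      intro c hc hcu
      by_contra hcS
      have h1 := F.T_out hc hcS hr
      rw [mul_inv_eq_iff_eq_mul.mpr hcu] at h1
      have h2 := isW_unique F.P h1 hr
      rw [hrx] at h2
      rcases hx' with rfl | rfl
      · exact (inE_out q0 hq0).1 h2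
      · exact (inE_out q0 hq0).2 h2
    have hle : (F.Tsub ⊓ centralizer ({u'} : Set G) : Subgroup G) ≤
        F.Ssub ⊓ centralizer ({u'} : Set G) :=
      fun c hc => ⟨hout c hc.1 (mem_centralizer_singleton_iff.mp hc.2), hc.2⟩
    have h1 := hbig.trans (card_le_of_le hle)
    rw [F.card_cent hr] at h1
    have h2 : (Finset.univ.filter fun q : R2 => bil tb q = 0 ∧ bil r q = 0) =
        Finset.univ.filter fun q : R2 => bil tb q = 0 ∧ bil q0 q = 0 := by
      refine Finset.filter_congr fun q _ => and_congr_right fun hq => ?_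
      rw [hrx, bil_add_left]
      rcases hx' with rfl | rfl
      · rw [(bil_shift q hq).1, zero_add]
      · rw [(bil_shift q hq).2, zero_add]
    rw [h2] at h1
    have h3 := cent_line q0 hq0 hne0
    omega
  have hqr : qU r.1 = 1 := by
    rcases two_cases' (qU r.1) with e' | e'
    · exact absurd ((isConj_iff.mpr ⟨f, rfl⟩ : IsConj F.vv u').trans
        ((F.isConj_z_iff hr hu2 hu1).mpr e')) F.v_not_z
    · exact e'
  have hrec : ∀ x' q0, r = x' + q0 → q0 = r + x' := fun x' q0 e' => by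
    rw [e', add_comm x' q0, add_assoc, add_self_R2, add_zero]
  have hadd : ∀ x' : R2, r = x' + (r + x') := fun x' => by
    rw [add_comm r x', ← add_assoc, add_self_R2, zero_add]
  rcases invol_cases r hrb (F.sqv_zero hr hu2) with ⟨e0, -⟩ | ⟨-, hcase⟩
  · rw [hqr] at e0; exact one_ne_zero e0
  -- the product with `z` is again a conjugate
  have hconj2 : f * g * F.vv * (f * g)⁻¹ = u' * z := by
    calc f * g * F.vv * (f * g)⁻¹ = f * (g * F.vv * g⁻¹) * f⁻¹ := by group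
      _ = f * F.vv * f⁻¹ * (f * l * f⁻¹) := by rw [hv, hu]; group
      _ = u' * z := by rw [hfl]
  have hfg : f * g * t = t * (f * g) := ((show Commute f t from hft).mul_left hg).eq
  rcases hcase with hc | hc | hc
  · have hW := isW_mul F.P F.ht hr
    rw [add_comm] at hW
    have hgv : f * (t * F.vv) * f⁻¹ = t * u' := by
      rw [hu', ← conj_mul, mul_inv_eq_iff_eq_mul.mpr hft]
    have h2' : t * u' * (t * u') = 1 := by
      rw [← hgv, conj_mul, F.tv2, mul_one, mul_inv_cancel]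
    have h1' : t * u' ≠ 1 := fun e' => by
      rw [← hgv] at e'
      exact tb_ne.2.2.1 (isW_unique F.P (isW_mul F.P F.ht F.hv)
        ((conj_eq_one_iff.mp e').symm ▸ isW_one F.P))
    exact F.tv_not_z ((isConj_iff.mpr ⟨f, hgv⟩ : IsConj (t * F.vv) (t * u')).trans
      ((F.isConj_z_iff hW h2' h1').mpr (inE_props _ hc).1))
  · have h0 := hsmall vb (r + vb) (Or.inl rfl) (hadd vb) hc
    have hr' : r = vb := by rw [hadd vb, h0, add_zero]
    rw [hr'] at hr
    obtain ⟨i, j, hij⟩ := isW_mul_tt F.P F.hv hr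
    have hd := F.no_center hft (isW_tt F.P i j) hij
    rw [hd, mul_one] at hij
    replace hconj2 := hconj2.trans (congrArg (fun y => y * z) hij)
    exact h.z_ne (F.no_center hfg F.isW_z hconj2)
  · have h0 := hsmall (tb + vb) (r + (tb + vb)) (Or.inr rfl) (hadd _) hc
    have hr' : r = tb + vb := by rw [hadd (tb + vb), h0, add_zero]
    rw [hr'] at hr
    obtain ⟨i, j, hij⟩ := isW_mul_tt F.P (isW_mul F.P F.ht F.hv) hr
    have hflip : ∀ m y, m * t = t * m → W[y, 0] → m * F.vv * m⁻¹ = t * F.vv * y → y = 1 := by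
      intro m y hm hy hmv
      have h1 : hh * m * F.vv * (hh * m)⁻¹ = F.vv * (hh * y * hh⁻¹) := by
        calc hh * m * F.vv * (hh * m)⁻¹ = hh * (m * F.vv * m⁻¹) * hh⁻¹ := by group
          _ = hh * (t * F.vv) * hh⁻¹ * (hh * y * hh⁻¹) := by rw [hmv]; group
          _ = _ := by rw [F.hh_tv]
      have hy' := F.hh_conj y 0 hy
      rw [phiR_zero] at hy'
      exact conj_eq_one_iff.mp (F.no_center
        ((show Commute hh t from F.hh_t).mul_left hm).eq hy' h1)
    have hd := hflip f _ hft (isW_tt F.P i j) hij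
    rw [hd, mul_one] at hij
    replace hconj2 := hconj2.trans (congrArg (fun y => y * z) hij)
    exact h.z_ne (hflip _ z hfg F.isW_z hconj2)

/-- The fusion of `v` in `T`. -/
theorem fusion {g : G} (hg : g * t = t * g)
    (hgz : g * F.vv * g⁻¹ * z = z * (g * F.vv * g⁻¹)) :
    g * F.vv * g⁻¹ = F.vv ∨ g * F.vv * g⁻¹ = t * F.vv := by
  set u := g * F.vv * g⁻¹ with hu
  have huS := F.conj_mem_S hg hgz
  have hu2 : u * u = 1 := by rw [hu, conj_mul, F.v2, mul_one, mul_inv_cancel]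
  have hu1 : u ≠ 1 := fun e => F.v_ne (conj_eq_one_iff.mp e)
  obtain ⟨r, hr, hrb⟩ := F.mem_S.mp huS
  have hut := (F.mem_T.mp (F.S_le_T huS)).2
  have huv := F.S_comm_v huS
  rcases invol_cases r hrb (F.sqv_zero hr hu2) with ⟨e0, -⟩ | ⟨-, hcase⟩
  · exact absurd ((isConj_iff.mpr ⟨g, rfl⟩ : IsConj F.vv u).trans
      ((F.isConj_z_iff hr hu2 hu1).mpr e0)) F.v_not_z
  have hgt' : g * t * g⁻¹ = t := mul_inv_eq_iff_eq_mul.mpr hg
  have hx2 : ∀ x : G, x * x = 1 → x * u = u * x → x * u * (x * u) = 1 := fun x hx hxu => by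
    calc x * u * (x * u) = x * (u * x) * u := by group
      _ = x * x * (u * u) := by rw [← hxu]; group
      _ = 1 := by rw [hx, hu2, mul_one]
  rcases hcase with hc | hc | hc
  · exfalso
    have hW := isW_mul F.P F.ht hr
    rw [add_comm] at hW
    have h1' : t * u ≠ 1 := fun e => by
      have := (inv_eq_of_mul_eq_one_right e).symm
      rw [F.t_inv] at this
      have h4 : F.vv = t := mul_left_cancel (mul_right_cancel
        ((this.trans hgt'.symm) : g * F.vv * g⁻¹ = g * t * g⁻¹))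
      have h5 : IsW h s w t vb := h4 ▸ F.hv
      exact tb_ne.2.2.2 (isW_unique F.P F.ht h5)
    have hconj : g * (t * F.vv) * g⁻¹ = t * u := by rw [← conj_mul, hgt']
    exact F.tv_not_z ((isConj_iff.mpr ⟨g, hconj⟩ : IsConj (t * F.vv) (t * u)).trans
      ((F.isConj_z_iff hW (hx2 t F.t2 hut.symm) h1').mpr (inE_props _ hc).1))
  · left
    have hW := isW_mul F.P F.hv hr
    rw [add_comm] at hW
    have hl := F.no_line hg hW hc (hx2 _ F.v2 huv.symm)
      (by rw [← mul_assoc, F.v2, one_mul])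
    exact (inv_eq_of_mul_eq_one_right hl).symm.trans F.v_inv
  · right
    have hW := isW_mul F.P (isW_mul F.P F.ht F.hv) hr
    rw [add_comm] at hW
    set l := t * F.vv * u with hl0
    have htv2 := F.tv2
    have hl2 : l * l = 1 := hx2 _ htv2
      ((show Commute u t from hut).mul_right huv).eq.symm
    have hul : u = t * F.vv * l := by rw [hl0, ← mul_assoc, htv2, one_mul]
    have hgh : hh * g * F.vv * (hh * g)⁻¹ = F.vv * (hh * l * hh⁻¹) := by
      calc hh * g * F.vv * (hh * g)⁻¹ = hh * u * hh⁻¹ := by rw [hu]; group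
        _ = hh * (t * F.vv) * hh⁻¹ * (hh * l * hh⁻¹) := by
          conv_lhs => rw [hul]
          group
        _ = _ := by rw [F.hh_tv]
    have hE : InE (phiR (r + (tb + vb))) := (inE_props _ hc).2.2.2.2.1
    have h1 := F.no_line ((show Commute hh t from F.hh_t).mul_left hg).eq (F.hh_conj _ _ hW) hE
      (by rw [conj_mul, hl2, mul_one, mul_inv_cancel]) hgh
    rw [conj_eq_one_iff] at h1
    rw [hul, h1, mul_one]

end Cfsg.Agent.H55.Suz.Frame
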