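import Cfsg.Agent.H55.Suz.Frame

/-!
The subgroups `S = C_W(t)` and `T = C(z) ∩ C(t)`, and the types of involutions.
-/

set_option autoImplicit false
set_option linter.unusedSectionVars false
set_option linter.style.haveILetI false
set_option synthInstance.maxSize 4000
set_option synthInstance.maxHeartbeats 400000
set_option maxRecDepth 20000

namespace Cfsg.Agent.H55.Suz

open Cfsg.Agent.H73.Suz QuadraticMap Cfsg.Agent.Orthogonal Cfsg.Agent.H92.ExtraForm Subgroup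

variable {G : Type*} [Group G] [Finite G] {z : G} {Q : Subgroup G}

/-- `W` as a subgroup. -/
def Wsub {h : Setup z Q} {s w : G} (P : Pair h s w) : Subgroup G where
  carrier := {x | ∃ p, IsW h s w x p}
  one_mem' := ⟨0, isW_one P⟩
  mul_mem' := fun ⟨_, ha⟩ ⟨_, hb⟩ => ⟨_, isW_mul P ha hb⟩
  inv_mem' := fun ⟨_, ha⟩ => ⟨_, isW_inv P ha⟩

namespace Frame

variable {h : Setup z Q} {s w t om hh : G} (F : Frame h s w t om hh)

/-- The first conjugate of `t`. -/
def vv (_F : Frame h s w t om hh) : G := om * t * om⁻¹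

/-- The group `S`. -/
def Ssub : Subgroup G := Wsub F.P ⊓ centralizer ({t} : Set G)

/-- The group `T`. -/
def Tsub (_F : Frame h s w t om hh) : Subgroup G :=
  centralizer ({z} : Set G) ⊓ centralizer ({t} : Set G)

include F

local notation "W[" x ", " p "]" => IsW h s w x p

theorem t_z : t * z = z * t := (isW_cz F.P F.ht).1

theorem t_s : t * s = s * t := (isW_cz F.P F.ht).2

theorem om_conj {x : G} {p : R2} (hx : W[x, p]) : W[om * x * om⁻¹, omR p] := by
  have := isW_conj F.P F.om_z F.om_s hx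
  rwa [F.om_res, F.om_res] at this

theorem hv : W[F.vv, vb] := omR_tb ▸ F.om_conj F.ht

theorem v2 : F.vv * F.vv = 1 := by rw [vv, conj_mul, F.t2, mul_one, mul_inv_cancel]

theorem t_inv : t⁻¹ = t := inv_eq_of_mul_eq_one_left F.t2

theorem v_inv : F.vv⁻¹ = F.vv := inv_eq_of_mul_eq_one_left F.v2

theorem tv_comm : t * F.vv = F.vv * t := (isW_commute_iff F.P F.ht F.hv).mpr bil_tb_vb

theorem om_v : om * F.vv * om⁻¹ = t * F.vv := by
  have e : t * F.vv * (om * F.vv * om⁻¹) = 1 := F.orbit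
  rw [← inv_eq_of_mul_eq_one_right e, mul_inv_rev, F.t_inv, F.v_inv, F.tv_comm]

theorem om_tv : om * (t * F.vv) * om⁻¹ = t := by
  calc om * (t * F.vv) * om⁻¹ = (om * t * om⁻¹) * (om * F.vv * om⁻¹) := by group
    _ = F.vv * (t * F.vv) := by rw [F.om_v]; rfl
    _ = t := by rw [F.tv_comm, ← mul_assoc, F.v2, one_mul]

theorem mem_S {x : G} : x ∈ F.Ssub ↔ ∃ p, W[x, p] ∧ bil tb p = 0 := by
  constructor
  · rintro ⟨⟨p, hp⟩, hx⟩
    exact ⟨p, hp, (isW_commute_iff F.P F.ht hp).mp (mem_centralizer_singleton_iff.mp hx).symm⟩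
  · rintro ⟨p, hp, hb⟩
    exact ⟨⟨p, hp⟩, mem_centralizer_singleton_iff.mpr ((isW_commute_iff F.P F.ht hp).mpr hb).symm⟩

theorem mem_T {x : G} : x ∈ F.Tsub ↔ x * z = z * x ∧ x * t = t * x :=
  ⟨fun hx => ⟨mem_centralizer_singleton_iff.mp hx.1, mem_centralizer_singleton_iff.mp hx.2⟩,
    fun hx => ⟨mem_centralizer_singleton_iff.mpr hx.1, mem_centralizer_singleton_iff.mpr hx.2⟩⟩

theorem S_le_T : F.Ssub ≤ F.Tsub := fun x hx => by
  obtain ⟨p, hp, hb⟩ := F.mem_S.mp hx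
  exact F.mem_T.mpr ⟨(isW_cz F.P hp).1, ((isW_commute_iff F.P F.ht hp).mpr hb).symm⟩

theorem S_comm_s {x : G} (hx : x ∈ F.Ssub) : x * s = s * x := by
  obtain ⟨p, hp, -⟩ := F.mem_S.mp hx
  exact (isW_cz F.P hp).2

theorem S_comm_v {x : G} (hx : x ∈ F.Ssub) : x * F.vv = F.vv * x := by
  obtain ⟨p, hp, hb⟩ := F.mem_S.mp hx
  exact ((isW_commute_iff F.P F.hv hp).mpr ((bil_vb_iff p).mp hb)).symm

theorem S_of_W_comm_v {x : G} {p : R2} (hp : W[x, p]) (hc : x * F.vv = F.vv * x) : x ∈ F.Ssub :=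
  F.mem_S.mpr ⟨p, hp, (bil_vb_iff p).mpr ((isW_commute_iff F.P F.hv hp).mp hc.symm)⟩

theorem tt_mem_S (i j : ZMod 2) : tt z s i j ∈ F.Ssub :=
  F.mem_S.mpr ⟨0, isW_tt F.P i j, by decide⟩

theorem z_mem_S : z ∈ F.Ssub := by simpa [tt, zp] using F.tt_mem_S 1 0

theorem s_mem_S : s ∈ F.Ssub := by simpa [tt, zp] using F.tt_mem_S 0 1

theorem t_mem_S : t ∈ F.Ssub := F.mem_S.mpr ⟨tb, F.ht, by decide⟩

theorem v_mem_S : F.vv ∈ F.Ssub := F.mem_S.mpr ⟨vb, F.hv, bil_tb_vb⟩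

theorem hh_mem_T : hh ∈ F.Tsub := F.mem_T.mpr ⟨F.hh_z, F.hh_t⟩

theorem hh_notMem : hh ∉ F.Ssub := fun e => by
  have h1 := F.hh_s
  rw [mul_inv_eq_iff_eq_mul.mpr (F.S_comm_s e)] at h1
  exact h.z_ne (left_eq_mul.mp h1)

/-- An element of `C(z) ∩ C(t)` fixing `v0` and `s` lies in `W`. -/
theorem W_of_fix {c : G} (hc : c * z = z * c) (hcs : c * s = s * c) (hct : c * t = t * c) :
    c ∈ F.Ssub := by
  obtain ⟨q0, b0, hq0, hb0, e0, ea, eu⟩ := F.ht
  have hfix := isW_conj F.P hc hcs F.ht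
  rw [mul_inv_eq_iff_eq_mul.mpr hct] at hfix
  have hp := isW_unique F.P hfix F.ht
  have hla : res (h.ρ c) a0 = a0 := congrArg Prod.fst hp
  have hlu : res (h.ρ c) u0 = u0 := congrArg Prod.snd hp
  set l := h.ρ c with hl
  have hlv := F.P.rho_fix hc hcs
  have hperp : ∀ a : U4, polar (⇑phi) v0 (emb a) = 0 := fun a => by rw [polar_v0]; rfl
  have hlp : ∀ a : U4, polar (⇑phi) v0 ((l : V6 ≃ₗ[ZMod 2] V6) (emb a)) = 0 := fun a => by
    rw [polar_fixed hlv, hperp]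
  have hlf : ∀ a b : U4, fU (res l a) (res l b) = fU a b := fun a b => by
    have := O.polar_app l (emb a) (emb b)
    rw [polar_of_perp (hlp a) (hlp b), polar_emb, emb_snd] at this
    exact this
  have hlq : ∀ a : U4, qU (res l a) = qU a := fun a => by
    have := O.map_app l (emb a)
    rwa [phi_of_perp (hlp a), phi_emb] at this
  have hladd : ∀ a b : U4, res l (a + b) = res l a + res l b := fun a b => by
    rw [res, show emb (a + b) = emb a + emb b from by simp [emb], map_add]; rfl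
  have hlzero : res l 0 = 0 := by rw [res, show emb 0 = (0 : V6) from rfl, map_zero]; rfl
  have hite : ∀ (t : ZMod 2) (v : U4), res l (if t = 1 then v else 0) =
      if t = 1 then res l v else 0 := fun t v => by split_ifs <;> simp [hlzero]
  have hexp : ∀ a : U4, res l a = (if a.1 = 1 then res l (1, 0, 0, 0) else 0) +
      (if a.2.1 = 1 then res l (0, 1, 0, 0) else 0) +
      (if a.2.2.1 = 1 then a0 else 0) + (if a.2.2.2 = 1 then u0 else 0) := fun a => by
    conv_lhs => rw [basis_expand a]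
    rw [hladd, hladd, hladd, hite, hite, hite, hite]
    conv_rhs => rw [← hla, ← hlu]
    rfl
  rcases stab_pair (res l (1, 0, 0, 0)) (res l (0, 1, 0, 0)) (by rw [hlq]; decide) (by rw [hlq]; decide)
    (by rw [hlf]; decide) (by rw [← hla, hlf]; decide) (by rw [← hlu, hlf]; decide)
    (by rw [← hla, hlf]; decide) (by rw [← hlu, hlf]; decide) with hp | hp
  · obtain ⟨p, hpW⟩ := isW_of_res F.P hc hcs fun a => (hexp a).trans (res_cases _ _ hp a)
    exact ⟨⟨p, hpW⟩, mem_centralizer_singleton_iff.mpr hct⟩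
  · exfalso
    have hphic : phi (emb c0) ≠ 0 := by rw [phi_emb, qU_c0]; exact one_ne_zero
    set k' := rO phi (emb c0) * l with hk'
    have happ : ∀ p, (k' : V6 ≃ₗ[ZMod 2] V6) p =
        (((l : V6 ≃ₗ[ZMod 2] V6) p).1, tU c0 ((l : V6 ≃ₗ[ZMod 2] V6) p).2) := fun p => by
      rw [hk', Subgroup.coe_mul, mul_app, rO_emb_app qU_c0]
    obtain ⟨u, hu⟩ := eq_E (g := k') (by rw [happ, hlv]; decide) fun y hy => by
      rw [happ, F.P.res_spec hc hcs hy, hexp, res_cases' _ _ hp, tU_tU]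
    apply rO_not_mem_K hphic
    rw [show rO phi (emb c0) = k' * l⁻¹ by rw [hk', mul_inv_cancel_right], hu]
    exact mul_mem (E_mem_K u) (inv_mem (h.ρ_mem c hc))

/-- An element of `C(z) ∩ C(t)` maps `s` to `s` or to `sz`. -/
theorem T_s {c : G} (hc : c ∈ F.Tsub) : c * s * c⁻¹ = s ∨ c * s * c⁻¹ = s * z := by
  obtain ⟨hcz, hct⟩ := F.mem_T.mp hc
  have hρt : h.ρ t = E u0 := by
    obtain ⟨q0, b0, hq0, hb0, rfl, -, eu⟩ := F.ht
    rw [h.ρ_mul _ _ (F.P.zc hq0) hb0.2, h.ρ_Q hq0.1, one_mul, F.P.rho_B hb0, eu]; rfl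
  have hcomm : h.ρ c * E u0 = E u0 * h.ρ c := by
    rw [← hρt, ← h.ρ_mul _ _ hcz F.t_z, ← h.ρ_mul _ _ F.t_z hcz, hct]
  have hcv : (h.ρ c : V6 ≃ₗ[ZMod 2] V6) v0 = v0 := by
    obtain ⟨e, he⟩ : ∃ e, fU u0 e = 1 := ⟨a0, by decide⟩
    have hA : (E u0 : V6 ≃ₗ[ZMod 2] V6) (emb e) + emb e = v0 := by
      rw [E_app]
      simp only [emb, v0, Prod.mk_add_mk, zero_smul, add_zero, mul_zero, zero_add, he,
        show e + e = 0 from congrArg Prod.snd (add_self' ((0, 0), e))]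
    have h3' := congrArg (h.ρ c : V6 ≃ₗ[ZMod 2] V6) hA
    rw [map_add, ← mul_app, ← Subgroup.coe_mul, hcomm, Subgroup.coe_mul, mul_app] at h3'
    generalize (h.ρ c : V6 ≃ₗ[ZMod 2] V6) (emb e) = r at h3'
    have hne : (h.ρ c : V6 ≃ₗ[ZMod 2] V6) v0 ≠ 0 :=
      fun e' => v0_ne ((LinearEquiv.map_eq_zero_iff _).mp e')
    have hphi : phi ((h.ρ c : V6 ≃ₗ[ZMod 2] V6) v0) = 0 := by rw [O.map_app, phi_v0]
    rw [← h3', E_app] at hne hphi ⊢
    obtain ⟨⟨rc, rd⟩, ru⟩ := r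
    rw [phi_apply] at hphi
    clear h3' hA he hcomm
    revert hne hphi
    revert rc rd ru
    decide
  have hπy : h.π s = h.π (c * s * c⁻¹) := by rw [h.ρ_π c hcz s F.P.hs, F.P.hπ, hcv]
  exact h.π_eq F.P.hs (h.norm c hcz s F.P.hs) hπy

theorem T_cases {c : G} (hc : c ∈ F.Tsub) : c ∈ F.Ssub ∨ hh * c ∈ F.Ssub := by
  obtain ⟨hcz, hct⟩ := F.mem_T.mp hc
  rcases F.T_s hc with e | e
  · exact Or.inl (F.W_of_fix hcz (mul_inv_eq_iff_eq_mul.mp e) hct)
  · refine Or.inr (F.W_of_fix (h.mul_comm' F.hh_z hcz) (mul_inv_eq_iff_eq_mul.mp ?_)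
      ((show Commute hh t from F.hh_t).mul_left hct).eq)
    calc hh * c * s * (hh * c)⁻¹ = hh * (c * s * c⁻¹) * hh⁻¹ := by group
      _ = (hh * s * hh⁻¹) * (hh * z * hh⁻¹) := by rw [e]; group
      _ = s := by rw [F.hh_s, F.hh_z, mul_inv_cancel_right, mul_assoc, h.zz, mul_one]

/-- The elements with residue in a given set. -/
theorem card_fibre (A : Finset R2) : Nat.card {x : G // ∃ p ∈ A, W[x, p]} = 4 * A.card := by
  classical
  choose f hf using fun p => isW_exists F.P p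
  let e : A × (ZMod 2 × ZMod 2) → {x : G // ∃ p ∈ A, W[x, p]} := fun k =>
    ⟨f k.1 * tt z s k.2.1 k.2.2, k.1, k.1.2, by simpa using isW_mul F.P (hf k.1) (isW_tt F.P _ _)⟩
  have he : Function.Bijective e := by
    refine ⟨fun k k' e' => ?_, fun ⟨x, p, hp, hx⟩ => ?_⟩
    · have e1 : f k.1 * tt z s k.2.1 k.2.2 = f k'.1 * tt z s k'.2.1 k'.2.2 :=
        congrArg Subtype.val e'
      have hW : W[f k.1 * tt z s k.2.1 k.2.2, (k.1 : R2)] := by
        simpa using isW_mul F.P (hf k.1) (isW_tt F.P _ _)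
      have hW' : W[f k'.1 * tt z s k'.2.1 k'.2.2, (k'.1 : R2)] := by
        simpa using isW_mul F.P (hf k'.1) (isW_tt F.P _ _)
      have hk := isW_unique F.P hW (e1 ▸ hW')
      rw [hk] at e1
      obtain ⟨a, b⟩ := F.P.tt_inj (mul_left_cancel e1)
      exact Prod.ext (Subtype.ext hk) (Prod.ext a b)
    · obtain ⟨i, j, hij⟩ := isW_mul_tt F.P (hf p) hx
      exact ⟨(⟨p, hp⟩, (i, j)), Subtype.ext hij.symm⟩
  rw [← Nat.card_congr (Equiv.ofBijective e he), Nat.card_prod, Nat.card_eq_finsetCard]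
  simp [mul_comm]

theorem card_S : Nat.card F.Ssub = 256 := by
  classical
  rw [show (256 : ℕ) = 4 * 64 from rfl, ← card_tb, ← F.card_fibre]
  exact Nat.card_congr (Equiv.subtypeEquivRight fun x => by
    simp [F.mem_S, and_comm])

theorem card_T : Nat.card F.Tsub = 512 := by
  classical
  have hset : (F.Tsub : Set G) = (F.Ssub : Set G) ∪ (fun x => hh⁻¹ * x) '' (F.Ssub : Set G) := by
    ext c
    constructor
    · intro hc
      rcases F.T_cases hc with e | e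
      · exact Or.inl e
      · exact Or.inr ⟨hh * c, e, by group⟩
    · rintro (e | ⟨x, hx, rfl⟩)
      · exact F.S_le_T e
      · exact mul_mem (inv_mem F.hh_mem_T) (F.S_le_T hx)
  have hdisj : Disjoint (F.Ssub : Set G) ((fun x => hh⁻¹ * x) '' (F.Ssub : Set G)) := by
    rw [Set.disjoint_left]
    rintro c hc ⟨x, hx, rfl⟩
    exact F.hh_notMem (by simpa using mul_mem hx (inv_mem hc))
  have e : Nat.card F.Tsub = (F.Tsub : Set G).ncard := Nat.card_coe_set_eq _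
  rw [e, hset, Set.ncard_union_eq hdisj (Set.toFinite _) (Set.toFinite _),
    Set.ncard_image_of_injective _ (mul_right_injective _)]
  have : (F.Ssub : Set G).ncard = 256 := by
    rw [← F.card_S]; exact (Nat.card_coe_set_eq _).symm
  omega

theorem S_two : IsPGroup 2 F.Ssub := IsPGroup.of_card (n := 8) (by rw [F.card_S]; rfl)

theorem T_two : IsPGroup 2 F.Tsub := IsPGroup.of_card (n := 9) (by rw [F.card_T]; rfl)

theorem hh_conj_S {x : G} (hx : x ∈ F.Ssub) : hh * x * hh⁻¹ ∈ F.Ssub := by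
  obtain ⟨p, hp, hb⟩ := F.mem_S.mp hx
  refine ⟨⟨_, F.hh_conj x p hp⟩, mem_centralizer_singleton_iff.mpr ?_⟩
  have hxt : Commute x t := ((isW_commute_iff F.P F.ht hp).mpr hb).symm
  exact (((show Commute hh t from F.hh_t).mul_left hxt).mul_left
    (show Commute hh t from F.hh_t).inv_left).eq

theorem hh_sq : hh * hh ∈ F.Ssub := by
  rcases F.T_cases F.hh_mem_T with e | e
  · exact absurd e F.hh_notMem
  · exact e

/-- `T \ S` moves residues by the swap. -/
theorem T_out {c x : G} {p : R2} (hc : c ∈ F.Tsub) (hcS : c ∉ F.Ssub) (hx : W[x, p]) :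
    W[c * x * c⁻¹, phiR p] := by
  have hy := (F.T_cases hc).resolve_left hcS
  obtain ⟨q, hq, -⟩ := F.mem_S.mp (mul_mem (inv_mem F.hh_sq) hy)
  rw [show c * x * c⁻¹ = hh * (((hh * hh)⁻¹ * (hh * c)) * x * ((hh * hh)⁻¹ * (hh * c))⁻¹) * hh⁻¹ by
    group]
  exact F.hh_conj _ _ (isW_conj_W F.P hq hx)

theorem T_out_s {c : G} (hc : c ∈ F.Tsub) (hcS : c ∉ F.Ssub) : c * s * c⁻¹ = s * z := by
  obtain ⟨hcz, hct⟩ := F.mem_T.mp hc
  rcases F.T_s hc with e | e
  · exact absurd (F.W_of_fix hcz (mul_inv_eq_iff_eq_mul.mp e) hct) hcS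
  · exact e

theorem ord_two {x : G} (h2 : x * x = 1) (h1 : x ≠ 1) : orderOf x = 2 :=
  orderOf_eq_prime (by rw [pow_two, h2]) h1

theorem t_ne : t ≠ 1 := fun e =>
  tb_ne.1 (isW_unique F.P F.ht (e.symm ▸ isW_one F.P))

theorem v_ne : F.vv ≠ 1 := fun e =>
  tb_ne.2.1 (isW_unique F.P F.hv (e.symm ▸ isW_one F.P))

theorem conj_W_or {x : G} (hx2 : x * x = 1) (hx1 : x ≠ 1) {q b : G} (hq : InA Q s q)
    (hb : InB z Q w b) (e : x = q * b) :
    IsConj x z ∨ (qU (alpha h q) = 1 ∧ IsConj x t) := by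
  subst e
  by_cases hθ : theta h b = 0
  · left
    obtain ⟨i, j, rfl⟩ := F.P.eq_mul_tt_B (b := (1 : G)) (by simpa [tt, zp] using F.P.tt_InB 0 0) hb
      (by rw [hθ]; simpa [tt, zp] using F.P.theta_tt 0 0)
    exact F.P.conj_Q (mul_mem hq.1 (by rw [one_mul]; exact F.P.tt_Q i j)) hx2 hx1
  rcases F.P.W_cases hq hb hθ hx2 with ⟨v, -, -, -, hvx⟩ | ⟨h1, h2, h3⟩
  · left
    refine (isConj_iff.mpr ⟨v⁻¹, rfl⟩).trans (F.P.conj_Q (by simpa using hvx) ?_ ?_)
    · calc v⁻¹ * (q * b) * v⁻¹⁻¹ * (v⁻¹ * (q * b) * v⁻¹⁻¹) = v⁻¹ * (q * b * (q * b)) * v := by group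
        _ = 1 := by rw [hx2, mul_one, inv_mul_cancel]
    · exact fun e' => hx1 (conj_eq_one_iff.mp e')
  · right
    obtain ⟨q0, b0, hq0, hb0, e0, ea, eu⟩ := F.ht
    obtain ⟨c, -, hc⟩ := F.P.conj_x0 hq hb hq0 hb0 ea eu h1 h2 h3
    exact ⟨h1, isConj_iff.mpr ⟨c, by rw [hc, ← e0]⟩⟩

theorem t_not_z : ¬ IsConj t z := by
  intro htz
  obtain ⟨a, b, ha, hb, hab, -⟩ := F.P.two_classes
  have hall : ∀ x : G, orderOf x = 2 → IsConj x z := by
    intro x hx
    have hxx : x * x = 1 := by have := pow_orderOf_eq_one x; rwa [hx, pow_two] at this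
    have hx1 : x ≠ 1 := fun e => by rw [e, orderOf_one] at hx; omega
    obtain ⟨g, hg⟩ := h.exists_conj_cent hxx
    set x' := g * x * g⁻¹ with hx'
    have h2 : x' * x' = 1 := by rw [hx', conj_mul, hxx, mul_one, mul_inv_cancel]
    have h1 : x' ≠ 1 := fun e => hx1 (conj_eq_one_iff.mp e)
    refine (isConj_iff.mpr ⟨g, rfl⟩ : IsConj x x').trans ?_
    by_cases hQx : x' ∈ Q
    · exact F.P.conj_Q hQx h2 h1
    obtain ⟨c, q, b, -, hq, hb, -, he⟩ := F.P.conj_into_W hg h2 hQx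
    refine (isConj_iff.mpr ⟨c, he⟩).trans ?_
    rcases F.conj_W_or (x := q * b) (by rw [← he, conj_mul, h2, mul_one, mul_inv_cancel])
      (fun e => h1 (conj_eq_one_iff.mp (he.trans e))) hq hb rfl with e | ⟨-, e⟩
    exacts [e, e.trans htz]
  exact hab ((hall a ha).trans (hall b hb).symm)

/-- The type of an involution of `W` is read off its residue. -/
theorem isConj_z_iff {x : G} {p : R2} (hx : W[x, p]) (hx2 : x * x = 1) (hx1 : x ≠ 1) :
    IsConj x z ↔ qU p.1 = 0 := by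
  have hs : sqv p = 0 := by
    have e : tt z s (sqv p).1 (sqv p).2 = tt z s 0 0 := by
      rw [← isW_sq F.P hx, hx2, tt_zero F.P]
    exact Prod.ext (F.P.tt_inj e).1 (F.P.tt_inj e).2
  obtain ⟨q, b, hq, hb, rfl, e1, e2⟩ := hx
  constructor
  · intro hz
    rcases two_cases' (qU p.1) with e | e
    · exact e
    exfalso
    have hf : fU p.1 p.2 = 1 := by
      have := congrArg Prod.fst hs
      simp only [sqv, e, Prod.fst_zero] at this
      exact (CharTwo.add_eq_zero.mp this).symm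
    have hq2 : qU p.2 = 1 := by
      have := congrArg Prod.snd hs
      simp only [sqv, hf, Prod.snd_zero] at this
      exact (CharTwo.add_eq_zero.mp this).symm
    obtain ⟨q0, b0, hq0, hb0, e0, ea, eu⟩ := F.ht
    obtain ⟨c, -, hc⟩ := F.P.conj_x0 hq hb hq0 hb0 ea eu (e1 ▸ e) (e2 ▸ hq2) (e1 ▸ e2 ▸ hf)
    exact F.t_not_z ((isConj_iff.mpr ⟨c, by rw [hc, ← e0]⟩ : IsConj (q * b) t).symm.trans hz)
  · intro h0
    rcases F.conj_W_or hx2 hx1 hq hb rfl with e | ⟨e, -⟩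
    · exact e
    · rw [e1, h0] at e
      exact absurd e zero_ne_one

theorem sqv_zero {x : G} {p : R2} (hx : W[x, p]) (hx2 : x * x = 1) : sqv p = 0 := by
  have e : tt z s (sqv p).1 (sqv p).2 = tt z s 0 0 := by rw [← isW_sq F.P hx, hx2, tt_zero F.P]
  exact Prod.ext (F.P.tt_inj e).1 (F.P.tt_inj e).2

theorem v_not_z : ¬ IsConj F.vv z := fun e =>
  F.t_not_z ((isConj_iff.mpr ⟨om, rfl⟩ : IsConj t F.vv).trans e)

theorem tv_not_z : ¬ IsConj (t * F.vv) z := fun e =>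
  F.t_not_z ((isConj_iff.mpr ⟨om, F.om_tv⟩ : IsConj (t * F.vv) t).symm.trans e)

/-- The involutions of `S` conjugate to `z`. -/
theorem zType_S {x : G} (hx : x ∈ F.Ssub) (hxz : IsConj x z) : ∃ p, W[x, p] ∧ InE p := by
  obtain ⟨p, hp, hb⟩ := F.mem_S.mp hx
  obtain ⟨c, hc⟩ := isConj_iff.mp hxz.symm
  have hx2 : x * x = 1 := by rw [← hc, conj_mul, h.zz, mul_one, mul_inv_cancel]
  have hx1 : x ≠ 1 := fun e => h.z_ne (conj_eq_one_iff.mp (hc.trans e))
  have h0 := (F.isConj_z_iff hp hx2 hx1).mp hxz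
  rcases invol_cases p hb (F.sqv_zero hp hx2) with ⟨-, e⟩ | ⟨e, -⟩
  · exact ⟨p, hp, e⟩
  · rw [h0] at e; exact absurd e zero_ne_one

/-- Elements on the two lines commute with `om`. -/
theorem commute_om {x : G} {p : R2} (hx : W[x, p]) (hp : omR p = p) : Commute om x := by
  have hc := F.om_conj hx
  rw [hp] at hc
  obtain ⟨i, j, e⟩ := isW_mul_tt F.P hx hc
  have hd : Commute om (tt z s i j) := commute_tt F.P F.om_z F.om_s i j
  set d := tt z s i j
  have hdd : om * d * om⁻¹ = d := by rw [hd.eq, mul_inv_cancel_right]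
  have h1 : om * x * om⁻¹ = x * d := e
  have h2 : om * (om * x * om⁻¹) * om⁻¹ = x * d * d := by
    rw [h1, ← conj_mul, h1, hdd]
  have h3 : om * (om * (om * x * om⁻¹) * om⁻¹) * om⁻¹ = x * d * d * d := by
    rw [h2, ← conj_mul, ← conj_mul, h1, hdd]
  rw [show om * (om * (om * x * om⁻¹) * om⁻¹) * om⁻¹ = om * om * om * x * (om * om * om)⁻¹ by group,
    F.om3, one_mul, inv_one, mul_one, mul_assoc x d d, tt_self F.P, mul_one, left_eq_mul] at h3
  rw [h3, mul_one] at h1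
  exact mul_inv_eq_iff_eq_mul.mp h1

/-- In `C(t)` all conjugates of `z` are conjugate. -/
theorem z_class {x : G} (hxt : x * t = t * x) (hxz : IsConj x z) :
    ∃ g, g * t = t * g ∧ g * x * g⁻¹ = z := by
  obtain ⟨g, hg⟩ := isConj_iff.mp hxz
  set y := g * t * g⁻¹ with hy
  have hyz : y * z = z * y := by
    rw [hy, ← hg]
    calc g * t * g⁻¹ * (g * x * g⁻¹) = g * (t * x) * g⁻¹ := by group
      _ = g * x * g⁻¹ * (g * t * g⁻¹) := by rw [← hxt]; group
  have hy2 : y * y = 1 := by rw [hy, conj_mul, F.t2, mul_one, mul_inv_cancel]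
  have hy1 : y ≠ 1 := fun e => F.t_ne (conj_eq_one_iff.mp e)
  have hty : IsConj t y := isConj_iff.mpr ⟨g, rfl⟩
  have hyQ : y ∉ Q := fun e => F.t_not_z (hty.trans (F.P.conj_Q e hy2 hy1))
  obtain ⟨c, q, b, hc, hq, hb, -, he⟩ := F.P.conj_into_W hyz hy2 hyQ
  have hW : W[q * b, (alpha h q, theta h b)] := ⟨q, b, hq, hb, rfl, rfl, rfl⟩
  have h2 : q * b * (q * b) = 1 := by rw [← he, conj_mul, hy2, mul_one, mul_inv_cancel]
  have h1 : q * b ≠ 1 := fun e => hy1 (conj_eq_one_iff.mp (he.trans e))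
  have hqb : IsConj y (q * b) := isConj_iff.mpr ⟨c, he⟩
  have hne : qU (alpha h q) = 1 := by
    rcases two_cases' (qU (alpha h q)) with e | e
    · exact absurd ((hty.trans hqb).trans ((F.isConj_z_iff hW h2 h1).mpr e)) F.t_not_z
    · exact e
  have hs := F.sqv_zero hW h2
  have hf : fU (alpha h q) (theta h b) = 1 := by
    have := congrArg Prod.fst hs
    simp only [sqv, hne, Prod.fst_zero] at this
    exact (CharTwo.add_eq_zero.mp this).symm
  have hθ : qU (theta h b) = 1 := by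
    have := congrArg Prod.snd hs
    simp only [sqv, hf, Prod.snd_zero] at this
    exact (CharTwo.add_eq_zero.mp this).symm
  obtain ⟨q0, b0, hq0, hb0, e0, ea, eu⟩ := F.ht
  obtain ⟨c', hc', hc'x⟩ := F.P.conj_x0 hq hb hq0 hb0 ea eu hne hθ hf
  refine ⟨c' * c * g, mul_inv_eq_iff_eq_mul.mp ?_, ?_⟩
  · calc c' * c * g * t * (c' * c * g)⁻¹ = c' * (c * (g * t * g⁻¹) * c⁻¹) * c'⁻¹ := by group
      _ = t := by rw [← hy, he, hc'x, e0]
  · calc c' * c * g * x * (c' * c * g)⁻¹ = c' * c * (g * x * g⁻¹) * (c' * c)⁻¹ := by group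
      _ = z := by rw [hg, h.mul_comm' hc' hc, mul_inv_cancel_right]

end Frame

end Cfsg.Agent.H55.Suz
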