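import Cfsg.Agent.H55.Suz.CentX
import Cfsg.Agent.H55.Suz.FivePair

/-!
The alternating group of degree six centralising `t`: four generators with `z` first, and an element
of order five centralising them and inverted by `t`.
-/

set_option autoImplicit false
set_option linter.unusedSectionVars false
set_option linter.style.haveILetI false

namespace Cfsg.Agent.H55.Suz

open Cfsg.Agent.H73.Suz Cfsg.Agent.H92.ExtraForm Subgroup

variable {G : Type*} [Group G] [Finite G] {z : G} {Q : Subgroup G}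

namespace Quad

variable {g : G} (W : Quad z Q g)

include W

theorem commute_n (x : alternatingGroup (Fin 6)) {n : G} (hn : n ∈ zpowers g) :
    Commute (W.ψ x) n := by
  obtain ⟨k, rfl⟩ := mem_zpowers_iff.mp hn
  exact (show Commute (W.ψ x) g from W.comm x).zpow_right k

theorem of_invol (hg : orderOf g = 5) {c : G} (hc : c * g = g * c) (h2 : c * c = 1) :
    ∃ x, c = W.ψ x := by
  obtain ⟨x, n, hn, e⟩ := W.decomp c hc
  have hnn : n * n = (W.ψ (x * x))⁻¹ := eq_inv_of_mul_eq_one_right (by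
    rw [map_mul, ← h2, e]
    calc W.ψ x * W.ψ x * (n * n) = W.ψ x * (W.ψ x * n) * n := by group
      _ = W.ψ x * (n * W.ψ x) * n := by rw [(W.commute_n x hn).eq]
      _ = W.ψ x * n * (W.ψ x * n) := by group)
  have hx : x * x = 1 := W.trivial _ (by
    have := inv_mem (mul_mem hn hn)
    rwa [hnn, inv_inv] at this)
  rw [hx, map_one, inv_one] at hnn
  refine ⟨x, ?_⟩
  rw [e, CentQuot.eq_one_of_sq (by decide : Odd 5) hg hn hnn, mul_one]

end Quad

/-- An element inverting `g` normalises its centraliser. -/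
theorem inv_cent {g j x : G} (hj : j * g * j⁻¹ = g⁻¹) (hx : x * g = g * x) :
    j * x * j⁻¹ * g = g * (j * x * j⁻¹) := by
  have h1 : j * x * j⁻¹ * g⁻¹ = g⁻¹ * (j * x * j⁻¹) := by rw [← hj, conj_mul, conj_mul, hx]
  simpa using ((show Commute (j * x * j⁻¹) g⁻¹ from h1).inv_right).eq

namespace Frame

variable {h : Setup z Q} {s w t om hh : G} (F : Frame h s w t om hh)
variable {s' w' g r : G}

/-- The configuration centralised by `t`. -/
structure Hex (F : Frame h s w t om hh) (b f g u : G) : Prop where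
  sq : b * b = 1 ∧ f * f = 1 ∧ g * g = 1
  zb : (z * b) ^ 5 = 1
  bf : (b * f) ^ 3 = 1
  bg : (b * g) ^ 3 = 1
  fg : (f * g) ^ 4 = 1
  fg2 : f * g * (f * g) = z
  bfg : (b * f * g) ^ 5 = 1
  fQ : f ∈ Q
  gQ : g ∈ Q
  bz : IsConj b z
  fz : IsConj f z
  gz : IsConj g z
  nbz : b * z ≠ z * b
  ord : orderOf u = 5
  uc : u * z = z * u ∧ u * b = b * u ∧ u * f = f * u ∧ u * g = g * u
  tc : t * b = b * t ∧ t * f = f * t ∧ t * g = g * t
  tu : t * u * t⁻¹ = u⁻¹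
  yB : F.IsB (z * b)
  centU : ∀ c : G, c * c = 1 → c * u = u * c → c * z = z * c → c * f = f * c → c * g = g * c →
    c = 1 ∨ c = z

theorem a6_inverts : Six.a6 * (Six.a6 * Six.b6) * Six.a6⁻¹ = (Six.a6 * Six.b6)⁻¹ := by decide

theorem a6_b_conj : Six.a6 * (Six.a6 * Six.b6 * Six.a6) * Six.a6⁻¹ = Six.b6 := by decide

include F

set_option maxHeartbeats 1600000 in
theorem exists_hex (D : Five h s' w' g r) : ∃ b f gg u, F.Hex b f gg u := by
  classical
  haveI : Fact (Nat.Prime 5) := ⟨by norm_num⟩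
  obtain ⟨W⟩ := D.exists_quad (F.card_Cg D)
  obtain ⟨ra, rb, rf, rg, rab, rbf, rbg, rfg, rfg2, rbfg, raf, rag⟩ := Six.rels
  set y := W.ψ (Six.a6 * Six.b6) with hydef
  have hy5 : orderOf y = 5 := by
    rw [hydef, orderOf_injective W.ψ W.inj]
    exact orderOf_eq_prime rab Six.ne.2.2.2.2.1
  have hR : Rank2 g y := ⟨D.ord, hy5, W.comm _, fun hm => Six.ne.2.2.2.2.1 (W.trivial _ hm)⟩
  obtain ⟨hyB, j, hj, hjy, hjg⟩ := F.exists_inverter D hR h.zz
    (mul_inv_eq_iff_eq_mul.mpr D.gz.symm) (by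
      have e := congrArg W.ψ a6_inverts
      simp only [map_mul, map_inv, W.ha] at e
      simpa only [hydef, map_mul, W.ha] using e)
  -- an element inverting `g` and centralising `C_Q(g)`
  obtain ⟨c, hcz, hcg, hcs⟩ := D.exists_square
  have hzconj : c * z * c⁻¹ = z := mul_inv_eq_iff_eq_mul.mpr hcz
  have hsQ : s' ∈ Q := D.P.hs
  have hcr : c * r * c⁻¹ = s' ∨ c * r * c⁻¹ = s' * z := by
    have hQ := h.norm c hcz r D.hr
    have hcomm : c * r * c⁻¹ * g = g * (c * r * c⁻¹) := by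
      refine (commute_pow_iff (i := 2) (by norm_num) ?_ D.ord rfl _).mp ?_
      · rw [← hcg, H65.orderOf_conj', D.ord]
      · rw [← hcg, conj_mul, conj_mul, D.rg]
    have hfix : (Cfsg.Agent.H73.Suz.g5 : V6 ≃ₗ[ZMod 2] V6) (h.π (c * r * c⁻¹)) =
        h.π (c * r * c⁻¹) := by
      rw [← D.hρ, ← h.ρ_π g D.gz _ hQ, ← hcomm, mul_inv_cancel_right]
    have hrπ : h.π r ≠ 0 := by rw [D.hrπ]; decide
    have h0 : h.π (c * r * c⁻¹) ≠ 0 := fun e => hrπ (by
      rw [h.ρ_π c hcz r D.hr] at e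
      exact (LinearEquiv.map_eq_zero_iff _).mp e)
    rcases fixed_singular hfix h0 ((h.sq_one_iff hQ).mp (by rw [conj_mul, D.rr, mul_one, mul_inv_cancel]))
      with e | e
    · exact h.π_eq hsQ hQ (D.P.hπ.trans e.symm)
    · exfalso
      have e2 : h.π (c * s' * c⁻¹) = f0 := by
        rcases hcs with e' | e' <;> rw [e']
        · exact D.hrπ
        · rw [h.π_mul _ D.hr _ h.hzQ, h.π_z, add_zero, D.hrπ]
      rw [h.ρ_π c hcz _ D.hr] at e
      rw [h.ρ_π c hcz _ hsQ] at e2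
      have := (LinearEquiv.injective _) (e.trans e2.symm)
      rw [D.hrπ, D.P.hπ] at this
      exact absurd this (by decide)
  set c2 := c * c with hc2
  have hflip : ∀ a b' : G, (c * a * c⁻¹ = b' ∨ c * a * c⁻¹ = b' * z) →
      (c * b' * c⁻¹ = a ∨ c * b' * c⁻¹ = a * z) → c2 * a * c2⁻¹ = a ∨ c2 * a * c2⁻¹ = a * z := by
    intro a b' h1 h2
    rw [hc2, show c * c * a * (c * c)⁻¹ = c * (c * a * c⁻¹) * c⁻¹ by group]
    rcases h1 with e | e <;> rw [e]
    · exact h2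
    · rw [← conj_mul, hzconj]
      rcases h2 with e' | e' <;> rw [e']
      · exact Or.inr rfl
      · left; rw [mul_assoc, h.zz, mul_one]
  have hc2s := hflip s' r hcs hcr
  have hc2r := hflip r s' hcr hcs
  have hc2z : c2 * z = z * c2 := h.mul_comm' hcz hcz
  have hc2g : c2 * g * c2⁻¹ = g⁻¹ := by
    rw [hc2, show c * c * g * (c * c)⁻¹ = c * (c * g * c⁻¹) * c⁻¹ by group, hcg, ← conj_pow, hcg,
      ← pow_mul]
    refine eq_inv_of_mul_eq_one_left ?_
    rw [← pow_succ, show 2 * 2 + 1 = orderOf g from D.ord.symm, pow_orderOf_eq_one]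
  obtain ⟨j2, hj2z, hj2g, hj2s, hj2r⟩ : ∃ j2, j2 * z = z * j2 ∧ j2 * g * j2⁻¹ = g⁻¹ ∧
      j2 * s' * j2⁻¹ = s' ∧ j2 * r * j2⁻¹ = r := by
    obtain ⟨m1, hm1z, hm1g, hm1s, hm1r⟩ : ∃ m, m * z = z * m ∧ m * g = g * m ∧
        m * (c2 * s' * c2⁻¹) * m⁻¹ = s' ∧ ∀ x ∈ ({r, r * z} : Set G), m * x * m⁻¹ = x := by
      rcases hc2s with e | e
      · exact ⟨1, by simp, by simp, by rw [e]; simp, fun x _ => by simp⟩
      · refine ⟨r, D.rz, D.rg, ?_, ?_⟩
        · rw [e, ← conj_mul, D.hrs, mul_inv_eq_iff_eq_mul.mpr D.rz, mul_assoc, h.zz, mul_one]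
        · rintro x (rfl | rfl)
          · rw [mul_inv_cancel_right]
          · rw [← conj_mul, mul_inv_cancel_right, mul_inv_eq_iff_eq_mul.mpr D.rz]
    obtain ⟨m2, hm2z, hm2g, hm2s, hm2r⟩ : ∃ m, m * z = z * m ∧ m * g = g * m ∧
        m * s' * m⁻¹ = s' ∧ m * (m1 * (c2 * r * c2⁻¹) * m1⁻¹) * m⁻¹ = r := by
      rcases hc2r with e | e
      · exact ⟨1, by simp, by simp, by simp, by rw [e, hm1r r (Or.inl rfl)]; simp⟩
      · refine ⟨s', h.le _ hsQ, D.gs.symm, by rw [mul_inv_cancel_right], ?_⟩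
        rw [e, hm1r _ (Or.inr rfl), ← conj_mul, D.rs_conj,
          mul_inv_eq_iff_eq_mul.mpr (h.le _ hsQ), mul_assoc, h.zz, mul_one]
    refine ⟨m2 * m1 * c2, h.mul_comm' (h.mul_comm' hm2z hm1z) hc2z, ?_, ?_, ?_⟩
    · rw [show m2 * m1 * c2 * g * (m2 * m1 * c2)⁻¹ = m2 * m1 * (c2 * g * c2⁻¹) * (m2 * m1)⁻¹ by group,
        hc2g]
      exact mul_inv_eq_iff_eq_mul.mpr (((show Commute m2 g from hm2g).mul_left hm1g).inv_right).eq
    · rw [show m2 * m1 * c2 * s' * (m2 * m1 * c2)⁻¹ = m2 * (m1 * (c2 * s' * c2⁻¹) * m1⁻¹) * m2⁻¹ by group,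
        hm1s, hm2s]
    · rw [show m2 * m1 * c2 * r * (m2 * m1 * c2)⁻¹ = m2 * (m1 * (c2 * r * c2⁻¹) * m1⁻¹) * m2⁻¹ by group,
        hm2r]
  have hfixD : ∀ x ∈ D.Dg, j2 * x * j2⁻¹ = x := by
    intro x hx
    obtain ⟨p, hp⟩ := D.dEl_bij.2 ⟨x, hx⟩
    rw [← show D.dEl p = x from congrArg Subtype.val hp]
    have hk : ∀ e : G, j2 * e * j2⁻¹ = e → ∀ i : ZMod 2, Commute j2 (zp e i) := fun e he i => by
      unfold zp; split_ifs
      · exact Commute.one_right _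
      · exact mul_inv_eq_iff_eq_mul.mp he
    exact mul_inv_eq_iff_eq_mul.mpr (((hk z (mul_inv_eq_iff_eq_mul.mpr hj2z) _).mul_right
      (hk s' hj2s _)).mul_right (hk r hj2r _)).eq
  have hfD : ∀ x : alternatingGroup (Fin 6), W.ψ x ∈ Q → j2 * W.ψ x * j2⁻¹ = W.ψ x := fun x hx =>
    hfixD _ ⟨hx, (D.mem_C _).mpr (W.comm x)⟩
  -- correct the image of `b`
  have hψb2 : W.ψ Six.b6 * W.ψ Six.b6 = 1 := by rw [← map_mul, rb, map_one]
  obtain ⟨x, hx⟩ := W.of_invol D.ord (inv_cent hj2g (W.comm Six.b6))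
    (by rw [conj_mul, hψb2, mul_one, mul_inv_cancel])
  have hx2 : x * x = 1 := W.inj (by
    rw [map_mul, map_one, ← hx, conj_mul, hψb2, mul_one, mul_inv_cancel])
  have hza : j2 * W.ψ Six.a6 * j2⁻¹ = W.ψ Six.a6 := by
    rw [W.ha]; exact mul_inv_eq_iff_eq_mul.mpr hj2z
  have hab' : j2 * y * j2⁻¹ = W.ψ (Six.a6 * x) := by
    rw [hydef, map_mul, ← conj_mul, hza, hx, ← map_mul]
  have hcls : ∃ q : alternatingGroup (Fin 6), q * (Six.a6 * Six.b6) * q⁻¹ = Six.a6 * x := by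
    have hk : j⁻¹ * j2 * g = g * (j⁻¹ * j2) := by
      have h1 : j⁻¹ * (j * g * j⁻¹) * j = g := by group
      calc j⁻¹ * j2 * g = j⁻¹ * (j2 * g * j2⁻¹) * j2 := by group
        _ = j⁻¹ * (j * g * j⁻¹) * j * (j⁻¹ * j2) := by rw [hj2g, hjg]; group
        _ = g * (j⁻¹ * j2) := by rw [h1]
    obtain ⟨x1, n, hn, e1⟩ := W.decomp _ hk
    obtain ⟨x2, n2, hn2, e2⟩ := W.decomp _ (inv_cent hjg (W.comm x1))
    refine ⟨x2, W.inj ?_⟩
    rw [← hab', show j2 = j * (j⁻¹ * j2) by group, e1, map_mul, map_mul, map_inv, ← hydef]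
    symm
    calc j * (W.ψ x1 * n) * y * (j * (W.ψ x1 * n))⁻¹
        = j * W.ψ x1 * (n * y) * n⁻¹ * (W.ψ x1)⁻¹ * j⁻¹ := by group
      _ = (j * W.ψ x1 * j⁻¹) * (j * y * j⁻¹) * (j * W.ψ x1 * j⁻¹)⁻¹ := by
        rw [show n * y = y * n from (W.commute_n _ hn).eq.symm]; group
      _ = W.ψ x2 * (n2 * y) * n2⁻¹ * (W.ψ x2)⁻¹ := by rw [hjy, e2]; group
      _ = W.ψ x2 * y * (W.ψ x2)⁻¹ := by
        rw [show n2 * y = y * n2 from (W.commute_n _ hn2).eq.symm]; group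
  have hrel : ∀ (p q : alternatingGroup (Fin 6)) (n : ℕ), j2 * W.ψ p * j2⁻¹ = W.ψ q →
      p ^ n = 1 → q ^ n = 1 := fun p q n e hp => W.inj (by
    rw [map_pow, ← e, conj_pow, ← map_pow, hp, map_one, mul_one, mul_inv_cancel])
  have hfQ := hfD _ W.fQ
  have hgQ := hfD _ W.gQ
  have hb' := Six.partner x hx2
    (hrel (Six.a6 * Six.b6) _ 5 hab' rab)
    (hrel (Six.b6 * Six.f6) _ 3 (by rw [map_mul, ← conj_mul, hx, hfQ, ← map_mul]) rbf)
    (hrel (Six.b6 * Six.g6) _ 3 (by rw [map_mul, ← conj_mul, hx, hgQ, ← map_mul]) rbg)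
    (hrel (Six.b6 * Six.f6 * Six.g6) _ 5
      (by rw [map_mul, map_mul, ← conj_mul, ← conj_mul, hx, hfQ, hgQ, ← map_mul, ← map_mul]) rbfg)
  obtain ⟨ω, hωg, hωa, hωb, hωf, hωgg⟩ : ∃ ω, ω * g * ω⁻¹ = g⁻¹ ∧
      ω * W.ψ Six.a6 = W.ψ Six.a6 * ω ∧ ω * W.ψ Six.b6 = W.ψ Six.b6 * ω ∧
      ω * W.ψ Six.f6 = W.ψ Six.f6 * ω ∧ ω * W.ψ Six.g6 = W.ψ Six.g6 * ω := by
    have hfc := mul_inv_eq_iff_eq_mul.mp hfQ
    have hgc := mul_inv_eq_iff_eq_mul.mp hgQ
    have hac := mul_inv_eq_iff_eq_mul.mp hza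
    rcases hb' with rfl | rfl | hne
    · exact ⟨j2, hj2g, hac, mul_inv_eq_iff_eq_mul.mp hx, hfc, hgc⟩
    · refine ⟨W.ψ Six.a6 * j2, ?_, (Commute.refl _ |>.mul_left hac).eq, mul_inv_eq_iff_eq_mul.mp ?_,
        ?_, ?_⟩
      · rw [show W.ψ Six.a6 * j2 * g * (W.ψ Six.a6 * j2)⁻¹ =
          W.ψ Six.a6 * (j2 * g * j2⁻¹) * (W.ψ Six.a6)⁻¹ by group, hj2g]
        exact mul_inv_eq_iff_eq_mul.mpr ((show Commute (W.ψ Six.a6) g from W.comm _).inv_right).eq
      · rw [show W.ψ Six.a6 * j2 * W.ψ Six.b6 * (W.ψ Six.a6 * j2)⁻¹ =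
          W.ψ Six.a6 * (j2 * W.ψ Six.b6 * j2⁻¹) * (W.ψ Six.a6)⁻¹ by group, hx, ← map_inv, ← map_mul,
          ← map_mul, a6_b_conj]
      · exact ((show Commute (W.ψ Six.a6) (W.ψ Six.f6) by
          show _ * _ = _ * _
          rw [← map_mul, ← map_mul, raf]).mul_left hfc).eq
      · exact ((show Commute (W.ψ Six.a6) (W.ψ Six.g6) by
          show _ * _ = _ * _
          rw [← map_mul, ← map_mul, rag]).mul_left hgc).eq
    · obtain ⟨q, hq⟩ := hcls
      exact absurd hq (hne q)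
  have hω1 : ω ≠ 1 := fun e => by
    rw [e, one_mul, inv_one, mul_one] at hωg
    exact D.g_ne (CentQuot.eq_one_of_sq (by decide : Odd 5) D.ord (mem_zpowers g)
      (mul_eq_one_iff_eq_inv.mpr hωg))
  have hω2 : ω * ω = 1 := by
    have hk : ω * ω * g = g * (ω * ω) := mul_inv_eq_iff_eq_mul.mp (by
      rw [show ω * ω * g * (ω * ω)⁻¹ = ω * (ω * g * ω⁻¹) * ω⁻¹ by group, hωg,
        show ω * g⁻¹ * ω⁻¹ = (ω * g * ω⁻¹)⁻¹ by group, hωg, inv_inv])
    obtain ⟨x', n, hn, e⟩ := W.decomp _ hk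
    have hcomm : ∀ p, ω * W.ψ p = W.ψ p * ω → x' * p = p * x' := fun p hp => by
      refine W.inj ?_
      rw [map_mul, map_mul]
      have h1 : Commute (W.ψ x' * n) (W.ψ p) :=
        e ▸ (show Commute ω (W.ψ p) from hp).mul_left hp
      have h2 := h1.mul_left ((W.commute_n p hn).symm.inv_left)
      rwa [mul_inv_cancel_right] at h2
    have hx'1 : x' = 1 := Six.fix_all x' (hcomm _ hωa) (hcomm _ hωb)
    rw [hx'1, map_one, one_mul] at e
    obtain ⟨i, hi⟩ := mem_zpowers_iff.mp hn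
    rw [e]
    refine CentQuot.eq_one_of_sq (by decide : Odd 5) D.ord hn ?_
    have h1 : ω * n * ω⁻¹ = n := by rw [← e]; group
    rw [← hi, ← conj_zpow, hωg, inv_zpow, hi] at h1
    exact mul_eq_one_iff_eq_inv.mpr h1.symm
  have hωy : ω * y = y * ω := by
    rw [hydef, map_mul]
    exact ((show Commute ω _ from hωa).mul_right hωb).eq
  have hωo : orderOf ω = 2 := orderOf_eq_prime (by rw [pow_two, hω2]) hω1
  have hωt : IsConj ω t := F.B_invol D hyB hωo hωy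
  obtain ⟨d, hd⟩ := isConj_iff.mp hωt
  have hωz : ω * z = z * ω := by rw [← W.ha]; exact hωa
  have hzd : IsConj (d * z * d⁻¹) z := (isConj_iff.mpr ⟨d, rfl⟩ : IsConj z (d * z * d⁻¹)).symm
  have hzdK : F.ZK (d * z * d⁻¹) := F.zK (by rw [← hd, conj_mul, conj_mul, hωz]) hzd
  obtain ⟨k, hk, hkz⟩ := F.z_class_K hzdK.1 hzd
  set e := k * d with he
  have hez : e * z * e⁻¹ = z := by
    rw [he, show k * d * z * (k * d)⁻¹ = k * (d * z * d⁻¹) * k⁻¹ by group, hkz]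
  have hezc : e * z = z * e := mul_inv_eq_iff_eq_mul.mp hez
  have het : e * ω * e⁻¹ = t := by
    rw [he, show k * d * ω * (k * d)⁻¹ = k * (d * ω * d⁻¹) * k⁻¹ by group, hd,
      (F.mem_K.mp hk).1, mul_inv_cancel_right]
  -- transport
  let φ : alternatingGroup (Fin 6) →* G := (MulAut.conj e).toMonoidHom.comp W.ψ
  have hφ : ∀ p, φ p = e * W.ψ p * e⁻¹ := fun p => rfl
  have hφa : φ Six.a6 = z := by rw [hφ, W.ha, hez]
  have hφinj : Function.Injective φ := fun p q epq => W.inj (mul_left_cancel (mul_right_cancel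
    (show e * W.ψ p * e⁻¹ = e * W.ψ q * e⁻¹ from epq)))
  have hφc : ∀ p, φ p * (e * g * e⁻¹) = e * g * e⁻¹ * φ p := fun p => by
    rw [hφ, conj_mul, conj_mul, W.comm]
  have hφz : ∀ p, p * p = 1 → p ≠ 1 → IsConj (φ p) z := fun p hp hp1 => by
    obtain ⟨u, -, hu⟩ := D.invol_conj (W.comm p)
      (orderOf_eq_prime (by rw [pow_two, ← map_mul, hp, map_one]) fun e1 => hp1 (W.inj (by rw [e1, map_one])))
    exact ((isConj_iff.mpr ⟨u, hu⟩ : IsConj z (W.ψ p)).trans (isConj_iff.mpr ⟨e, rfl⟩)).symm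
  have hu5 : orderOf (e * g * e⁻¹) = 5 := (H65.orderOf_conj' e g).trans D.ord
  refine ⟨φ Six.b6, φ Six.f6, φ Six.g6, e * g * e⁻¹, ?_⟩
  refine
    { sq := ⟨by rw [← map_mul, rb, map_one], by rw [← map_mul, rf, map_one],
        by rw [← map_mul, rg, map_one]⟩
      zb := by rw [← hφa, ← map_mul, ← map_pow, rab, map_one]
      bf := by rw [← map_mul, ← map_pow, rbf, map_one]
      bg := by rw [← map_mul, ← map_pow, rbg, map_one]
      fg := by rw [← map_mul, ← map_pow, rfg, map_one]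
      fg2 := by rw [← map_mul, ← map_mul, rfg2, hφa]
      bfg := by rw [← map_mul, ← map_mul, ← map_pow, rbfg, map_one]
      fQ := h.norm e hezc _ W.fQ
      gQ := h.norm e hezc _ W.gQ
      bz := hφz _ rb Six.ne.2.1
      fz := hφz _ rf Six.ne.2.2.1
      gz := hφz _ rg Six.ne.2.2.2.1
      nbz := by
        intro e1
        rw [← hφa, ← map_mul, ← map_mul] at e1
        exact Six.ne.2.2.2.2.2 (hφinj e1).symm
      ord := hu5
      uc := ⟨?_, (hφc _).symm, (hφc _).symm, (hφc _).symm⟩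
      tc := ?_
      tu := ?_
      yB := ?_
      centU := ?_ }
  · rw [← hφa]; exact (hφc _).symm
  · refine ⟨?_, ?_, ?_⟩ <;> rw [← het, hφ, conj_mul, conj_mul]
    · rw [hωb]
    · rw [hωf]
    · rw [hωgg]
  · rw [← het]
    calc e * ω * e⁻¹ * (e * g * e⁻¹) * (e * ω * e⁻¹)⁻¹ = e * (ω * g * ω⁻¹) * e⁻¹ := by group
      _ = (e * g * e⁻¹)⁻¹ := by rw [hωg]; group
  · have hy' : z * φ Six.b6 = e * y * e⁻¹ := by rw [← hφa, ← map_mul, hφ, hydef]
    rw [hy']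
    exact (F.kind_conj hy5 (n := 1) (d := e) ((H65.orderOf_conj' e y).trans hy5)
      (pow_one _).symm).2 hyB
  · intro c hc hcu hcz' hcf hcg'
    set c0 := e⁻¹ * c * e with hc0
    have hback : c = e * c0 * e⁻¹ := by rw [hc0]; group
    have hcan : ∀ p : G, c * (e * p * e⁻¹) = e * p * e⁻¹ * c → c0 * p = p * c0 := fun p hp => by
      rw [hback, conj_mul, conj_mul] at hp
      exact mul_left_cancel (mul_right_cancel hp)
    obtain ⟨x', hx'⟩ := W.of_invol D.ord (hcan g hcu) (by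
      rw [hc0, show e⁻¹ * c * e * (e⁻¹ * c * e) = e⁻¹ * (c * c) * e by group, hc, mul_one,
        inv_mul_cancel])
    have hx'c : ∀ p, c * φ p = φ p * c → x' * p = p * x' := fun p hp => W.inj (by
      rw [map_mul, map_mul, ← hx']; exact hcan _ hp)
    rcases Six.fix_eq x' (hx'c _ (by rw [hφa]; exact hcz')) (hx'c _ hcf) (hx'c _ hcg') with e1 | e1
    · left; rw [hback, hx', e1, map_one, mul_one, mul_inv_cancel]
    · right; rw [hback, hx', e1, ← hφ, hφa]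

end Frame

end Cfsg.Agent.H55.Suz
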