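import Cfsg.Agent.H55.Suz.VNormal
import Cfsg.Agent.H55.Suz.LThree
import Cfsg.Agent.Hall.MinimalNormal

/-!
The quotient of the centraliser of the four-group by the four-group.
-/

set_option autoImplicit false
set_option linter.unusedSectionVars false
set_option linter.style.haveILetI false
set_option linter.unusedVariables false

namespace Cfsg.Agent.H55.Suz.Frame

open Cfsg.Agent.H73.Suz Cfsg.Agent.H92.ExtraForm Subgroup

variable {G : Type*} [Group G] [Finite G] {z : G} {Q : Subgroup G}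
variable {h : Setup z Q} {s w t om hh : G} (F : Frame h s w t om hh)

local notation "W[" x ", " p "]" => IsW h s w x p

/-- The centraliser of the four-group. -/
def Ksub : Subgroup G := centralizer ({t} : Set G) ⊓ centralizer ({F.vv} : Set G)

/-- The four-group. -/
def Vsub : Subgroup G where
  carrier := {x | x = 1 ∨ x = t ∨ x = F.vv ∨ x = t * F.vv}
  one_mem' := Or.inl rfl
  mul_mem' := fun {a b} ha hb => by
    have h1 : ∀ y, t * (t * y) = y := fun y => by rw [← mul_assoc, F.t2, one_mul]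
    have h2 : ∀ y, F.vv * (F.vv * y) = y := fun y => by rw [← mul_assoc, F.v2, one_mul]
    have h3 : F.vv * t = t * F.vv := F.tv_comm.symm
    have h4 : ∀ y, F.vv * (t * y) = t * (F.vv * y) := fun y => by rw [← mul_assoc, h3, mul_assoc]
    rcases ha with rfl | rfl | rfl | rfl <;> rcases hb with rfl | rfl | rfl | rfl <;>
      simp [F.t2, F.v2, h1, h2, h3, h4, mul_assoc]
  inv_mem' := fun {a} ha => by
    rcases ha with rfl | rfl | rfl | rfl
    · simp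
    · simp [F.t_inv]
    · simp [F.v_inv]
    · exact Or.inr (Or.inr (Or.inr (inv_eq_of_mul_eq_one_left F.tv2)))

include F

theorem mem_V {x : G} : x ∈ F.Vsub ↔ x = 1 ∨ x = t ∨ x = F.vv ∨ x = t * F.vv := Iff.rfl

theorem mem_K {x : G} : x ∈ F.Ksub ↔ x * t = t * x ∧ x * F.vv = F.vv * x :=
  ⟨fun hx => ⟨mem_centralizer_singleton_iff.mp hx.1, mem_centralizer_singleton_iff.mp hx.2⟩,
    fun hx => ⟨mem_centralizer_singleton_iff.mpr hx.1, mem_centralizer_singleton_iff.mpr hx.2⟩⟩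

theorem S_le_K : F.Ssub ≤ F.Ksub := fun x hx =>
  F.mem_K.mpr ⟨(F.mem_T.mp (F.S_le_T hx)).2, F.S_comm_v hx⟩

theorem S_of_K {x : G} (hx : x ∈ F.Ksub) (hxz : x * z = z * x) : x ∈ F.Ssub := by
  obtain ⟨hxt, hxv⟩ := F.mem_K.mp hx
  rcases F.T_cases (F.mem_T.mpr ⟨hxz, hxt⟩) with e | e
  · exact e
  · exfalso
    have h1 := F.S_comm_v e
    have h2 : hh * F.vv * hh⁻¹ = F.vv := by
      calc hh * F.vv * hh⁻¹ = hh * (F.vv * x) * (hh * x)⁻¹ := by group
        _ = hh * x * F.vv * (hh * x)⁻¹ := by rw [← hxv]; group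
        _ = F.vv := by rw [h1, mul_inv_cancel_right]
    rw [F.hh_v] at h2
    exact F.t_ne (mul_eq_right.mp h2)

theorem V_le_S : F.Vsub ≤ F.Ssub := by
  rintro x (rfl | rfl | rfl | rfl)
  exacts [one_mem _, F.t_mem_S, F.v_mem_S, mul_mem F.t_mem_S F.v_mem_S]

theorem V_comm {u x : G} (hu : u ∈ F.Vsub) (hx : x ∈ F.Ksub) : x * u = u * x := by
  obtain ⟨h1, h2⟩ := F.mem_K.mp hx
  rcases hu with rfl | rfl | rfl | rfl
  exacts [(Commute.one_right x).eq, h1, h2, ((show Commute x t from h1).mul_right h2).eq]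

theorem V_res {u : G} (hu : u ∈ F.Vsub) : u = 1 ∨ ∃ p, W[u, p] ∧ qU p.1 = 1 ∧ omR p ≠ p := by
  rcases hu with rfl | rfl | rfl | rfl
  · exact Or.inl rfl
  · exact Or.inr ⟨tb, F.ht, qU_tb.1, by decide⟩
  · exact Or.inr ⟨vb, F.hv, qU_tb.2.1, by decide⟩
  · exact Or.inr ⟨tb + vb, isW_mul F.P F.ht F.hv, qU_tb.2.2, by decide⟩

theorem V_sq {u : G} (hu : u ∈ F.Vsub) : u * u = 1 := by
  rcases hu with rfl | rfl | rfl | rfl
  exacts [one_mul 1, F.t2, F.v2, F.tv2]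

/-- The elements of `C(t)`. -/
theorem K_cases {g : G} (hg : g * t = t * g) : g ∈ F.Ksub ∨ hh * g ∈ F.Ksub := by
  rcases F.v_normal hg with e | e
  · exact Or.inl (F.mem_K.mpr ⟨hg, mul_inv_eq_iff_eq_mul.mp e⟩)
  · refine Or.inr (F.mem_K.mpr ⟨((show Commute hh t from F.hh_t).mul_left hg).eq,
      mul_inv_eq_iff_eq_mul.mp ?_⟩)
    calc hh * g * F.vv * (hh * g)⁻¹ = hh * (g * F.vv * g⁻¹) * hh⁻¹ := by group
      _ = F.vv := by rw [e, F.hh_tv]

theorem z_mem_K : z ∈ F.Ksub := F.S_le_K F.z_mem_S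

theorem z_class_K {x : G} (hx : x ∈ F.Ksub) (hxz : IsConj x z) :
    ∃ k ∈ F.Ksub, k * x * k⁻¹ = z := by
  obtain ⟨g, hg, hgx⟩ := F.z_class (F.mem_K.mp hx).1 hxz
  rcases F.K_cases hg with e | e
  · exact ⟨g, e, hgx⟩
  · refine ⟨hh * g, e, ?_⟩
    calc hh * g * x * (hh * g)⁻¹ = hh * (g * x * g⁻¹) * hh⁻¹ := by group
      _ = z := by rw [hgx, F.hh_z, mul_inv_cancel_right]

theorem conj_z_of_V {u : G} (hu : u ∈ F.Vsub) (hz : IsConj (z * u) z) : u = 1 := by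
  rcases F.V_res hu with e | ⟨p, hp, hq, -⟩
  · exact e
  exfalso
  have hW : W[z * u, p] := by simpa using isW_mul F.P F.isW_z hp
  have h2 : z * u * (z * u) = 1 := by
    calc z * u * (z * u) = z * (u * z) * u := by group
      _ = z * (z * u) * u := by rw [← F.V_comm hu F.z_mem_K]
      _ = z * z * (u * u) := by group
      _ = 1 := by rw [h.zz, F.V_sq hu, mul_one]
  have h1 : z * u ≠ 1 := fun e => by
    have h0 := isW_unique F.P hW (e.symm ▸ isW_one F.P)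
    rw [h0] at hq
    exact absurd hq (by decide)
  rw [(F.isConj_z_iff hW h2 h1).mp hz] at hq
  exact zero_ne_one hq

/-- A conjugate of `z` in `K` is alone of its type in its coset of `V`. -/
theorem coset_unique {x u : G} (hx : x ∈ F.Ksub) (hxz : IsConj x z) (hu : u ∈ F.Vsub)
    (hxu : IsConj (x * u) z) : u = 1 := by
  obtain ⟨k, hk, hkx⟩ := F.z_class_K hx hxz
  refine F.conj_z_of_V hu ((isConj_iff.mpr ⟨k⁻¹, ?_⟩ : IsConj (z * u) (x * u)).trans hxu)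
  rw [← hkx]
  calc k⁻¹ * (k * x * k⁻¹ * u) * k⁻¹⁻¹ = x * (k⁻¹ * (u * k)) := by group
    _ = x * u := by rw [← F.V_comm hu hk]; group

theorem exists_conj_S_K {U : Subgroup G} (hU : U ≤ F.Ksub) (hU2 : IsPGroup 2 U) :
    ∃ k ∈ F.Ksub, ∀ x ∈ U, k * x * k⁻¹ ∈ F.Ssub := by
  obtain ⟨k, hkt, hkv, hk⟩ := F.exists_conj_S (g := 1) (u := F.vv) (by simp) (by simp)
    (fun x hx => (hU hx).1) hU2 (fun x hx => (F.mem_K.mp (hU hx)).2)
  exact ⟨k, F.mem_K.mpr ⟨hkt, mul_inv_eq_iff_eq_mul.mp hkv⟩, hk⟩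

/-- An involution modulo `V` comes from a conjugate of `z`. -/
theorem exists_zType {x : G} (hx : x ∈ F.Ksub) (hxx : x * x ∈ F.Vsub) :
    x ∈ F.Vsub ∨ ∃ u ∈ F.Vsub, IsConj (x * u) z := by
  have h4 : x ^ 4 = 1 := by
    rw [show x ^ 4 = x * x * (x * x) by simp [pow_succ, mul_assoc], F.V_sq hxx]
  have hp : IsPGroup 2 (zpowers x) := by
    obtain ⟨k, -, hk⟩ := (Nat.dvd_prime_pow Nat.prime_two).mp
      (show orderOf x ∣ 2 ^ 2 from orderOf_dvd_of_pow_eq_one h4)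
    exact IsPGroup.of_card (n := k) (by rw [Nat.card_zpowers, hk])
  obtain ⟨k, hkK, hk⟩ := F.exists_conj_S_K (zpowers_le.mpr hx) hp
  set y := k * x * k⁻¹ with hy
  have hyS : y ∈ F.Ssub := hk x (mem_zpowers x)
  have hky : ∀ u ∈ F.Vsub, k * u * k⁻¹ = u := fun u hu =>
    mul_inv_eq_iff_eq_mul.mpr (F.V_comm hu hkK)
  have hyy : y * y ∈ F.Vsub := by rw [hy, conj_mul, hky _ hxx]; exact hxx
  obtain ⟨p, hp', hpb⟩ := F.mem_S.mp hyS
  have hy2 : y * y = 1 := by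
    rcases F.V_res hyy with e | ⟨q, hq, hq1, -⟩
    · exact e
    · have h0 : q = 0 := isW_unique F.P hq (by
        rw [isW_sq F.P hp']; exact isW_tt F.P _ _)
      rw [h0] at hq1
      exact absurd hq1 (by decide)
  have hback : ∀ u ∈ F.Vsub, IsConj (y * u) z → IsConj (x * u) z := fun u hu hz' =>
    (isConj_iff.mpr ⟨k, by
      rw [← conj_mul, hky u hu]⟩ : IsConj (x * u) (y * u)).trans hz'
  by_cases hy1 : y = 1
  · exact Or.inl (by rw [show x = 1 from conj_eq_one_iff.mp hy1]; exact one_mem _)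
  rcases invol_cases p hpb (F.sqv_zero hp' hy2) with ⟨h0, -⟩ | ⟨-, hc⟩
  · exact Or.inr ⟨1, one_mem _, hback 1 (one_mem _)
      (by rw [mul_one]; exact (F.isConj_z_iff hp' hy2 hy1).mpr h0)⟩
  have main : ∀ u q, u ∈ F.Vsub → W[u, q] → InE (p + q) → x ∈ F.Vsub ∨ ∃ u ∈ F.Vsub, IsConj (x * u) z := by
    intro u q hu hq hE
    by_cases hyu : y * u = 1
    · left
      have e : y = u := (eq_inv_of_mul_eq_one_left hyu).trans
        (inv_eq_of_mul_eq_one_left (F.V_sq hu))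
      rw [show x = k⁻¹ * y * k by rw [hy]; group, e, mul_assoc, ← F.V_comm hu hkK,
        inv_mul_cancel_left]
      exact hu
    · refine Or.inr ⟨u, hu, hback u hu ?_⟩
      refine (F.isConj_z_iff (isW_mul F.P hp' hq) ?_ hyu).mpr (inE_props _ hE).1
      calc y * u * (y * u) = y * (u * y) * u := by group
        _ = y * (y * u) * u := by rw [← F.V_comm hu (F.S_le_K hyS)]
        _ = y * y * (u * u) := by group
        _ = 1 := by rw [hy2, F.V_sq hu, mul_one]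
  rcases hc with hc | hc | hc
  · exact main t tb (Or.inr (Or.inl rfl)) F.ht hc
  · exact main F.vv vb (Or.inr (Or.inr (Or.inl rfl))) F.hv hc
  · exact main (t * F.vv) (tb + vb) (Or.inr (Or.inr (Or.inr rfl))) (isW_mul F.P F.ht F.hv) hc

omit F in
/-- The four-group inside its centraliser. -/
def Vk (F : Frame h s w t om hh) : Subgroup F.Ksub := F.Vsub.subgroupOf F.Ksub

instance Vk_normal : F.Vk.Normal := ⟨fun n hn g => by
  have e : g * n * g⁻¹ = n := by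
    apply Subtype.ext
    show (g : G) * n * (g : G)⁻¹ = n
    rw [F.V_comm (show (n : G) ∈ F.Vsub from hn) g.2, mul_inv_cancel_right]
  rw [e]; exact hn⟩

omit F in
/-- The quotient. -/
abbrev KQ (F : Frame h s w t om hh) := F.Ksub ⧸ F.Vk

omit F in
/-- The projection. -/
abbrev kmk (F : Frame h s w t om hh) : F.Ksub →* F.KQ := QuotientGroup.mk' F.Vk

theorem kmk_surj : Function.Surjective F.kmk := QuotientGroup.mk'_surjective _

theorem kmk_eq {a b : F.Ksub} (e : F.kmk a = F.kmk b) : ∃ u ∈ F.Vsub, (b : G) = a * u :=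
  ⟨(a : G)⁻¹ * b, (QuotientGroup.eq (s := F.Vk)).mp e, by group⟩

theorem kmk_one {a : F.Ksub} : F.kmk a = 1 ↔ (a : G) ∈ F.Vsub := QuotientGroup.eq_one_iff a

omit F in
/-- The image of `z`. -/
def kz (F : Frame h s w t om hh) : F.KQ := F.kmk ⟨z, F.z_mem_K⟩

omit F in
/-- The image of `S`. -/
def Sbar (F : Frame h s w t om hh) : Subgroup F.KQ := (F.Ssub.subgroupOf F.Ksub).map F.kmk

theorem mem_Sbar {a : F.Ksub} : F.kmk a ∈ F.Sbar ↔ (a : G) ∈ F.Ssub := by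
  constructor
  · rintro ⟨b, hb, hba⟩
    obtain ⟨u, hu, e⟩ := F.kmk_eq hba
    rw [e]
    exact mul_mem hb (F.V_le_S hu)
  · exact fun ha => ⟨a, ha, rfl⟩

theorem Sbar_two : IsPGroup 2 F.Sbar :=
  (IsPGroup.of_equiv F.S_two (subgroupOfEquivOfLe F.S_le_K).symm).map _

theorem orderOf_zType {x : G} (hxz : IsConj x z) : x * x = 1 ∧ x ≠ 1 ∧ x ∉ F.Vsub := by
  obtain ⟨c, hc⟩ := isConj_iff.mp hxz.symm
  refine ⟨by rw [← hc, conj_mul, h.zz, mul_one, mul_inv_cancel],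
    fun e => h.z_ne (conj_eq_one_iff.mp (hc.trans e)), fun hV => ?_⟩
  rcases hV with rfl | rfl | rfl | rfl
  · exact h.z_ne (conj_eq_one_iff.mp hc)
  · exact F.t_not_z hxz
  · exact F.v_not_z hxz
  · exact F.tv_not_z hxz

theorem kq_ord {a : F.Ksub} (ha : IsConj (a : G) z) : orderOf (F.kmk a) = 2 := by
  obtain ⟨h2, -, hV⟩ := F.orderOf_zType ha
  refine orderOf_eq_prime ?_ fun e => hV (F.kmk_one.mp e)
  rw [← map_pow, pow_two, show a * a = 1 from Subtype.ext h2, map_one]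

theorem kz_ord : orderOf F.kz = 2 := F.kq_ord (IsConj.refl z)

theorem kz_mem : F.kz ∈ F.Sbar := F.mem_Sbar.mpr F.z_mem_S

/-- Involutions of the quotient. -/
theorem kq_invol {a : F.KQ} (ha : orderOf a = 2) :
    ∃ x : F.Ksub, IsConj (x : G) z ∧ F.kmk x = a := by
  obtain ⟨x, rfl⟩ := F.kmk_surj a
  have h2 : (x : G) * x ∈ F.Vsub := by
    apply (F.kmk_one (a := x * x)).mp
    rw [map_mul, ← pow_two, ← ha, pow_orderOf_eq_one]
  rcases F.exists_zType x.2 h2 with e | ⟨u, hu, e⟩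
  · rw [F.kmk_one.mpr e, orderOf_one] at ha
    norm_num at ha
  · refine ⟨x * ⟨u, F.S_le_K (F.V_le_S hu)⟩, e, ?_⟩
    rw [map_mul, (F.kmk_one (a := ⟨u, F.S_le_K (F.V_le_S hu)⟩)).mpr hu, mul_one]

theorem kq_one_class {a : F.KQ} (ha : orderOf a = 2) : ∃ k, k * a * k⁻¹ = F.kz := by
  obtain ⟨x, hx, rfl⟩ := F.kq_invol ha
  obtain ⟨k, hk, hkx⟩ := F.z_class_K x.2 hx
  refine ⟨F.kmk ⟨k, hk⟩, ?_⟩
  rw [← map_inv, ← map_mul, ← map_mul]
  exact congrArg F.kmk (Subtype.ext hkx)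

theorem kq_cent {a : F.KQ} (ha : a * F.kz = F.kz * a) : a ∈ F.Sbar := by
  obtain ⟨x, rfl⟩ := F.kmk_surj a
  rw [F.mem_Sbar]
  obtain ⟨u, hu, e⟩ := F.kmk_eq (a := ⟨z, F.z_mem_K⟩) (b := x * ⟨z, F.z_mem_K⟩ * x⁻¹)
    (by rw [map_mul, map_mul, map_inv]; exact (mul_inv_eq_iff_eq_mul.mpr ha).symm)
  have e' : (x : G) * z * (x : G)⁻¹ = z * u := e
  have hu1 := F.conj_z_of_V hu
    ((isConj_iff.mpr ⟨(x : G), e'⟩ : IsConj z (z * u)).symm)
  rw [hu1, mul_one] at e'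
  exact F.S_of_K x.2 (mul_inv_eq_iff_eq_mul.mp e')

theorem kq_cit : H65.CIT.CIT F.KQ := by
  intro a ha
  obtain ⟨k, hk⟩ := F.kq_one_class ha
  refine (isPGroup_cj k⁻¹ F.Sbar_two).to_le fun c hc => ?_
  rw [mem_cj, inv_inv]
  refine F.kq_cent ?_
  have hc' := mem_centralizer_singleton_iff.mp hc
  rw [← hk, conj_mul, conj_mul, hc']

theorem card_V : Nat.card F.Vsub = 4 := by
  have hd : ∀ {a b : G} {p q : R2}, W[a, p] → W[b, q] → p ≠ q → a ≠ b :=
    fun {a b p q} ha hb hne e => hne (isW_unique F.P ha (e ▸ hb))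
  obtain ⟨n1, n2, n3, n4⟩ := tb_ne
  have hcoe : (F.Vsub : Set G) = {1, t, F.vv, t * F.vv} := by
    ext x; exact Iff.rfl
  rw [show Nat.card F.Vsub = (F.Vsub : Set G).ncard from Nat.card_coe_set_eq _, hcoe,
    Set.ncard_insert_of_notMem, Set.ncard_insert_of_notMem, Set.ncard_pair]
  · exact hd F.hv (isW_mul F.P F.ht F.hv) (by decide)
  · simp only [Set.mem_insert_iff, Set.mem_singleton_iff, not_or]
    exact ⟨hd F.ht F.hv n4, hd F.ht (isW_mul F.P F.ht F.hv) (by decide)⟩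
  · simp only [Set.mem_insert_iff, Set.mem_singleton_iff, not_or]
    exact ⟨hd (isW_one F.P) F.ht n1.symm, hd (isW_one F.P) F.hv n2.symm,
      hd (isW_one F.P) (isW_mul F.P F.ht F.hv) n3.symm⟩

theorem card_preimage (U : Subgroup F.KQ) :
    Nat.card ((U.comap F.kmk).map F.Ksub.subtype) = 4 * Nat.card U := by
  rw [← Nat.card_congr (equivMapOfInjective _ _ F.Ksub.subtype_injective).toEquiv]
  set f := F.kmk.subgroupComap U with hf
  have hs : Function.Surjective f := MonoidHom.subgroupComap_surjective_of_surjective _ _ F.kmk_surj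
  have h1 := f.ker.card_mul_index
  rw [index_ker, MonoidHom.range_eq_top.mpr hs, card_top] at h1
  have h2 : Nat.card f.ker = 4 := by
    rw [← F.card_V]
    refine Nat.card_congr
      { toFun := fun x => ⟨((x.1 : F.Ksub) : G), F.kmk_one.mp (congrArg Subtype.val (MonoidHom.mem_ker.mp x.2))⟩
        invFun := fun u => ⟨⟨⟨u, F.S_le_K (F.V_le_S u.2)⟩, ?_⟩, ?_⟩
        left_inv := fun x => rfl
        right_inv := fun u => rfl }
    · show F.kmk _ ∈ U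
      rw [(F.kmk_one (a := ⟨u, F.S_le_K (F.V_le_S u.2)⟩)).mpr u.2]
      exact one_mem U
    · exact MonoidHom.mem_ker.mpr (Subtype.ext (F.kmk_one.mpr u.2))
  rw [← h1, h2]

theorem card_Sbar : Nat.card F.Sbar = 64 := by
  have h1 := F.card_preimage F.Sbar
  have e : (F.Sbar.comap F.kmk).map F.Ksub.subtype = F.Ssub := by
    ext x
    constructor
    · rintro ⟨a, ha, rfl⟩; exact F.mem_Sbar.mp ha
    · exact fun hx => ⟨⟨x, F.S_le_K hx⟩, F.mem_Sbar.mpr hx, rfl⟩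
  rw [e, F.card_S] at h1
  omega

theorem kq_card_le {U : Subgroup F.KQ} (hU : IsPGroup 2 U) : Nat.card U ≤ 64 := by
  haveI : Fact (Nat.Prime 2) := ⟨Nat.prime_two⟩
  have h1 := F.card_preimage U
  obtain ⟨n, hn⟩ := IsPGroup.iff_card.mp hU
  have h2 := F.card_le_S (U := (U.comap F.kmk).map F.Ksub.subtype)
    (fun x ⟨a, _, e⟩ => e ▸ a.2.1)
    (IsPGroup.of_card (n := n + 2) (by rw [h1, hn, pow_add]; ring))
    (fun x ⟨a, _, e⟩ => e ▸ (F.mem_K.mp a.2).2)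
  omega

omit F in
/-- An element on the first line, as an element of `K`. -/
theorem exists_line (F : Frame h s w t om hh) {p : R2} (hp : InE p) (hp0 : p ≠ 0) :
    ∃ a : F.Ksub, W[(a : G), p] ∧ (a : G) ∈ F.Ssub ∧ IsConj (a : G) z := by
  obtain ⟨x, hx⟩ := isW_exists F.P p
  have hxS : x ∈ F.Ssub := F.mem_S.mpr ⟨p, hx, (inE_props p hp).2.2.1⟩
  refine ⟨⟨x, F.S_le_K hxS⟩, hx, hxS, (F.isConj_z_iff hx ?_ ?_).mpr (inE_props p hp).1⟩
  · rw [isW_sq F.P hx, (inE_props p hp).2.1]; simp [tt, zp]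
  · exact fun e => hp0 (isW_unique F.P hx (e.symm ▸ isW_one F.P))

/-- Two involutions of `Sbar` that do not commute. -/
theorem exists_pair_lm : ∃ l m : F.KQ, orderOf l = 2 ∧ l ∈ F.Sbar ∧ m ∈ F.Sbar ∧ l * m ≠ m * l := by
  obtain ⟨a, ha, haS, haz⟩ := F.exists_line (p := ((1, 0, 0, 0), 0)) (by decide) (by decide)
  obtain ⟨b, hb, hbS, -⟩ := F.exists_line (p := ((0, 1, 0, 0), 0)) (by decide) (by decide)
  refine ⟨F.kmk a, F.kmk b, F.kq_ord haz, F.mem_Sbar.mpr haS, F.mem_Sbar.mpr hbS, fun e => ?_⟩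
  rw [← map_mul, ← map_mul] at e
  obtain ⟨u, hu, e'⟩ := F.kmk_eq e
  have e1 : (b : G) * a = a * b * u := e'
  rw [isW_comm F.P ha hb, mul_right_inj] at e1
  have hb2 : bil (((1, 0, 0, 0), 0) : R2) ((0, 1, 0, 0), 0) ≠ 0 := by decide
  rcases F.V_res hu with rfl | ⟨q, hq, hq1, -⟩
  · refine hb2 ?_
    rw [← tt_zero F.P] at e1
    exact Prod.ext (F.P.tt_inj e1).1 (F.P.tt_inj e1).2
  · rw [← e1] at hq
    rw [isW_unique F.P hq (isW_tt F.P _ _)] at hq1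
    exact absurd hq1 (by decide)

theorem kq_fpf_bot {N : Subgroup F.KQ} (hN : Odd (Nat.card N))
    (hnz : ∀ y ∈ F.Sbar, ∀ n ∈ N, y * n * y⁻¹ ∈ N) : N = ⊥ := by
  obtain ⟨-, hs, hzs⟩ := F.zs_type
  set sK : F.Ksub := ⟨s, F.S_le_K F.s_mem_S⟩
  set zK : F.Ksub := ⟨z, F.z_mem_K⟩
  have hfix : ∀ a : F.Ksub, IsConj (a : G) z → ∀ n ∈ N, F.kmk a * n * (F.kmk a)⁻¹ = n → n = 1 := by
    intro a ha n hn e
    obtain ⟨k, hk⟩ := F.kq_cit _ (F.kq_ord ha) ⟨n, mem_centralizer_singleton_iff.mpr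
      (mul_inv_eq_iff_eq_mul.mp e).symm⟩
    exact eq_one_of_odd_pow hN hn (k := k) (congrArg Subtype.val hk)
  have hx2 : ∀ a : F.Ksub, (a : G) * a = 1 → F.kmk a * F.kmk a = 1 := fun a ha => by
    rw [← map_mul, show a * a = 1 from Subtype.ext ha, map_one]
  refine (eq_bot_iff_forall _).mpr fun n hn => hfix (zK * sK) hzs n hn ?_
  rw [map_mul]
  calc F.kmk zK * F.kmk sK * n * (F.kmk zK * F.kmk sK)⁻¹
      = F.kmk zK * (F.kmk sK * n * (F.kmk sK)⁻¹) * (F.kmk zK)⁻¹ := by group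
    _ = F.kmk zK * n⁻¹ * (F.kmk zK)⁻¹ := by
      rw [inverts_of_fpf hN (hx2 sK F.P.ss) (hnz _ (F.mem_Sbar.mpr F.s_mem_S)) (hfix sK hs) hn]
    _ = (F.kmk zK * n * (F.kmk zK)⁻¹)⁻¹ := by group
    _ = n := by
      rw [inverts_of_fpf hN (hx2 zK h.zz) (hnz _ F.kz_mem) (hfix zK (IsConj.refl z)) hn, inv_inv]

theorem exists_invol_normal {N : Subgroup F.KQ} [hN : N.Normal] (hne : N ≠ ⊥) :
    ∃ a ∈ N, orderOf a = 2 := by
  rcases Nat.even_or_odd (Nat.card N) with he | ho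
  · haveI : Fact (Nat.Prime 2) := ⟨Nat.prime_two⟩
    obtain ⟨a, ha⟩ := exists_prime_orderOf_dvd_card' 2 he.two_dvd
    exact ⟨a, a.2, by rw [Subgroup.orderOf_coe, ha]⟩
  · exact absurd (F.kq_fpf_bot ho fun y _ n hn => hN.conj_mem n hn y) hne

theorem invol_mem_normal {N : Subgroup F.KQ} [hN : N.Normal] (hne : N ≠ ⊥) {b : F.KQ}
    (hb : orderOf b = 2) : b ∈ N := by
  obtain ⟨a, ha, ha2⟩ := F.exists_invol_normal hne
  obtain ⟨k, hk⟩ := F.kq_one_class ha2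
  obtain ⟨l, hl⟩ := F.kq_one_class hb
  have : b = (l⁻¹ * k) * a * (l⁻¹ * k)⁻¹ := by
    calc b = l⁻¹ * (l * b * l⁻¹) * l := by group
      _ = _ := by rw [hl, ← hk]; group
  rw [this]
  exact hN.conj_mem a ha _

theorem Sbar_le_normal {N : Subgroup F.KQ} [hN : N.Normal] (hne : N ≠ ⊥) : F.Sbar ≤ N := by
  rintro _ ⟨a, ha, rfl⟩
  obtain ⟨p, hp, hpb⟩ := F.mem_S.mp ha
  have hline : ∀ (y : F.Ksub) (e : R2), W[(y : G), e] → InE e → F.kmk y ∈ N := by
    intro y e hy he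
    by_cases h1 : (y : G) = 1
    · rw [show y = 1 from Subtype.ext h1, map_one]; exact one_mem N
    · refine F.invol_mem_normal hne (F.kq_ord ((F.isConj_z_iff hy ?_ h1).mpr (inE_props e he).1))
      rw [isW_sq F.P hy, (inE_props e he).2.1]; simp [tt, zp]
  obtain ⟨x, hx, e, he, hE⟩ := gen_S p hpb
  have hxV : ∃ u ∈ F.Vsub, W[u, x] := by
    fin_cases hx
    · exact ⟨1, one_mem _, isW_one F.P⟩
    · exact ⟨t, Or.inr (Or.inl rfl), F.ht⟩
    · exact ⟨F.vv, Or.inr (Or.inr (Or.inl rfl)), F.hv⟩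
    · exact ⟨t * F.vv, Or.inr (Or.inr (Or.inr rfl)), isW_mul F.P F.ht F.hv⟩
  have heE : InE e := by fin_cases he <;> decide
  obtain ⟨u, hu, huW⟩ := hxV
  obtain ⟨y, hy⟩ := isW_exists F.P e
  have hyS : y ∈ F.Ssub := F.mem_S.mpr ⟨e, hy, (inE_props e heE).2.2.1⟩
  set uK : F.Ksub := ⟨u, F.S_le_K (F.V_le_S hu)⟩
  set yK : F.Ksub := ⟨y, F.S_le_K hyS⟩
  have h1 : F.kmk uK = 1 := F.kmk_one.mpr hu
  have h2 := hline (a * uK * yK) (p + x + e) (isW_mul F.P (isW_mul F.P hp huW) hy) hE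
  rw [map_mul, map_mul, h1, mul_one] at h2
  simpa using mul_mem h2 (inv_mem (hline yK e hy heE))

theorem no_normal_two {N : Subgroup F.KQ} [hN : N.Normal] (hN2 : IsPGroup 2 N) : N = ⊥ := by
  by_contra hne
  have heq := eq_of_le_of_card_ge (F.Sbar_le_normal hne)
    ((F.kq_card_le hN2).trans_eq F.card_Sbar.symm)
  obtain ⟨l, m, hl, hlS, hmS, hlm⟩ := F.exists_pair_lm
  obtain ⟨k, hk⟩ := F.kq_one_class hl
  have hm : k * m * k⁻¹ ∈ F.Sbar := heq ▸ hN.conj_mem m (heq ▸ hmS) k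
  obtain ⟨b, hb, hbm⟩ := hm
  have hcomm : F.kz * (k * m * k⁻¹) = k * m * k⁻¹ * F.kz := by
    rw [← hbm, kz, ← map_mul, ← map_mul]
    exact congrArg F.kmk (Subtype.ext (F.mem_T.mp (F.S_le_T hb)).1.symm)
  rw [← hk, conj_mul, conj_mul] at hcomm
  exact hlm (mul_left_cancel (mul_right_cancel hcomm))

omit F in
/-- The subgroup generated by the involutions. -/
def Mq (F : Frame h s w t om hh) : Subgroup F.KQ := normalClosure {F.kz}

theorem kz_mem_Mq : F.kz ∈ F.Mq := subset_normalClosure rfl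

theorem Mq_ne : F.Mq ≠ ⊥ := fun e => by
  have h1 := F.kz_mem_Mq
  rw [e, mem_bot] at h1
  have h2 := F.kz_ord
  rw [h1, orderOf_one] at h2
  norm_num at h2

instance Mq_normal : F.Mq.Normal := by unfold Mq; infer_instance

theorem Mq_le {N : Subgroup F.KQ} [N.Normal] (hne : N ≠ ⊥) : F.Mq ≤ N :=
  normalClosure_le_normal (Set.singleton_subset_iff.mpr (F.invol_mem_normal hne F.kz_ord))

theorem Sbar_le_Mq : F.Sbar ≤ F.Mq := F.Sbar_le_normal F.Mq_ne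

theorem Mq_simple : IsSimpleGroup F.Mq := by
  haveI : Nontrivial F.Mq := (Subgroup.nontrivial_iff_ne_bot _).mpr F.Mq_ne
  refine ⟨fun L hL => or_iff_not_imp_left.mpr fun hLne => ?_⟩
  haveI := hL
  obtain ⟨L₀, hL₀n, hL₀ne, hL₀le, hmin⟩ := Hall.exists_minimal_normal_le L hLne
  suffices L₀ = ⊤ from top_le_iff.mp (this ▸ hL₀le)
  by_contra hL₀top
  have hnorm : ∀ y ∈ F.Mq, ∀ n ∈ L₀.map F.Mq.subtype, y * n * y⁻¹ ∈ L₀.map F.Mq.subtype := by
    rintro y hy _ ⟨n, hn, rfl⟩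
    exact ⟨_, hL₀n.conj_mem n hn ⟨y, hy⟩, rfl⟩
  have hne0 : L₀.map F.Mq.subtype ≠ ⊥ := fun e =>
    hL₀ne ((map_eq_bot_iff_of_injective _ F.Mq.subtype_injective).mp e)
  haveI : Fact (Nat.Prime 2) := ⟨Nat.prime_two⟩
  obtain ⟨a, haL, ha2⟩ : ∃ a ∈ L₀.map F.Mq.subtype, orderOf a = 2 := by
    rcases Nat.even_or_odd (Nat.card (L₀.map F.Mq.subtype)) with he | ho
    · obtain ⟨a, ha⟩ := exists_prime_orderOf_dvd_card' 2 he.two_dvd
      exact ⟨a, a.2, by rw [Subgroup.orderOf_coe, ha]⟩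
    · exact absurd (F.kq_fpf_bot ho fun y hy n hn => hnorm y (F.Sbar_le_Mq hy) n hn) hne0
  -- some conjugate is different
  obtain ⟨g, hg⟩ : ∃ g : F.KQ, ¬ ∀ n ∈ L₀.map F.Mq.subtype, g * n * g⁻¹ ∈ L₀.map F.Mq.subtype := by
    by_contra hall
    push Not at hall
    haveI : (L₀.map F.Mq.subtype).Normal := ⟨fun n hn g => hall g n hn⟩
    refine hL₀top (eq_top_iff.mpr fun x _ => ?_)
    obtain ⟨y, hy, e⟩ := F.Mq_le hne0 x.2
    exact (Subtype.ext e : y = x) ▸ hy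
  set L₁ : Subgroup F.Mq := (cj g (L₀.map F.Mq.subtype)).subgroupOf F.Mq with hL₁
  have hmem₁ : ∀ x : F.Mq, x ∈ L₁ ↔ g⁻¹ * (x : F.KQ) * g ∈ L₀.map F.Mq.subtype := fun x => by
    rw [hL₁, mem_subgroupOf, mem_cj]
  haveI hL₁n : L₁.Normal := ⟨fun n hn y => by
    rw [hmem₁] at hn ⊢
    have h1 := hnorm (g⁻¹ * (y : F.KQ) * g) (by
      simpa using F.Mq_normal.conj_mem _ y.2 g⁻¹) _ hn
    convert h1 using 1
    simp only [Subgroup.coe_mul, InvMemClass.coe_inv]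
    group⟩
  haveI : (L₀ ⊓ L₁).Normal := inferInstance
  have hinter : L₀ ⊓ L₁ = ⊥ := by
    by_contra hne
    have e : L₀ ⊓ L₁ = L₀ := (hmin (L₀ ⊓ L₁) inferInstance inf_le_left).resolve_left hne
    have hle : L₀.map F.Mq.subtype ≤ cj g (L₀.map F.Mq.subtype) := by
      rintro _ ⟨n, hn, rfl⟩
      have : n ∈ L₁ := (e.symm ▸ hn : n ∈ L₀ ⊓ L₁).2
      exact mem_cj.mpr ((hmem₁ n).mp this)
    have heq := eq_of_le_of_card_ge hle (card_cj g _).le
    refine hg fun n hn => ?_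
    rw [heq]
    exact conj_mem_cj hn
  have hL₁ne : L₁ ≠ ⊥ := by
    intro e
    apply hne0
    refine (eq_bot_iff_forall _).mpr fun n hn => ?_
    have hgn : g * n * g⁻¹ ∈ F.Mq := F.Mq_normal.conj_mem n (by
      obtain ⟨m, -, rfl⟩ := hn; exact m.2) g
    have : (⟨_, hgn⟩ : F.Mq) ∈ L₁ := (hmem₁ _).mpr (by simpa [mul_assoc] using hn)
    rw [e, mem_bot] at this
    exact conj_eq_one_iff.mp (congrArg Subtype.val this)
  -- `L₁` centralises an involution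
  have hL₁2 : IsPGroup 2 L₁ := fun n => by
    obtain ⟨a', ha', hae⟩ := haL
    have hcomm := Subgroup.commute_of_normal_of_disjoint L₀ L₁ hL₀n hL₁n
      (disjoint_iff.mpr hinter) a' n ha' n.2
    obtain ⟨k, hk⟩ := F.kq_cit a ha2 ⟨((n : F.Mq) : F.KQ), mem_centralizer_singleton_iff.mpr (by
      rw [← hae]; exact (congrArg Subtype.val hcomm.eq).symm)⟩
    exact ⟨k, Subtype.ext (Subtype.ext (congrArg Subtype.val hk :))⟩
  haveI : (Cfsg.pCore 2 F.KQ).Normal := inferInstance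
  have hbot := F.no_normal_two (N := Cfsg.pCore 2 F.KQ) Cores.pCore_isPGroup
  have h1 : L₁ ≤ Cfsg.pCore 2 F.Mq := le_sSup ⟨hL₁n, hL₁2⟩
  have h2 := Cores.map_pCore_le_of_normal (p := 2) F.Mq
  rw [hbot] at h2
  apply hL₁ne
  refine (eq_bot_iff_forall _).mpr fun n hn => ?_
  exact Subtype.ext (mem_bot.mp (h2 ⟨n, h1 hn, rfl⟩))

/-- Witnesses for the recognition of the normal subgroup generated by the image of `z`. -/
theorem Mq_hyps : 64 ∣ Nat.card F.Mq ∧ ¬ 128 ∣ Nat.card F.Mq ∧ (∃ a b : F.Mq, a * b ≠ b * a) ∧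
    ∃ S T : Sylow 2 F.Mq, S ≠ T ∧ (S : Subgroup F.Mq) ⊓ (T : Subgroup F.Mq) ≠ ⊥ := by
  haveI : Fact (Nat.Prime 2) := ⟨Nat.prime_two⟩
  haveI := F.Mq_simple
  obtain ⟨l, m, hl, hlS, hmS, hlm⟩ := F.exists_pair_lm
  set S' := F.Sbar.subgroupOf F.Mq with hS'
  have hS'c : Nat.card S' = 64 := by
    rw [Nat.card_congr (subgroupOfEquivOfLe F.Sbar_le_Mq).toEquiv, F.card_Sbar]
  have hle : ∀ U : Subgroup F.Mq, IsPGroup 2 U → Nat.card U ≤ 64 := fun U hU => by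
    rw [Nat.card_congr (equivMapOfInjective U _ F.Mq.subtype_injective).toEquiv]
    exact F.kq_card_le (hU.map _)
  have hsyl : ∀ U : Subgroup F.Mq, Nat.card U = 64 → ∃ P : Sylow 2 F.Mq, (P : Subgroup F.Mq) = U := by
    intro U hU
    obtain ⟨P, hP⟩ := (IsPGroup.of_card (p := 2) (n := 6) (G := U) (by rw [hU]; rfl)).exists_le_sylow
    exact ⟨P, (eq_of_le_of_card_ge hP (hU ▸ hle _ P.isPGroup')).symm⟩
  obtain ⟨P, hP⟩ := hsyl S' hS'c
  obtain ⟨k, hk⟩ := F.kq_one_class hl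
  set U := (cj k⁻¹ F.Sbar).subgroupOf F.Mq with hU
  have hUle : cj k⁻¹ F.Sbar ≤ F.Mq := fun x hx => by
    rw [mem_cj, inv_inv] at hx
    have := F.Mq_normal.conj_mem _ (F.Sbar_le_Mq hx) k⁻¹
    rwa [show k⁻¹ * (k * x * k⁻¹) * k⁻¹⁻¹ = x by group] at this
  have hUc : Nat.card U = 64 := by
    rw [Nat.card_congr (subgroupOfEquivOfLe hUle).toEquiv, card_cj, F.card_Sbar]
  obtain ⟨P', hP'⟩ := hsyl U hUc
  have hTI : ∃ S T : Sylow 2 F.Mq, S ≠ T ∧ (S : Subgroup F.Mq) ⊓ (T : Subgroup F.Mq) ≠ ⊥ := by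
    have hzk : ∀ y ∈ F.Sbar, y * F.kz = F.kz * y := by
      rintro _ ⟨b, hb, rfl⟩
      rw [kz, ← map_mul, ← map_mul]
      exact congrArg F.kmk (Subtype.ext (F.mem_T.mp (F.S_le_T hb)).1)
    refine ⟨P, P', fun e => ?_, fun e => ?_⟩
    · have hm : (⟨m, F.Sbar_le_Mq hmS⟩ : F.Mq) ∈ U := by rw [← hP', ← e, hP]; exact hmS
      rw [hU, mem_subgroupOf, mem_cj, inv_inv] at hm
      have := hzk _ hm
      rw [← hk, conj_mul, conj_mul] at this
      exact hlm (mul_left_cancel (mul_right_cancel this)).symm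
    · have hz1 : (⟨F.kz, F.kz_mem_Mq⟩ : F.Mq) ∈ (P : Subgroup F.Mq) ⊓ (P' : Subgroup F.Mq) := by
        rw [hP, hP']
        refine ⟨F.kz_mem, ?_⟩
        show F.kz ∈ cj k⁻¹ F.Sbar
        rw [mem_cj, inv_inv]
        refine F.kq_cent ?_
        rw [← hk, conj_mul, conj_mul, hk, hzk l hlS]
      rw [e, mem_bot] at hz1
      have h1 := F.kz_ord
      rw [show F.kz = 1 from congrArg Subtype.val hz1, orderOf_one] at h1
      norm_num at h1
  have h64 : 64 ∣ Nat.card F.Mq := hS'c ▸ card_subgroup_dvd_card S'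
  have h128 : ¬ 128 ∣ Nat.card F.Mq := fun hd => by
    obtain ⟨U, hU⟩ := Sylow.exists_subgroup_card_pow_prime 2 (n := 7) hd
    have := hle U (IsPGroup.of_card (n := 7) hU)
    omega
  exact ⟨h64, h128,
    ⟨⟨l, F.Sbar_le_Mq hlS⟩, ⟨m, F.Sbar_le_Mq hmS⟩, fun e => hlm (congrArg Subtype.val e)⟩, hTI⟩

/-- The quotient has order `20160`; it is simple. -/
theorem kq_main : Nat.card F.KQ = 20160 ∧ IsSimpleGroup F.KQ := by
  haveI := F.Mq_simple
  obtain ⟨h64, h128, hnc, hTI⟩ := F.Mq_hyps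
  obtain ⟨hcard, hcls⟩ := LThree.recognise (G := F.Mq) (F.kq_cit.subgroup F.Mq) h64 h128 hnc hTI
  have htop : F.Mq = ⊤ := by
    refine eq_top_iff.mpr fun x _ => ?_
    have hx2 : orderOf (x * F.kz * x⁻¹) = 2 := by
      rw [H65.orderOf_conj', F.kz_ord]
    set a : F.Mq := ⟨_, F.Mq_normal.conj_mem _ F.kz_mem_Mq x⟩
    set b : F.Mq := ⟨F.kz, F.kz_mem_Mq⟩
    obtain ⟨c, hc⟩ := isConj_iff.mp (hcls b a (by rw [← Subgroup.orderOf_coe]; exact F.kz_ord)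
      (by rw [← Subgroup.orderOf_coe]; exact hx2))
    have e : (c : F.KQ) * F.kz * (c : F.KQ)⁻¹ = x * F.kz * x⁻¹ := congrArg Subtype.val hc
    have hmem : (c : F.KQ)⁻¹ * x ∈ F.Sbar := F.kq_cent (by
      calc (c : F.KQ)⁻¹ * x * F.kz = (c : F.KQ)⁻¹ * (x * F.kz * x⁻¹) * x := by group
        _ = F.kz * ((c : F.KQ)⁻¹ * x) := by rw [← e]; group)
    simpa using mul_mem c.2 (F.Sbar_le_Mq hmem)
  refine ⟨?_, ?_⟩
  · rw [← hcard, htop, card_top]
  · have e : F.Mq ≃* F.KQ := (MulEquiv.subgroupCongr htop).trans Subgroup.topEquiv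
    haveI : Nontrivial F.KQ := ⟨⟨F.kz, 1, fun e' => by
      have := F.kz_ord
      rw [e', orderOf_one] at this
      norm_num at this⟩⟩
    exact IsSimpleGroup.isSimpleGroup_of_surjective e.toMonoidHom e.surjective

/-- The quotient is `PSL(3, 4)`. -/
theorem kq_iso : ∃ (K : Type) (_ : Field K) (_ : Fintype K), Fintype.card K = 4 ∧
    Nonempty (F.KQ ≃* Matrix.ProjectiveSpecialLinearGroup (Fin 3) K) := by
  haveI := F.Mq_simple
  haveI := F.kq_main.2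
  obtain ⟨h64, h128, hnc, hTI⟩ := F.Mq_hyps
  obtain ⟨K, iK, iKt, hK, ⟨e⟩⟩ :=
    LThree.recognise_iso (G := F.Mq) (F.kq_cit.subgroup F.Mq) h64 h128 hnc hTI
  have htop : F.Mq = ⊤ := F.Mq_normal.eq_bot_or_eq_top.resolve_left F.Mq_ne
  exact ⟨K, iK, iKt, hK, ⟨((MulEquiv.subgroupCongr htop).trans Subgroup.topEquiv).symm.trans e⟩⟩

end Cfsg.Agent.H55.Suz.Frame
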