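import Mathlib

/-!
Three by three matrices over four symbols, for kernel computation.
-/

set_option autoImplicit false
set_option maxRecDepth 20000
set_option synthInstance.maxSize 4000

namespace Cfsg.Agent.H55.Suz.MatFour

/-- A symbol `a + b ω`. -/
abbrev B4 : Type := Bool × Bool

/-- Sum. -/
def add (x y : B4) : B4 := (xor x.1 y.1, xor x.2 y.2)

/-- Product, with `ω ^ 2 = ω + 1`. -/
def mul (x y : B4) : B4 :=
  (xor (x.1 && y.1) (x.2 && y.2), xor (xor (x.1 && y.2) (x.2 && y.1)) (x.2 && y.2))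

/-- Zero. -/
def o : B4 := (false, false)
/-- One. -/
def i : B4 := (true, false)

/-- A vector. -/
abbrev Vec : Type := B4 × B4 × B4

/-- A matrix, by rows. -/
abbrev Mat : Type := Vec × Vec × Vec

/-- Dot product. -/
def dot (v w : Vec) : B4 := add (add (mul v.1 w.1) (mul v.2.1 w.2.1)) (mul v.2.2 w.2.2)

/-- Columns. -/
def colv (A : Mat) : Mat :=
  ((A.1.1, A.2.1.1, A.2.2.1), (A.1.2.1, A.2.1.2.1, A.2.2.2.1), (A.1.2.2, A.2.1.2.2, A.2.2.2.2))

/-- Product of matrices. -/
def mmul (A B : Mat) : Mat :=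
  let C := colv B
  ((dot A.1 C.1, dot A.1 C.2.1, dot A.1 C.2.2), (dot A.2.1 C.1, dot A.2.1 C.2.1, dot A.2.1 C.2.2),
    (dot A.2.2 C.1, dot A.2.2 C.2.1, dot A.2.2 C.2.2))

/-- The matrix `1 + v φ`. -/
def tr (v p : Vec) : Mat :=
  ((add i (mul v.1 p.1), mul v.1 p.2.1, mul v.1 p.2.2),
    (mul v.2.1 p.1, add i (mul v.2.1 p.2.1), mul v.2.1 p.2.2),
    (mul v.2.2 p.1, mul v.2.2 p.2.1, add i (mul v.2.2 p.2.2)))

/-- The unitriangular matrix with the given entries. -/
def uni (x w y : B4) : Mat := ((i, x, w), (o, i, y), (o, o, i))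

/-- The identity. -/
def e1 : Mat := uni o o o

/-- The central involution. -/
def T : Mat := uni o i o

/-- Powers. -/
def mpow (A : Mat) : ℕ → Mat
  | 0 => e1
  | n + 1 => mmul (mpow A n) A

/-- Scalar test. -/
def scal (A : Mat) : Bool :=
  A.1.2.1 == o && A.1.2.2 == o && A.2.1.1 == o && A.2.1.2.2 == o && A.2.2.1 == o && A.2.2.2.1 == o &&
    A.1.1 == A.2.1.2.1 && A.1.1 == A.2.2.2.2

/-- The conditions on the partner. -/
def good (b f c : Mat) : Bool :=
  scal (mpow (mmul b c) 3) && scal (mpow (mmul (mmul (mmul T b) c) f) 5) &&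
    scal (mpow (mmul (mmul T b) c) 5)

/-- One case of the check: a partner passing the relations has `c` or `c T` good. -/
def chk (b f g : Mat) (w : B4) : Bool :=
  !(scal (mpow (mmul b f) 3) && scal (mpow (mmul b g) 3) && scal (mpow (mmul T b) 5) &&
      scal (mpow (mmul (mmul b f) g) 5)) ||
    good b f (uni o w o) || good b f (uni o (add w i) o)

theorem commT : ∀ v p : Vec, dot p v = o → mmul (tr v p) T = mmul T (tr v p) →
    ∃ x w y : B4, tr v p = uni x w y ∧ (x = o ∨ y = o) := by decide +kernel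

theorem fg_shape : ∀ x w y x' w' y' : B4, (x = o ∨ y = o) → (x' = o ∨ y' = o) →
    scal (mmul (mmul (uni x w y) (uni x' w' y')) (mmul (mmul (uni x w y) (uni x' w' y')) T)) = true →
    (y = o ∧ x' = o ∧ mul x y' = i) ∨ (x = o ∧ y' = o ∧ mul x' y = i) := by decide +kernel

theorem normalise : ∀ x w w' y : B4, mul x y = i → ∃ x0 y0 : B4, ∃ w0 : B4,
    mmul (uni x0 o y0) (uni x0 w0 y0) = e1 ∧
    mmul (mmul (uni x0 o y0) (uni x w o)) (uni x0 w0 y0) = uni x o o ∧
    mmul (mmul (uni x0 o y0) (uni o w' y)) (uni x0 w0 y0) = uni o o y := by decide +kernel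

theorem uni_T : ∀ x y w0 : B4, mmul (uni x o y) (uni x w0 y) = e1 →
    mmul (mmul (uni x o y) T) (uni x w0 y) = T := by decide +kernel

theorem comm_centre : ∀ x y : B4, mul x y = i → ∀ x' w' y' : B4, (x' = o ∨ y' = o) →
    mmul (uni x' w' y') (uni x o o) = mmul (uni x o o) (uni x' w' y') →
    mmul (uni x' w' y') (uni o o y) = mmul (uni o o y) (uni x' w' y') →
    x' = o ∧ y' = o := by decide +kernel

theorem det_uni : ∀ x y : B4, mul x y = i → x ≠ o ∧ y ≠ o := by decide

set_option maxHeartbeats 1000000 in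
theorem main : ∀ x y : B4, mul x y = i → ∀ v p : Vec, dot p v = o → ∀ w : B4,
    w ≠ o → w ≠ i → chk (tr v p) (uni x o o) (uni o o y) w = true ∧ chk (tr v p) (uni o o y) (uni x o o) w = true := by
  decide +kernel

theorem add_T : ∀ w : B4, mmul (uni o w o) T = uni o (add w i) o := by decide

end Cfsg.Agent.H55.Suz.MatFour
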