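import Cfsg.Agent.H55.Suz.LThree
import Cfsg.Agent.H55.Suz.MatFour
import Cfsg.Agent.H59.F4
import Cfsg.Agent.H27.PermFamily

/-!
In `PSL(3, 4)` a quadruple with the relations of the alternating group of degree six extends by one
of the involutions centralising three of them.
-/

set_option autoImplicit false
set_option linter.unusedSectionVars false
set_option maxRecDepth 20000
set_option synthInstance.maxSize 4000

namespace Cfsg.Agent.H55.Suz.LThreeModel

open Matrix MatFour Cfsg.Agent.H59.HeSp4 Cfsg.Agent.H44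

/-- The special linear group. -/
abbrev S := SpecialLinearGroup (Fin 3) F4

/-- The projective group. -/
abbrev L := ProjectiveSpecialLinearGroup (Fin 3) F4

/-- Symbols of field elements. -/
def sy (x : F4) : B4 := (decide ((x : K4).1 = 1), decide ((x : K4).2 = 1))

theorem sy_add : ∀ x y : F4, sy (x + y) = add (sy x) (sy y) := by decide

theorem sy_mul : ∀ x y : F4, sy (x * y) = MatFour.mul (sy x) (sy y) := by decide

theorem sy_zero : sy 0 = o := by decide

theorem sy_one : sy 1 = MatFour.i := by decide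

theorem sy_inj : ∀ x y : F4, sy x = sy y → x = y := by decide

theorem sy_surj : ∀ b : B4, ∃ x : F4, sy x = b := by decide

theorem cube_one : ∀ x : F4, x * x = 1 → x = 1 := by decide

/-- The matrix of symbols. -/
def toM (A : Matrix (Fin 3) (Fin 3) F4) : Mat :=
  ((sy (A 0 0), sy (A 0 1), sy (A 0 2)), (sy (A 1 0), sy (A 1 1), sy (A 1 2)),
    (sy (A 2 0), sy (A 2 1), sy (A 2 2)))

/-- The matrix of symbols of an element. -/
def M (A : S) : Mat := toM A.1

theorem M_one : M 1 = e1 := by simp [M, toM, sy_zero, sy_one, e1, uni]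

theorem M_mul (A B : S) : M (A * B) = mmul (M A) (M B) := by
  simp [M, toM, mmul, colv, dot, Matrix.mul_apply, Fin.sum_univ_three, sy_add, sy_mul]

theorem M_pow (A : S) : ∀ n : ℕ, M (A ^ n) = mpow (M A) n
  | 0 => M_one
  | n + 1 => by rw [pow_succ, M_mul, M_pow A n]; rfl

theorem M_inj {A B : S} (e : M A = M B) : A = B := by
  simp only [M, toM, Prod.mk.injEq] at e
  obtain ⟨⟨a, b, c⟩, ⟨d, f, g⟩, k, l, m⟩ := e
  refine Subtype.ext (Matrix.ext fun x y => sy_inj _ _ ?_)
  fin_cases x <;> fin_cases y <;> assumption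

/-- The projection. -/
abbrev q : S →* L := QuotientGroup.mk' _

theorem q_one_iff {A : S} : q A = 1 ↔ scal (M A) = true := by
  rw [QuotientGroup.mk'_apply, QuotientGroup.eq_one_iff, Matrix.SpecialLinearGroup.mem_center_iff]
  constructor
  · rintro ⟨r, -, hr⟩
    simp [M, toM, scal, ← hr, sy_zero]
  · intro hA
    simp only [M, toM, scal, Bool.and_eq_true, beq_iff_eq, ← sy_zero] at hA
    obtain ⟨⟨⟨⟨⟨⟨⟨a, b⟩, c⟩, d⟩, f⟩, g⟩, k⟩, l⟩ := hA
    have a := sy_inj _ _ a
    have b := sy_inj _ _ b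
    have c := sy_inj _ _ c
    have d := sy_inj _ _ d
    have f := sy_inj _ _ f
    have g := sy_inj _ _ g
    have k := sy_inj _ _ k
    have l := sy_inj _ _ l
    refine ⟨A.1 0 0, ?_, ?_⟩
    · have := A.2
      rw [Matrix.det_fin_three, a, b, c, d, f, g, ← k, ← l] at this
      rw [Fintype.card_fin, pow_succ, pow_two]
      simpa using this
    · ext x y
      fin_cases x <;> fin_cases y <;> simp [a, b, c, d, f, g, ← k, ← l]

theorem rel_scal {A : S} {n : ℕ} (e : q A ^ n = 1) : scal (mpow (M A) n) = true := by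
  rw [← M_pow, ← q_one_iff, map_pow, e]

theorem scal_rel {A : S} {n : ℕ} (e : scal (mpow (M A) n) = true) : q A ^ n = 1 := by
  rw [← map_pow, q_one_iff, M_pow]; exact e

theorem lift_unique {U V : S} (hU : U * U = 1) (hV : V * V = 1) (e : q U = q V) : U = V := by
  have hc : U⁻¹ * V ∈ Subgroup.center S := (QuotientGroup.eq).mp e
  obtain ⟨r, hr, hA⟩ := Matrix.SpecialLinearGroup.mem_center_iff.mp hc
  have hV' : V = U * (U⁻¹ * V) := by group
  have h2 : U⁻¹ * V * (U⁻¹ * V) = 1 := by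
    have := Subgroup.mem_center_iff.mp hc U
    calc U⁻¹ * V * (U⁻¹ * V) = U⁻¹ * U⁻¹ * (U * (U⁻¹ * V)) * (U * (U⁻¹ * V)) := by
          rw [mul_assoc (U⁻¹ * U⁻¹), mul_assoc U (U⁻¹ * V), ← mul_assoc (U⁻¹ * V) U, ← this]; group
      _ = U⁻¹ * U⁻¹ * (V * V) := by rw [← hV']; group
      _ = (U * U)⁻¹ := by rw [hV]; group
      _ = 1 := by rw [hU, inv_one]
  have hr1 : r = 1 := cube_one r (by
    have h3 := congrArg (fun B : S => B.1 0 0) h2
    simp only [Matrix.SpecialLinearGroup.coe_mul, ← hA, ← map_mul, Matrix.SpecialLinearGroup.coe_one] at h3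
    simpa using h3)
  have : U⁻¹ * V = 1 := Subtype.ext (by rw [← hA, hr1, map_one]; rfl)
  exact inv_mul_eq_one.mp this

theorem lift_comm {U V : S} (hU : U * U = 1) (hV : V * V = 1) (e : q U * q V = q V * q U) :
    U * V = V * U := by
  refine mul_inv_eq_iff_eq_mul.mp (lift_unique (U := U * V * U⁻¹) ?_ hV ?_)
  · rw [conj_mul, hV, mul_one, mul_inv_cancel]
  · rw [map_mul, map_mul, map_inv, e, mul_inv_cancel_right]

theorem exists_lift {x : L} (h2 : x * x = 1) (h1 : x ≠ 1) : ∃ U P : S, q U = x ∧ U * U = 1 ∧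
    U.1 * P.1 = P.1 * (1 + Matrix.single 0 2 1) ∧ ∃ v p, M U = tr v p ∧ dot p v = o := by
  obtain ⟨A, rfl⟩ := QuotientGroup.mk'_surjective _ x
  have hA2 : q (A * A) = 1 := by rw [map_mul, h2]
  obtain ⟨r, hr, hAr⟩ := Matrix.SpecialLinearGroup.mem_center_iff.mp
    ((QuotientGroup.eq_one_iff _).mp hA2)
  set U := A ^ 3 with hUdef
  have hU2 : U * U = 1 := by
    rw [hUdef, ← pow_add, show 3 + 3 = 2 * 3 from rfl, pow_mul, pow_two]
    apply Subtype.ext
    rw [Matrix.SpecialLinearGroup.coe_pow, ← hAr, ← map_pow,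
      show r ^ 3 = 1 by simpa using hr, map_one]
    rfl
  have hqU : q U = q A := by
    rw [hUdef, pow_succ, pow_two, map_mul, hA2, one_mul]
  have hne : U ≠ 1 := fun e => h1 (by show q A = 1; rw [← hqU, e, map_one])
  obtain ⟨P, hP⟩ := LThree.exists_conj_transvection U hne (by
    have h := congrArg Subtype.val hU2
    simp only [Matrix.SpecialLinearGroup.coe_mul, Matrix.SpecialLinearGroup.coe_one] at h
    simp only [sub_mul, mul_sub, one_mul, mul_one, h]
    ext a b
    simp only [Matrix.sub_apply, Matrix.zero_apply]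
    exact (show ∀ s t : F4, s - t - (t - s) = 0 by decide) _ _)
  refine ⟨U, P, hqU, hU2, hP, (sy (P.1 0 0), sy (P.1 1 0), sy (P.1 2 0)),
    (sy ((P⁻¹).1 2 0), sy ((P⁻¹).1 2 1), sy ((P⁻¹).1 2 2)), ?_, ?_⟩
  · have hP1 : P.1 * (P⁻¹).1 = 1 := by
      rw [← Matrix.SpecialLinearGroup.coe_mul, mul_inv_cancel, Matrix.SpecialLinearGroup.coe_one]
    have hU : U.1 = 1 + P.1 * Matrix.single 0 2 1 * (P⁻¹).1 := by
      calc U.1 = U.1 * (P.1 * (P⁻¹).1) := by rw [hP1, mul_one]
        _ = _ := by rw [← mul_assoc, hP, mul_add, mul_one, add_mul, hP1]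
    simp only [M, toM, hU, tr, Matrix.add_apply, Matrix.mul_apply, Fin.sum_univ_three,
      Matrix.single, Matrix.one_apply]
    simp [sy_add, sy_mul, sy_one, sy_zero]
  · have h := congrArg (fun B : S => B.1 2 0) (inv_mul_cancel P)
    simp only [Matrix.SpecialLinearGroup.coe_mul, Matrix.mul_apply, Fin.sum_univ_three,
      Matrix.SpecialLinearGroup.coe_one, Matrix.one_apply] at h
    have h' := congrArg sy h
    simp only [sy_add, sy_mul] at h'
    simpa [dot, sy_zero] using h'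

/-- An upper unitriangular element. -/
def uniS (x w y : F4) : S :=
  ⟨!![1, x, w; 0, 1, y; 0, 0, 1], by simp [Matrix.det_fin_three]⟩

theorem M_uniS (x w y : F4) : M (uniS x w y) = uni (sy x) (sy w) (sy y) := by
  simp [M, toM, uniS, uni, sy_one, sy_zero]

/-- The central transvection. -/
def Tm : S := uniS 0 1 0

theorem M_Tm : M Tm = T := by rw [Tm, M_uniS, sy_zero, sy_one]; rfl

theorem Tm_sq : Tm * Tm = 1 := M_inj (by rw [M_mul, M_Tm, M_one]; decide)

/-- The property of a quadruple and an involution. -/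
def Good (a b f c : L) : Prop :=
  ∃ c', (c' = c ∨ c' = c * a) ∧ (b * c') ^ 3 = 1 ∧ (a * b * c' * f) ^ 5 = 1 ∧
    (a * b * c') ^ 5 = 1

/-- The hypotheses on a quadruple and an involution. -/
structure Hyp (a b f g c : L) : Prop where
  b2 : b * b = 1
  f2 : f * f = 1
  g2 : g * g = 1
  c2 : c * c = 1
  ab : (a * b) ^ 5 = 1
  bf : (b * f) ^ 3 = 1
  bg : (b * g) ^ 3 = 1
  bfg : (b * f * g) ^ 5 = 1
  fg2 : f * g * (f * g) = a
  ca : c * a = a * c
  cf : c * f = f * c
  cg : c * g = g * c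
  c1 : c ≠ 1
  cna : c ≠ a
  fa : f * a = a * f
  ga : g * a = a * g
  a2 : a * a = 1
  a1 : a ≠ 1

theorem Hyp.map {a b f g c : L} (H : Hyp a b f g c) (φ : L ≃* L) :
    Hyp (φ a) (φ b) (φ f) (φ g) (φ c) where
  b2 := by rw [← map_mul, H.b2, map_one]
  f2 := by rw [← map_mul, H.f2, map_one]
  g2 := by rw [← map_mul, H.g2, map_one]
  c2 := by rw [← map_mul, H.c2, map_one]
  ab := by rw [← map_mul, ← map_pow, H.ab, map_one]
  bf := by rw [← map_mul, ← map_pow, H.bf, map_one]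
  bg := by rw [← map_mul, ← map_pow, H.bg, map_one]
  bfg := by rw [← map_mul, ← map_mul, ← map_pow, H.bfg, map_one]
  fg2 := by rw [← map_mul, ← map_mul, H.fg2]
  ca := by rw [← map_mul, H.ca, map_mul]
  cf := by rw [← map_mul, H.cf, map_mul]
  cg := by rw [← map_mul, H.cg, map_mul]
  c1 := fun e => H.c1 ((map_eq_one_iff φ φ.injective).mp e)
  cna := fun e => H.cna (φ.injective e)
  fa := by rw [← map_mul, H.fa, map_mul]
  ga := by rw [← map_mul, H.ga, map_mul]
  a2 := by rw [← map_mul, H.a2, map_one]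
  a1 := fun e => H.a1 ((map_eq_one_iff φ φ.injective).mp e)

theorem Good.map {a b f c : L} {φ : L ≃* L} (H : Good (φ a) (φ b) (φ f) (φ c)) : Good a b f c := by
  obtain ⟨c', hc', h1, h2, h3⟩ := H
  refine ⟨φ.symm c', ?_, ?_, ?_, ?_⟩
  · rcases hc' with rfl | rfl
    · exact Or.inl (φ.symm_apply_apply c)
    · right; rw [map_mul, φ.symm_apply_apply, φ.symm_apply_apply]
  all_goals apply φ.injective; simp only [map_pow, map_mul, φ.apply_symm_apply, map_one]
  exacts [h1, h2, h3]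

theorem good_base {b f g c : L} (H : Hyp (q Tm) b f g c) {x y : F4}
    (hxy : MatFour.mul (sy x) (sy y) = MatFour.i)
    (hfg : (f = q (uniS x 0 0) ∧ g = q (uniS 0 0 y)) ∨ (f = q (uniS 0 0 y) ∧ g = q (uniS x 0 0))) :
    Good (q Tm) b f c := by
  obtain ⟨hx0, hy0⟩ := det_uni _ _ hxy
  have hinv : ∀ u v : F4, u = 0 ∨ v = 0 → uniS u 0 v * uniS u 0 v = 1 := fun u v huv => M_inj (by
    rw [M_mul, M_uniS, M_one, sy_zero]
    have : ∀ s t : B4, s = o ∨ t = o → mmul (uni s o t) (uni s o t) = e1 := by decide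
    exact this _ _ (huv.imp (fun e => by rw [e, sy_zero]) fun e => by rw [e, sy_zero]))
  have hX := hinv x 0 (Or.inr rfl)
  have hY := hinv 0 y (Or.inl rfl)
  have hb1 : b ≠ 1 := fun e => by
    have h5 := H.ab
    rw [e, mul_one, show (5 : ℕ) = 2 * 2 + 1 from rfl, pow_succ, pow_mul, pow_two (q Tm), H.a2,
      one_pow, one_mul] at h5
    exact H.a1 h5
  obtain ⟨B, -, hqB, hB2, -, v, p, hvp, hdot⟩ := exists_lift H.b2 hb1
  obtain ⟨C, -, hqC, hC2, -, v', p', hvp', hdot'⟩ := exists_lift H.c2 H.c1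
  have hCT := lift_comm hC2 Tm_sq (by rw [hqC]; exact H.ca)
  obtain ⟨x', w', y', hC, hor⟩ := commT v' p' hdot'
    (by rw [← hvp', ← M_Tm, ← M_mul, ← M_mul, hCT])
  have hcX : c * q (uniS x 0 0) = q (uniS x 0 0) * c := by
    rcases hfg with ⟨e, -⟩ | ⟨-, e⟩ <;> rw [← e]
    exacts [H.cf, H.cg]
  have hcY : c * q (uniS 0 0 y) = q (uniS 0 0 y) * c := by
    rcases hfg with ⟨-, e⟩ | ⟨e, -⟩ <;> rw [← e]
    exacts [H.cg, H.cf]
  have eX := congrArg M (lift_comm hC2 hX (by rw [hqC]; exact hcX))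
  have eY := congrArg M (lift_comm hC2 hY (by rw [hqC]; exact hcY))
  rw [M_mul, M_mul, M_uniS, hvp', hC, sy_zero] at eX eY
  obtain ⟨hx', hy'⟩ := comm_centre _ _ hxy x' w' y' hor eX eY
  rw [hx', hy', ← hvp'] at hC
  have hw0 : w' ≠ o := fun e => H.c1 (by
    rw [← hqC, show C = 1 from M_inj (by rw [hC, e, M_one]; rfl), map_one])
  have hwi : w' ≠ MatFour.i := fun e => H.cna (by
    rw [← hqC, show C = Tm from M_inj (by rw [hC, e, M_Tm]; rfl)])
  obtain ⟨hm1, hm2⟩ := MatFour.main _ _ hxy v p hdot w' hw0 hwi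
  rw [← hvp] at hm1 hm2
  have hfinal : ∀ F' G' : S, f = q F' → g = q G' → chk (M B) (M F') (M G') w' = true →
      Good (q Tm) b f c := by
    intro F' G' ef eg hk
    have r1 : scal (mpow (mmul (M B) (M F')) 3) = true := by
      rw [← M_mul]; exact rel_scal (by rw [map_mul, hqB, ← ef, H.bf])
    have r2 : scal (mpow (mmul (M B) (M G')) 3) = true := by
      rw [← M_mul]; exact rel_scal (by rw [map_mul, hqB, ← eg, H.bg])
    have r3 : scal (mpow (mmul T (M B)) 5) = true := by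
      rw [← M_Tm, ← M_mul]; exact rel_scal (by rw [map_mul, hqB, H.ab])
    have r4 : scal (mpow (mmul (mmul (M B) (M F')) (M G')) 5) = true := by
      rw [← M_mul, ← M_mul]; exact rel_scal (by rw [map_mul, map_mul, hqB, ← ef, ← eg, H.bfg])
    have hgood : ∀ C' : S, good (M B) (M F') (M C') = true →
        (b * q C') ^ 3 = 1 ∧ (q Tm * b * q C' * f) ^ 5 = 1 ∧ (q Tm * b * q C') ^ 5 = 1 := by
      intro C' hg'
      simp only [good, Bool.and_eq_true, ← M_Tm, ← M_mul] at hg'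
      refine ⟨?_, ?_, ?_⟩
      · rw [← hqB, ← map_mul]; exact scal_rel hg'.1.1
      · rw [← hqB, ef, ← map_mul, ← map_mul, ← map_mul]; exact scal_rel hg'.1.2
      · rw [← hqB, ← map_mul, ← map_mul]; exact scal_rel hg'.2
    simp only [chk, r1, r2, r3, r4, Bool.and_self, Bool.not_true, Bool.false_or, Bool.or_eq_true] at hk
    rcases hk with hk | hk
    · exact ⟨c, Or.inl rfl, by rw [← hqC]; exact hgood C (by rw [hC]; exact hk)⟩
    · refine ⟨c * q Tm, Or.inr rfl, ?_⟩
      rw [← hqC, ← map_mul]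
      exact hgood (C * Tm) (by rw [M_mul, hC, M_Tm, add_T]; exact hk)
  rcases hfg with ⟨e1, e2⟩ | ⟨e1, e2⟩
  · exact hfinal _ _ e1 e2 (by rw [M_uniS, M_uniS, sy_zero]; exact hm1)
  · exact hfinal _ _ e1 e2 (by rw [M_uniS, M_uniS, sy_zero]; exact hm2)

theorem model {a b f g c : L} (H : Hyp a b f g c) : Good a b f c := by
  obtain ⟨A, P, hqA, hA2, hP, -⟩ := exists_lift H.a2 H.a1
  let φ : L ≃* L := MulAut.conj (q P⁻¹)
  refine Good.map (φ := φ) ?_
  have hφa : φ a = q Tm := by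
    have hT : Tm.1 = 1 + Matrix.single 0 2 1 := by
      ext x y; fin_cases x <;> fin_cases y <;> simp [Tm, uniS, Matrix.single]
    have e : A * P = P * Tm := Subtype.ext (by
      rw [Matrix.SpecialLinearGroup.coe_mul, Matrix.SpecialLinearGroup.coe_mul, hT, hP])
    show q P⁻¹ * a * (q P⁻¹)⁻¹ = _
    rw [← hqA, ← map_inv, inv_inv, ← map_mul, ← map_mul, mul_assoc, e, inv_mul_cancel_left]
  have H' := H.map φ
  rw [hφa] at H' ⊢
  clear hφa hqA
  generalize φ b = b' at H' ⊢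
  generalize φ f = f' at H' ⊢
  generalize φ g = g' at H' ⊢
  generalize φ c = c' at H' ⊢
  clear! A P φ a b f g c
  have hfg1 : f' ≠ 1 ∧ g' ≠ 1 := by
    constructor <;> intro e <;> have := H'.fg2 <;> rw [e] at this
    · rw [one_mul, H'.g2] at this; exact H'.a1 this.symm
    · rw [mul_one, H'.f2] at this; exact H'.a1 this.symm
  obtain ⟨F, -, hqF, hF2, -, v, p, hF, hd⟩ := exists_lift H'.f2 hfg1.1
  obtain ⟨G, -, hqG, hG2, -, v', p', hG, hd'⟩ := exists_lift H'.g2 hfg1.2
  obtain ⟨x, w, y, eF, hor⟩ := commT v p hd (by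
    rw [← hF, ← M_Tm, ← M_mul, ← M_mul, lift_comm hF2 Tm_sq (by rw [hqF]; exact H'.fa)])
  obtain ⟨x', w', y', eG, hor'⟩ := commT v' p' hd' (by
    rw [← hG, ← M_Tm, ← M_mul, ← M_mul, lift_comm hG2 Tm_sq (by rw [hqG]; exact H'.ga)])
  rw [← hF] at eF
  rw [← hG] at eG
  have hshape := fg_shape x w y x' w' y' hor hor' (by
    rw [← eF, ← eG, ← M_Tm, ← M_mul, ← M_mul, ← M_mul, ← q_one_iff]
    simp only [map_mul, hqF, hqG]
    rw [← mul_assoc (f' * g'), H'.fg2, H'.a2])
  have key : ∀ (X Y : S) (x w w' y : B4), M X = uni x w o → M Y = uni o w' y → MatFour.mul x y = MatFour.i →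
      ((f' = q X ∧ g' = q Y) ∨ (f' = q Y ∧ g' = q X)) → Good (q Tm) b' f' c' := by
    intro X Y x w w' y hX hY hxy hcase
    obtain ⟨x0, y0, w0, h1, h2, h3⟩ := normalise x w w' y hxy
    obtain ⟨X0, rfl⟩ := sy_surj x0
    obtain ⟨Y0, rfl⟩ := sy_surj y0
    obtain ⟨W0, rfl⟩ := sy_surj w0
    obtain ⟨xf, rfl⟩ := sy_surj x
    obtain ⟨yf, rfl⟩ := sy_surj y
    set U := uniS X0 0 Y0
    set U' := uniS X0 W0 Y0
    have hUU : U * U' = 1 := M_inj (by rw [M_mul, M_uniS, M_uniS, sy_zero, h1, M_one])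
    have hU' : U' = U⁻¹ := eq_inv_of_mul_eq_one_right hUU
    let ψ : L ≃* L := MulAut.conj (q U)
    have hψ : ∀ Z W : S, mmul (mmul (M U) (M Z)) (M U') = M W → ψ (q Z) = q W := by
      intro Z W e
      rw [← M_mul, ← M_mul] at e
      show q U * q Z * (q U)⁻¹ = q W
      rw [← map_inv, ← map_mul, ← map_mul, ← hU', M_inj e]
    have hψT : ψ (q Tm) = q Tm := hψ _ _ (by
      rw [M_uniS, M_uniS, M_Tm, sy_zero]; exact uni_T _ _ _ h1)
    have hψX : ψ (q X) = q (uniS xf 0 0) := hψ _ _ (by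
      rw [M_uniS, M_uniS, hX, M_uniS, sy_zero]; exact h2)
    have hψY : ψ (q Y) = q (uniS 0 0 yf) := hψ _ _ (by
      rw [M_uniS, M_uniS, hY, M_uniS, sy_zero]; exact h3)
    refine Good.map (φ := ψ) ?_
    have H2 := H'.map ψ
    rw [hψT] at H2 ⊢
    refine good_base H2 hxy ?_
    rcases hcase with ⟨e1, e2⟩ | ⟨e1, e2⟩
    · exact Or.inl ⟨by rw [e1, hψX], by rw [e2, hψY]⟩
    · exact Or.inr ⟨by rw [e1, hψY], by rw [e2, hψX]⟩
  rcases hshape with ⟨e1, e2, e3⟩ | ⟨e1, e2, e3⟩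
  · exact key F G x w w' y' (by rw [eF, e1]) (by rw [eG, e2]) e3 (Or.inl ⟨hqF.symm, hqG.symm⟩)
  · exact key G F x' w' w y (by rw [eG, e2]) (by rw [eF, e1]) e3 (Or.inr ⟨hqF.symm, hqG.symm⟩)

/-- The statement in any group isomorphic to `PSL(3, 4)`. -/
theorem model_of_iso {X : Type*} [Group X] {K : Type} [Field K] [Fintype K]
    (hK : Fintype.card K = 4) (e : X ≃* ProjectiveSpecialLinearGroup (Fin 3) K) {a b f g c : X}
    (b2 : b * b = 1) (f2 : f * f = 1) (g2 : g * g = 1) (c2 : c * c = 1) (a2 : a * a = 1)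
    (a1 : a ≠ 1) (c1 : c ≠ 1) (cna : c ≠ a) (ab : (a * b) ^ 5 = 1) (bf : (b * f) ^ 3 = 1)
    (bg : (b * g) ^ 3 = 1) (bfg : (b * f * g) ^ 5 = 1) (fg2 : f * g * (f * g) = a)
    (ca : c * a = a * c) (cf : c * f = f * c) (cg : c * g = g * c) (fa : f * a = a * f)
    (ga : g * a = a * g) :
    ∃ c', (c' = c ∨ c' = c * a) ∧ (b * c') ^ 3 = 1 ∧ (a * b * c' * f) ^ 5 = 1 ∧
      (a * b * c') ^ 5 = 1 := by
  classical
  let σ : X ≃* L := e.trans (H27.PermFamily.pslCongr
    (FiniteField.ringEquivOfCardEq (hK.trans card_F4.symm)))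
  obtain ⟨c', hc', h1, h2, h3⟩ := model (a := σ a) (b := σ b) (f := σ f) (g := σ g) (c := σ c)
    { b2 := by rw [← map_mul, b2, map_one]
      f2 := by rw [← map_mul, f2, map_one]
      g2 := by rw [← map_mul, g2, map_one]
      c2 := by rw [← map_mul, c2, map_one]
      ab := by rw [← map_mul, ← map_pow, ab, map_one]
      bf := by rw [← map_mul, ← map_pow, bf, map_one]
      bg := by rw [← map_mul, ← map_pow, bg, map_one]
      bfg := by rw [← map_mul, ← map_mul, ← map_pow, bfg, map_one]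
      fg2 := by rw [← map_mul, ← map_mul, fg2]
      ca := by rw [← map_mul, ca, map_mul]
      cf := by rw [← map_mul, cf, map_mul]
      cg := by rw [← map_mul, cg, map_mul]
      c1 := fun e => c1 ((map_eq_one_iff σ σ.injective).mp e)
      cna := fun e => cna (σ.injective e)
      fa := by rw [← map_mul, fa, map_mul]
      ga := by rw [← map_mul, ga, map_mul]
      a2 := by rw [← map_mul, a2, map_one]
      a1 := fun e => a1 ((map_eq_one_iff σ σ.injective).mp e) }
  refine ⟨σ.symm c', ?_, ?_, ?_, ?_⟩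
  · rcases hc' with rfl | rfl
    · exact Or.inl (σ.symm_apply_apply c)
    · right; rw [map_mul, σ.symm_apply_apply, σ.symm_apply_apply]
  all_goals apply σ.injective; simp only [map_pow, map_mul, σ.apply_symm_apply, map_one]
  exacts [h1, h2, h3]

end Cfsg.Agent.H55.Suz.LThreeModel
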