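import Cfsg.Agent.H55.Suz.OrderFormula

/-!
The exact order: `z` has 415 conjugates in `C(z)`, and `C(t)` has 315 of them, so
`|G| = 1045094400 * 429 = 448345497600`.
-/

set_option autoImplicit false
set_option linter.unusedSectionVars false
set_option linter.style.haveILetI false
set_option synthInstance.maxSize 4000
set_option synthInstance.maxHeartbeats 400000
set_option maxRecDepth 20000

namespace Cfsg.Agent.H55.Suz

open Cfsg.Agent.H73.Suz QuadraticMap Cfsg.Agent.Orthogonal Cfsg.Agent.H92.ExtraForm Subgroup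

/-- The singular vectors. -/
def Sing : Finset V6 :=
  Finset.univ.filter fun y : V6 => y ≠ 0 ∧ y.1.1 * y.1.2 + qU y.2 = 0

theorem card_Sing : Sing.card = 27 := by decide

theorem mem_Sing {y : V6} : y ∈ Sing ↔ y ≠ 0 ∧ phi y = 0 := by simp [Sing, phi_apply]

theorem card_fix_theta : ∀ θ : U4, θ ≠ 0 → qU θ = 0 →
    (Finset.univ.filter fun y : V6 => (y ≠ 0 ∧ y.1.1 * y.1.2 + qU y.2 = 0) ∧ y.1.2 = 0 ∧
      fU θ y.2 = 0).card = 3 := by decide

theorem card_C0 :
    (Finset.univ.filter fun p : R2 => sqv p = 0 ∧ qU p.1 = 0 ∧ p.2 ≠ 0).card = 10 := by decide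

variable {G : Type*} [Group G] [Finite G] {z : G} {Q : Subgroup G}

/-- Two elements of `Q` lie over each vector. -/
theorem card_lift (h : Setup z Q) (A : Finset V6) :
    Nat.card {x : G // x ∈ Q ∧ h.π x ∈ A} = 2 * A.card := by
  classical
  choose f hf using h.π_surj
  let e : A × Fin 2 → {x : G // x ∈ Q ∧ h.π x ∈ A} := fun k =>
    ⟨if k.2 = 0 then f k.1 else f k.1 * z, by
      split_ifs
      · exact ⟨(hf k.1).1, by rw [(hf k.1).2]; exact k.1.2⟩
      · exact ⟨mul_mem (hf k.1).1 h.hzQ, by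
          rw [h.π_mul _ (hf k.1).1 _ h.hzQ, h.π_z, add_zero, (hf k.1).2]; exact k.1.2⟩⟩
  have he : Function.Bijective e := by
    refine ⟨fun k k' e' => ?_, fun ⟨x, hx, hxA⟩ => ?_⟩
    · have e1 : (if k.2 = 0 then f k.1 else f k.1 * z) =
          if k'.2 = 0 then f k'.1 else f k'.1 * z := congrArg Subtype.val e'
      have hπ : ∀ j : A × Fin 2, h.π (if j.2 = 0 then f j.1 else f j.1 * z) = j.1 := fun j => by
        split_ifs
        · exact (hf j.1).2
        · rw [h.π_mul _ (hf j.1).1 _ h.hzQ, h.π_z, add_zero, (hf j.1).2]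
      have hk : k.1 = k'.1 := Subtype.ext (by rw [← hπ k, ← hπ k', e1])
      refine Prod.ext hk ?_
      rw [hk] at e1
      have hz : f (k'.1 : V6) ≠ f (k'.1 : V6) * z := fun e2 => h.z_ne (left_eq_mul.mp e2)
      have h01 : ∀ i : Fin 2, i = 0 ∨ i = 1 := by decide
      rcases h01 k.2 with e2 | e2 <;> rcases h01 k'.2 with e3 | e3 <;> rw [e2, e3] <;> exfalso
      · rw [e2, e3] at e1; exact hz (by simpa using e1)
      · rw [e2, e3] at e1; exact hz (by simpa using e1.symm)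
    · rcases h.π_eq (hf (h.π x)).1 hx (hf (h.π x)).2 with e' | e'
      · exact ⟨(⟨h.π x, hxA⟩, 0), Subtype.ext (by simp [e, ← e'])⟩
      · exact ⟨(⟨h.π x, hxA⟩, 1), Subtype.ext (by simp [e, ← e'])⟩
  rw [← Nat.card_congr (Equiv.ofBijective e he), Nat.card_prod, Nat.card_eq_finsetCard,
    Nat.card_fin, mul_comm]

namespace Frame

variable {h : Setup z Q} {s w t om hh : G} (F : Frame h s w t om hh)
variable {s' w' g r : G}

include F

local notation "W[" x ", " p "]" => IsW h s w x p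

omit F in
theorem noncentral_iff (h : Setup z Q) {x : G} (hx : x ∈ Q) :
    (x * x = 1 ∧ x ≠ 1 ∧ x ≠ z) ↔ h.π x ∈ Sing := by
  rw [mem_Sing, h.sq_one_iff hx]
  constructor
  · rintro ⟨h0, h1, h2⟩
    exact ⟨fun e => ((h.π_zero x hx).mp e).elim h1 h2, h0⟩
  · rintro ⟨h1, h0⟩
    exact ⟨h0, fun e => h1 ((h.π_zero x hx).mpr (Or.inl e)),
      fun e => h1 ((h.π_zero x hx).mpr (Or.inr e))⟩

theorem card_out_s :
    Nat.card {u : G // IsConj u z ∧ u * z = z * u ∧ u ∉ Q ∧ u * s = s * u} = 40 := by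
  classical
  rw [show (40 : ℕ) = 4 * 10 from rfl, ← card_C0, ← F.card_fibre]
  refine Nat.card_congr (Equiv.subtypeEquivRight fun u => ?_)
  constructor
  · rintro ⟨huz, hu, huQ, hus⟩
    obtain ⟨p, hp⟩ := F.mem_W huz hu hus
    exact ⟨p, Finset.mem_filter.mpr ⟨Finset.mem_univ _, (F.zres hp huz).1, (F.zres hp huz).2,
      fun e => huQ ((mem_Q_iff F.P hp).mpr e)⟩, hp⟩
  · rintro ⟨p, hp, hW⟩
    obtain ⟨-, h1, h2, h3⟩ := Finset.mem_filter.mp hp
    have hne : u ≠ 1 := fun e => h3 (by rw [isW_unique F.P hW (e.symm ▸ isW_one F.P)]; rfl)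
    have hsq : u * u = 1 := by rw [isW_sq F.P hW, h1]; simp [tt, zp]
    exact ⟨(F.isConj_z_iff hW hsq hne).mpr h2, (isW_cz F.P hW).1,
      fun e => h3 ((mem_Q_iff F.P hW).mp e), (isW_cz F.P hW).2⟩

theorem card_out_x {x : G} (hx : x ∈ Q) (hx2 : x * x = 1) (hx1 : x ≠ 1) (hxz : x ≠ z) :
    Nat.card {u : G // IsConj u z ∧ u * z = z * u ∧ u ∉ Q ∧ u * x = x * u} = 40 := by
  classical
  obtain ⟨c, hc, hcx⟩ := h.exists_conj_s F.P.hs F.P.hπ hx hx2 hx1 hxz
  rw [← F.card_out_s]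
  refine Nat.card_congr (Equiv.subtypeEquiv (MulAut.conj c).toEquiv fun u => ?_)
  show _ ↔ IsConj (c * u * c⁻¹) z ∧ c * u * c⁻¹ * z = z * (c * u * c⁻¹) ∧ c * u * c⁻¹ ∉ Q ∧
    c * u * c⁻¹ * s = s * (c * u * c⁻¹)
  have hcu : IsConj u (c * u * c⁻¹) := isConj_iff.mpr ⟨c, rfl⟩
  have hback : ∀ v, c⁻¹ * (c * v * c⁻¹) * c⁻¹⁻¹ = v := fun v => by group
  constructor
  · rintro ⟨h1, h2, h3, h4⟩
    refine ⟨hcu.symm.trans h1, h.conj_comm hc h2, fun e => h3 ((F.conj_Q_iff hc).mp e), ?_⟩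
    rw [← hcx, conj_mul, conj_mul, h4]
  · rintro ⟨h1, h2, h3, h4⟩
    refine ⟨hcu.trans h1, hback u ▸ h.conj_comm (h.inv_comm hc) h2,
      fun e => h3 ((F.conj_Q_iff hc).mpr e), ?_⟩
    rw [← hcx, conj_mul, conj_mul] at h4
    exact mul_left_cancel (mul_right_cancel h4)

theorem card_fix_u {u : G} (huz : IsConj u z) (hu : u * z = z * u) (huQ : u ∉ Q) :
    Nat.card {x : G // (x ∈ Q ∧ h.π x ∈ Sing) ∧ u * x = x * u} = 6 := by
  classical
  obtain ⟨c, p, hc, hW, hθ, hq, -⟩ := F.outside_normal huz hu huQ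
  rw [show (6 : ℕ) = 2 * 3 from rfl, ← card_fix_theta p.2 hθ hq, ← card_lift h]
  refine Nat.card_congr (Equiv.subtypeEquiv (MulAut.conj c).toEquiv fun x => ?_)
  show _ ↔ c * x * c⁻¹ ∈ Q ∧ h.π (c * x * c⁻¹) ∈ _
  have hcu : IsConj (c * u * c⁻¹) z :=
    (isConj_iff.mpr ⟨c, rfl⟩ : IsConj u (c * u * c⁻¹)).symm.trans huz
  have hcuQ : c * u * c⁻¹ ∉ Q := fun e => huQ ((F.conj_Q_iff hc).mp e)
  rw [F.conj_Q_iff hc]
  have hcx : x ∈ Q → (h.π x ∈ Sing ↔ h.π (c * x * c⁻¹) ∈ Sing) := fun hx => by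
    rw [h.ρ_π c hc x hx, mem_Sing, mem_Sing, O.map_app, Ne, Ne, LinearEquiv.map_eq_zero_iff]
  have hfix : x ∈ Q → h.π (c * x * c⁻¹) ∈ Sing →
      (u * x = x * u ↔ (h.π (c * x * c⁻¹)).1.2 = 0 ∧ fU p.2 (h.π (c * x * c⁻¹)).2 = 0) := by
    intro hx hS
    have hxQ := h.norm c hc x hx
    have hinv : c * x * c⁻¹ * (c * x * c⁻¹) = 1 :=
      (h.sq_one_iff hxQ).mpr (mem_Sing.mp hS).2
    have hiff : u * x = x * u ↔
        c * u * c⁻¹ * (c * x * c⁻¹) = c * x * c⁻¹ * (c * u * c⁻¹) := by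
      rw [conj_mul, conj_mul]
      exact ⟨fun e => by rw [e], fun e => mul_left_cancel (mul_right_cancel e)⟩
    rw [hiff]
    constructor
    · intro e
      have h1 : (h.ρ (c * u * c⁻¹) : V6 ≃ₗ[ZMod 2] V6) (h.π (c * x * c⁻¹)) = h.π (c * x * c⁻¹) := by
        rw [← h.ρ_π _ (h.conj_comm hc hu) _ hxQ, e, mul_inv_cancel_right]
      rw [isW_rho F.P hW, E_app] at h1
      generalize h.π (c * x * c⁻¹) = y at h1 ⊢
      obtain ⟨⟨yc, yd⟩, yu⟩ := y
      rcases two_cases' yd with rfl | rfl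
      · have h3 := congrArg (fun y : V6 => y.1.1) h1
        simp only [mul_zero, add_zero] at h3
        exact ⟨rfl, add_eq_left.mp h3⟩
      · exfalso
        have h2 := congrArg Prod.snd h1
        simp only [one_smul] at h2
        exact hθ (add_eq_left.mp h2)
    · rintro ⟨h1, h2⟩
      refine F.fix_comm hcu (h.conj_comm hc hu) hcuQ hxQ hinv ?_
      rw [isW_rho F.P hW, E_app]
      generalize h.π (c * x * c⁻¹) = y at h1 h2 ⊢
      obtain ⟨⟨yc, yd⟩, yu⟩ := y
      simp only at h1 h2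
      subst h1
      simp [h2]
  simp only [Finset.mem_filter, Finset.mem_univ, true_and, ← phi_apply, ← mem_Sing]
  exact ⟨fun ⟨⟨hx, hS⟩, e⟩ => ⟨hx, (hcx hx).mp hS, (hfix hx ((hcx hx).mp hS)).mp e⟩,
    fun ⟨hx, hS, e⟩ => ⟨⟨hx, (hcx hx).mpr hS⟩, (hfix hx hS).mpr e⟩⟩

/-- The conjugates of `z` in its centraliser. -/
theorem card_zC : Nat.card {u : G // IsConj u z ∧ u * z = z * u} = 415 := by
  classical
  haveI := Fintype.ofFinite G
  rw [Nat.card_eq_fintype_card, Fintype.card_subtype]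
  set Z := Finset.univ.filter fun u : G => IsConj u z ∧ u * z = z * u
  rw [← Finset.card_filter_add_card_filter_not (s := Z) (fun u => u ∈ Q)]
  set O := Z.filter fun u => ¬ u ∈ Q with hO
  set S0 := Finset.univ.filter fun x : G => x ∈ Q ∧ h.π x ∈ Sing with hS0
  have h54 : S0.card = 54 := by
    rw [hS0, ← Fintype.card_subtype, ← Nat.card_eq_fintype_card, card_lift h, card_Sing]
  have hin : Z.filter (fun u => u ∈ Q) = insert z S0 := by
    ext u
    simp only [Z, S0, Finset.mem_filter, Finset.mem_univ, true_and, Finset.mem_insert]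
    constructor
    · rintro ⟨⟨huz, -⟩, huQ⟩
      by_cases e : u = z
      · exact Or.inl e
      · exact Or.inr ⟨huQ, (noncentral_iff h huQ).mp ⟨(F.zsq huz).1, (F.zsq huz).2, e⟩⟩
    · rintro (rfl | ⟨huQ, hS⟩)
      · exact ⟨⟨IsConj.refl u, rfl⟩, h.hzQ⟩
      · obtain ⟨h2, h1, -⟩ := (noncentral_iff h huQ).mpr hS
        exact ⟨⟨F.P.conj_Q huQ h2 h1, h.le u huQ⟩, huQ⟩
  have hzS : z ∉ S0 := by simp [S0, h.π_z, mem_Sing]
  rw [hin, Finset.card_insert_of_notMem hzS, h54]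
  have hcount := Finset.card_mul_eq_card_mul (s := O) (t := S0)
    (fun (u x : G) => u * x = x * u) (m := 6) (n := 40) (fun u hu => ?_) (fun x hx => ?_)
  · rw [h54] at hcount
    omega
  · simp only [O, Z, Finset.mem_filter, Finset.mem_univ, true_and] at hu
    rw [← F.card_fix_u hu.1.1 hu.1.2 hu.2, Nat.card_eq_fintype_card, Fintype.card_subtype,
      Finset.bipartiteAbove, hS0, Finset.filter_filter]
  · simp only [S0, Finset.mem_filter, Finset.mem_univ, true_and] at hx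
    obtain ⟨h2, h1, h3⟩ := (noncentral_iff h hx.1).mpr hx.2
    rw [← F.card_out_x hx.1 h2 h1 h3, Nat.card_eq_fintype_card, Fintype.card_subtype,
      Finset.bipartiteBelow, hO, Finset.filter_filter, Finset.filter_filter]
    congr 1
    ext u
    simp only [Finset.mem_filter, Finset.mem_univ, true_and, and_assoc]

theorem card_Yes : Nat.card {u : G // IsConj u z ∧ z ∈ zpowers (u * t)} = 236 := by
  classical
  haveI := Fintype.ofFinite G
  have hall := F.card_zC
  have hno := F.card_No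
  rw [Nat.card_eq_fintype_card, Fintype.card_subtype] at hall hno ⊢
  set Z := Finset.univ.filter fun u : G => IsConj u z ∧ u * z = z * u
  have h1 := Finset.card_filter_add_card_filter_not (s := Z) (fun u => z ∈ zpowers (u * t))
  have h2 : (Z.filter fun u => z ∈ zpowers (u * t)) =
      Finset.univ.filter fun u : G => IsConj u z ∧ z ∈ zpowers (u * t) := by
    ext u
    simp only [Z, Finset.mem_filter, Finset.mem_univ, true_and]
    exact ⟨fun hu => ⟨hu.1.1, hu.2⟩, fun hu => ⟨⟨hu.1,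
      (CycInvol.commute (F.zsq hu.1).1 F.t2 hu.2 h.zz).1.eq⟩, hu.2⟩⟩
  have h3 : (Z.filter fun u => ¬ z ∈ zpowers (u * t)) = Finset.univ.filter fun u : G => F.No u := by
    ext u
    rw [Finset.mem_filter, Finset.mem_filter, Finset.mem_filter]
    exact ⟨fun hu => ⟨Finset.mem_univ _, hu.1.2.1, hu.1.2.2, hu.2⟩,
      fun hu => ⟨⟨Finset.mem_univ _, hu.2.1, hu.2.2.1⟩, hu.2.2.2⟩⟩
  rw [h2, h3, hno] at h1
  omega

theorem card_ZK : Nat.card {x : G // F.ZK x} = 315 := by
  rw [← F.card_z_in_Ct]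
  refine Nat.card_congr (Equiv.subtypeEquivRight fun x => ?_)
  constructor
  · intro hx
    obtain ⟨k, hk, hkx⟩ := F.z_class (F.mem_K.mp hx.1).1 hx.2
    exact ⟨k⁻¹, inv_mem (mem_centralizer_singleton_iff.mpr hk), by rw [← hkx]; group⟩
  · rintro ⟨c, hc, rfl⟩
    have hct : Commute c t := mem_centralizer_singleton_iff.mp hc
    exact F.zK ((hct.mul_left (show Commute z t from F.t_z.symm)).mul_left hct.inv_left).eq
      (isConj_iff.mpr ⟨c, rfl⟩ : IsConj z (c * z * c⁻¹)).symm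

theorem card_odd : Nat.card {v : G // IsConj v t ∧ t ∈ zpowers (z * v)} = 193 := by
  classical
  haveI := Fintype.ofFinite G
  rw [F.odd_bij]
  have h1 := F.card_ZK
  have h2 := F.card_even
  rw [Nat.card_eq_fintype_card, Fintype.card_subtype] at h1 h2 ⊢
  have h3 := Finset.card_filter_add_card_filter_not (s := Finset.univ.filter fun x : G => F.ZK x)
    (fun x => Even (orderOf (z * x)))
  rw [Finset.filter_filter, Finset.filter_filter, h2] at h3
  rw [show (Finset.univ.filter fun x : G => F.ZK x ∧ Odd (orderOf (z * x))) =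
    Finset.univ.filter fun x : G => F.ZK x ∧ ¬ Even (orderOf (z * x)) by
      simp only [Nat.not_even_iff_odd]]
  omega

/-- The exact order of `G`. -/
theorem card_G : Nat.card G = 448345497600 := by
  have h1 := class_card (G := G) z
  have h2 := class_card (G := G) t
  have h3 := F.pairs_total
  rw [F.card_Pr_z, F.card_Pr_t, F.card_Yes, F.card_odd] at h3
  rw [card_Cz h] at h1
  rw [F.card_Ct] at h2
  have hG : 0 < Nat.card G := Nat.card_pos
  generalize Nat.card {u : G // IsConj u z} = A at h1 h3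
  generalize Nat.card {v : G // IsConj v t} = B at h2 h3
  generalize Nat.card G = N at h1 h2 hG ⊢
  refine Nat.eq_of_mul_eq_mul_left hG ?_
  calc N * N = (A * B) * (3317760 * 161280) := by rw [← h1]; nth_rw 2 [h1]; rw [← h2]; ring
    _ = (A * (6480 * 236) + B * (315 * 193)) * (3317760 * 161280) := by rw [h3]
    _ = (A * 3317760) * (1045094400 * 236) + (B * 161280) * (1045094400 * 193) := by ring
    _ = N * 448345497600 := by rw [h1, h2]; ring

end Frame

end Cfsg.Agent.H55.Suz
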