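import Cfsg.Agent.H55.Suz.Relations
import Cfsg.Agent.H55.Suz.OrderExact
import Cfsg.Agent.H45.SuzMain

/-!
The presented group maps isomorphically onto a group with the relations.
-/

set_option autoImplicit false

namespace Cfsg.Agent.H55.Suz

open Cfsg.Spor Cfsg.Agent.H45 Cfsg.Agent.H73.Suz

set_option maxHeartbeats 1600000 in
theorem isoSuz_of_rels {G : Type*} [Group G] [Finite G] {a b c d e f g : G}
    (R : Rels a b c d e f g) (ha : a ≠ 1) (hcard : Nat.card G = 448345497600) :
    Cfsg.Spor.IsoSuz G := by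
  let fn : Suz.Gen → G := fun x => match x with
    | .a => a | .b => b | .c => c | .d => d | .e => e | .f => f | .g => g
  have sq2 : ∀ {x y : G}, x * x = 1 → y * y = 1 → x * y = y * x → (x * y) ^ 2 = 1 :=
    fun {x y} hx hy hxy => by
      rw [(show Commute x y from hxy).mul_pow, pow_two, pow_two, hx, hy, one_mul]
  have p0 := R.aa
  have p1 := R.bb
  have p2 := R.cc
  have p3 := R.dd
  have p4 := R.ee
  have p5 := R.ff
  have p6 := R.gg
  have q01 := R.ab
  have q02 := sq2 R.aa R.cc R.ac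
  have q03 := sq2 R.aa R.dd R.ad
  have q04 := sq2 R.aa R.ee R.ae
  have q05 := sq2 R.aa R.ff R.af
  have q06 := sq2 R.aa R.gg R.ag
  have q12 := R.bc
  have q13 := sq2 R.bb R.dd R.bd
  have q14 := sq2 R.bb R.ee R.be
  have q15 := R.bf
  have q16 := R.bg
  have q23 := R.cd
  have q24 := sq2 R.cc R.ee R.ce
  have q25 := sq2 R.cc R.ff R.cf
  have q26 := sq2 R.cc R.gg R.cg
  have q34 := R.de
  have q35 := sq2 R.dd R.ff R.df
  have q36 := sq2 R.dd R.gg R.dg
  have q45 := sq2 R.ee R.ff R.ef
  have q46 := sq2 R.ee R.gg R.eg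
  have q56 := R.fg
  simp only [pow_succ, pow_zero, one_mul, mul_assoc] at q01 q02 q03 q04 q05 q06 q12 q13 q14 q15 q16 q23 q24 q25 q26 q34 q35 q36 q45 q46 q56
  have hw : ∀ w ∈ SuzPres.pres.Rc, evalW (eOf SuzPres.pres.gl fn) w = 1 := by
    intro w hw
    simp only [SuzPres.pres, List.mem_cons, List.not_mem_nil, or_false] at hw
    casesm* _ ∨ _
    all_goals
      subst hw
      simp only [evalW, eOf, SuzPres.pres, List.map_cons, List.map_nil, List.prod_cons,
        List.prod_nil, List.getElem?_cons_zero, List.getElem?_cons_succ, Option.elim_some, fn,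
        mul_one]
      assumption
  have hcox : CoxHolds Suz.edges fn := coxHolds_of_words SuzPres.ok.all SuzPres.ok.check hw
  have hall : ∀ r ∈ coxRelators Suz.edges ∪ {r | r ∈ Suz.extra}, FreeGroup.lift fn r = 1 := by
    rintro r (⟨x, hx, y, hy, rfl⟩ | hr)
    · simpa [map_pow, map_mul, FreeGroup.lift_apply_of] using hcox x hx y hy
    · simp only [Suz.extra, Set.mem_ofPred_eq, List.mem_cons, List.not_mem_nil, or_false] at hr
      rcases hr with rfl | rfl | rfl | rfl | rfl <;>
        simp only [Suz.a, Suz.b, Suz.c, Suz.d, Suz.e, Suz.f, Suz.g, map_mul, map_inv, map_pow,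
          FreeGroup.lift_apply_of, fn]
      exacts [mul_inv_eq_one.mpr R.a_cd, mul_inv_eq_one.mpr R.a_fg, R.abcf, R.bfg, R.last]
  let φ : Cfsg.Spor.Suz →* G := PresentedGroup.toGroup hall
  obtain ⟨hfin, hpc, -⟩ := SuzMain.order_facts
  have : IsSimpleGroup Cfsg.Spor.Suz := SuzMain.isSimple
  have : Finite Cfsg.Spor.Suz := hfin
  have hinj : Function.Injective φ := by
    rcases φ.normal_ker.eq_bot_or_eq_top with h | h
    · exact (MonoidHom.ker_eq_bot_iff φ).mp h
    · refine absurd ?_ ha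
      have h1 : φ (PresentedGroup.of Suz.Gen.a) = 1 := by
        have := Subgroup.mem_top (PresentedGroup.of Suz.Gen.a : Cfsg.Spor.Suz)
        rwa [← h, MonoidHom.mem_ker] at this
      simpa [φ, fn, PresentedGroup.toGroup.of] using h1
  exact ⟨(MulEquiv.ofBijective φ ((Nat.bijective_iff_injective_and_card _).mpr
    ⟨hinj, hpc.trans hcard.symm⟩)).symm⟩

theorem Frame.isoSuz {G : Type*} [Group G] [Finite G] {z : G} {Q : Subgroup G}
    {h : Setup z Q} {s w t om hh s' w' g r : G} (F : Frame h s w t om hh)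
    (D : Five h s' w' g r) : Cfsg.Spor.IsoSuz G := by
  obtain ⟨b, c, d, e, f, gg, R⟩ := F.exists_rels D
  exact isoSuz_of_rels R h.z_ne (F.card_G)

end Cfsg.Agent.H55.Suz
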