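import Cfsg.Agent.H55.Suz.ZTypes
import Cfsg.Agent.H55.Suz.CycInvol

/-!
The conjugates `u` of `z` in `C(z)` for which `z` is no power of `u t`: their number is 179.
-/

set_option autoImplicit false
set_option linter.unusedSectionVars false
set_option linter.style.haveILetI false
set_option synthInstance.maxSize 4000
set_option synthInstance.maxHeartbeats 400000
set_option maxRecDepth 20000

namespace Cfsg.Agent.H55.Suz

open Cfsg.Agent.H73.Suz QuadraticMap Cfsg.Agent.Orthogonal Cfsg.Agent.H92.ExtraForm Subgroup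

/-- The four points. -/
def P4 : Finset V6 :=
  {((0, 0), (1, 0, 0, 0)), ((1, 0), (1, 0, 0, 0)), ((0, 0), (0, 1, 0, 0)), ((1, 0), (0, 1, 0, 0))}

theorem P4_props : ∀ v ∈ P4, v.1.2 = 0 ∧ qU v.2 = 0 ∧ v.2 ≠ 0 ∧ bil (v.2, 0) tb = 0 ∧ InE (v.2, 0) := by
  decide

theorem P4_pairs : ∀ v ∈ P4, ∀ v' ∈ P4, v ≠ v' →
    v + v' = v0 ∨ v.1.1 * v'.1.2 + v'.1.1 * v.1.2 + fU v.2 v'.2 = 1 := by decide

theorem P4_card : P4.card = 4 := by decide

theorem P4_cover : ∀ (c : ZMod 2) (a : U4), a ≠ 0 → (InE (a, 0) ∨ InE (0, a)) → ((c, 0), a) ∈ P4 := by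
  decide

theorem fix_u0 : ∀ a : U4, qU a = 0 → fU u0 a = 0 →
    a = 0 ∨ InE (a, 0) ∨ bil (a, 0) tb = (1, 0) := by decide

theorem card_A0 :
    (Finset.univ.filter fun p : R2 => sqv p = 0 ∧ qU p.1 = 0 ∧ bil p tb ≠ (1, 0)).card = 13 := by
  decide

theorem card_B0 : ∀ a : U4, qU a = 0 → a ≠ 0 →
    (Finset.univ.filter fun p : R2 =>
      sqv p = 0 ∧ qU p.1 = 0 ∧ p.2 ≠ 0 ∧ bil p (a, 0) ≠ 0).card = 8 := by decide

theorem comm_same : ∀ θ θ' : U4, qU θ = 0 → qU θ' = 0 → θ ≠ 0 → θ' ≠ 0 → θ ≠ θ' →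
    (bil ((0 : U4), θ) (0, θ') ≠ 0 ∧ bil ((0 : U4), θ) (0, θ') ≠ (1, 0)) ∧
    (bil (θ, θ) (θ', θ') ≠ 0 ∧ bil (θ, θ) (θ', θ') ≠ (1, 0)) := by decide

theorem comm_ne : ∀ θ θ' : U4, qU θ = 0 → qU θ' = 0 → θ ≠ 0 → θ' ≠ 0 → θ ≠ θ' →
    bil ((0 : U4), θ) (0, θ') ≠ 0 ∧ bil ((0 : U4), θ) (θ', θ') ≠ 0 ∧
    bil (θ, θ) (0, θ') ≠ 0 ∧ bil (θ, θ) (θ', θ') ≠ 0 := by decide

namespace Frame

variable {G : Type*} [Group G] [Finite G] {z : G} {Q : Subgroup G} {h : Setup z Q}
variable {s w t om hh : G} (F : Frame h s w t om hh)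

include F

local notation "W[" x ", " p "]" => IsW h s w x p

omit F in
/-- The conjugates of `z` with `z` no power of their product with `t`. -/
def No (_F : Frame h s w t om hh) (u : G) : Prop :=
  IsConj u z ∧ u * z = z * u ∧ z ∉ zpowers (u * t)

omit F in
/-- A lift of a vector. -/
noncomputable def xl (_F : Frame h s w t om hh) (v : V6) : G := (h.π_surj v).choose

omit F in
/-- The sets covering the exceptional conjugates. -/
def InU (F : Frame h s w t om hh) (v : V6) (u : G) : Prop :=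
  IsConj u z ∧ u * z = z * u ∧ u ∉ Q ∧ u * F.xl v = F.xl v * u ∧ u * s ≠ s * u

theorem rho_t : h.ρ t = E u0 := by
  have h1 := isW_rho F.P F.ht
  rwa [show tb.2 = u0 from rfl] at h1

theorem conj_Q_iff {g x : G} (hg : g * z = z * g) : g * x * g⁻¹ ∈ Q ↔ x ∈ Q := by
  refine ⟨fun hx => ?_, h.norm g hg x⟩
  have := h.norm g⁻¹ (h.inv_comm hg) _ hx
  simpa [mul_assoc] using this

theorem W_no {u : G} {p : R2} (hu : W[u, p]) (huz : IsConj u z) :
    F.No u ↔ bil p tb ≠ (1, 0) := by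
  obtain ⟨hs, hq⟩ := F.zres hu huz
  have hw := isW_mul F.P hu F.ht
  have hsq : u * t * (u * t) = tt z s (bil p tb).1 (bil p tb).2 := by
    rw [isW_sq F.P hw, sqv_add, hs, sqv_tb, zero_add, zero_add]
  have hne : ∀ i j : ZMod 2, u * t ≠ tt z s i j := fun i j e => by
    have h0 := isW_unique F.P hw (e ▸ isW_tt F.P i j)
    have h1 : p = tb := by
      calc p = p + tb + tb := by rw [add_assoc, add_self_R2, add_zero]
        _ = tb := by rw [h0, zero_add]
    rw [h1] at hq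
    exact absurd hq (by decide)
  refine ⟨fun hNo e => hNo.2.2 ?_, fun hb => ⟨huz, (isW_cz F.P hu).1, fun hz => ?_⟩⟩
  · have : u * t * (u * t) = z := by rw [hsq, e]; simp [tt, zp]
    rw [← this]
    exact mul_mem (mem_zpowers _) (mem_zpowers _)
  · by_cases h0 : bil p tb = 0
    · have h2 : u * t * (u * t) = 1 := by rw [hsq, h0]; simp [tt, zp]
      have h1 : u * t ≠ 1 := fun e => hne 0 0 (by rw [e]; simp [tt, zp])
      exact hne 1 0 (by
        rw [CycInvol.unique (mem_zpowers (u * t)) hz h2 h1 h.zz h.z_ne]; simp [tt, zp])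
    · have hd1 : tt z s (bil p tb).1 (bil p tb).2 ≠ 1 := fun e => h0 (by
        rw [← tt_zero F.P] at e
        exact Prod.ext (F.P.tt_inj e).1 (F.P.tt_inj e).2)
      have e := CycInvol.unique (hsq ▸ mul_mem (mem_zpowers (u * t)) (mem_zpowers (u * t))) hz
        (tt_self F.P _ _) hd1 h.zz h.z_ne
      have e' : tt z s (bil p tb).1 (bil p tb).2 = tt z s 1 0 := by rw [e]; simp [tt, zp]
      exact hb (Prod.ext (F.P.tt_inj e').1 (F.P.tt_inj e').2)

theorem Q_yes {u : G} (huz : IsConj u z) (huQ : u ∈ Q) (hus : u * s ≠ s * u) :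
    z ∈ zpowers (u * t) := by
  have hd : (h.π u).1.2 = 1 := (two_cases' _).resolve_left fun e => hus ((F.P.commA huQ).mpr e)
  have hu'Q : t * u * t⁻¹ ∈ Q := h.norm t F.t_z u huQ
  have hsing : phi (h.π u) = 0 := (h.sq_one_iff huQ).mp (F.zsq huz).1
  have hphi : phi (h.π u + h.π (t * u * t⁻¹)) = 1 := by
    rw [h.ρ_π t F.t_z u huQ, F.rho_t, E_app, phi_apply]
    generalize h.π u = y at hd hsing ⊢
    obtain ⟨⟨yc, yd⟩, yu⟩ := y
    simp only at hd
    subst hd
    simp only [Prod.mk_add_mk, CharTwo.add_self_eq_zero, mul_zero, zero_add, one_smul,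
      show ∀ a b : U4, a + (a + b) = b from fun a b => by revert a b; decide, qU_u0]
  have h4 : u * (t * u * t⁻¹) * (u * (t * u * t⁻¹)) = z := by
    rw [h.sq _ (mul_mem huQ hu'Q), h.π_mul _ huQ _ hu'Q, hphi]; simp [zp]
  rw [← h4, F.t_inv, ← CycInvol.sq]
  exact mul_mem (mul_mem (mem_zpowers _) (mem_zpowers _)) (mul_mem (mem_zpowers _) (mem_zpowers _))

theorem xl_props {v : V6} (hv : v ∈ P4) :
    F.xl v ∈ Q ∧ h.π (F.xl v) = v ∧ F.xl v * F.xl v = 1 ∧ F.xl v ≠ 1 ∧ F.xl v ≠ z ∧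
      F.xl v * s = s * F.xl v ∧ W[F.xl v, (v.2, 0)] ∧ F.xl v * t = t * F.xl v := by
  obtain ⟨hd, hq, hne, hb, -⟩ := P4_props v hv
  obtain ⟨hQ, hπ⟩ : F.xl v ∈ Q ∧ h.π (F.xl v) = v := (h.π_surj v).choose_spec
  have hxs : F.xl v * s = s * F.xl v := (F.P.commA hQ).mpr (by rw [hπ]; exact hd)
  have hW : W[F.xl v, (v.2, 0)] := by
    have := isW_of_Q F.P hQ hxs
    rwa [hπ] at this
  refine ⟨hQ, hπ, (h.sq_one_iff hQ).mpr (by rw [hπ, phi_apply, hd, mul_zero, zero_add]; exact hq),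
    fun e => hne ?_, fun e => hne ?_, hxs, hW, (isW_commute_iff F.P hW F.ht).mpr hb⟩
  · rw [← hπ, e, h.π_one]; rfl
  · rw [← hπ, e, h.π_z]; rfl

/-- If `ρ u` commutes with `ρ t` then a conjugate `u` of `z` outside `Q` commutes with `s`. -/
theorem comm_s_of_rho {u : G} (huz : IsConj u z) (hu : u * z = z * u) (huQ : u ∉ Q)
    (hc : h.ρ u * E u0 = E u0 * h.ρ u) : u * s = s * u := by
  refine F.fix_comm huz hu huQ F.P.hs F.P.ss ?_
  obtain ⟨e, he⟩ : ∃ e, fU u0 e = 1 := ⟨a0, by decide⟩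
  have hA : (E u0 : V6 ≃ₗ[ZMod 2] V6) (emb e) + emb e = v0 := by
    rw [E_app]
    simp only [emb, v0, Prod.mk_add_mk, zero_smul, add_zero, mul_zero, zero_add, he,
      show e + e = 0 from congrArg Prod.snd (add_self' ((0, 0), e))]
  have h3' := congrArg (h.ρ u : V6 ≃ₗ[ZMod 2] V6) hA
  rw [map_add, ← mul_app, ← Subgroup.coe_mul, hc, Subgroup.coe_mul, mul_app] at h3'
  generalize (h.ρ u : V6 ≃ₗ[ZMod 2] V6) (emb e) = r at h3'
  have hne : (h.ρ u : V6 ≃ₗ[ZMod 2] V6) v0 ≠ 0 :=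
    fun e' => v0_ne ((LinearEquiv.map_eq_zero_iff _).mp e')
  have hphi : phi ((h.ρ u : V6 ≃ₗ[ZMod 2] V6) v0) = 0 := by rw [O.map_app, phi_v0]
  rw [F.P.hπ]
  rw [← h3', E_app] at hne hphi ⊢
  obtain ⟨⟨rc, rd⟩, ru⟩ := r
  rw [phi_apply] at hphi
  clear h3' hA he hc
  revert hne hphi
  revert rc rd ru
  decide

/-- The product `u (t u t)` for a conjugate `u` of `z` commuting with a point. -/
theorem pair_frame {u x g : G} (huz : IsConj u z) (hu : u * z = z * u) (huQ : u ∉ Q)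
    (hus : u * s ≠ s * u) (hg : g * z = z * g) (hgx : g * x * g⁻¹ = s) (hux : u * x = x * u)
    (hu'x : t * u * t * x = x * (t * u * t)) :
    ∃ p p' : R2, W[g * u * g⁻¹, p] ∧ W[g * (t * u * t) * g⁻¹, p'] ∧ p.2 ≠ 0 ∧ p'.2 ≠ 0 ∧
      p.2 ≠ p'.2 ∧ qU p.2 = 0 ∧ qU p'.2 = 0 ∧ (p.1 = 0 ∨ p.1 = p.2) ∧ (p'.1 = 0 ∨ p'.1 = p'.2) ∧
      g * (u * (t * u * t) * (u * (t * u * t))) * g⁻¹ = tt z s (bil p p').1 (bil p p').2 := by
  set u' := t * u * t with hu'
  have hu'z : IsConj u' z :=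
    (isConj_iff.mpr ⟨t, by rw [F.t_inv]⟩ : IsConj u u').symm.trans huz
  have hu'c : u' * z = z * u' := h.mul_comm' (h.mul_comm' F.t_z hu) F.t_z
  have hu'Q : u' ∉ Q := fun e => huQ ((F.conj_Q_iff F.t_z).mp (by rwa [F.t_inv]))
  have key : ∀ v : G, IsConj v z → v * z = z * v → v ∉ Q → v * x = x * v →
      ∃ p, W[g * v * g⁻¹, p] ∧ p.2 ≠ 0 ∧ qU p.2 = 0 ∧ (p.1 = 0 ∨ p.1 = p.2) ∧ sqv p = 0 := by
    intro v hvz hv hvQ hvx
    have hz' : IsConj (g * v * g⁻¹) z :=
      (isConj_iff.mpr ⟨g, rfl⟩ : IsConj v (g * v * g⁻¹)).symm.trans hvz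
    obtain ⟨p, hp⟩ := F.mem_W hz' (h.conj_comm hg hv) (by rw [← hgx, conj_mul, conj_mul, hvx])
    obtain ⟨h1, h2⟩ := F.zres hp hz'
    have h3 : p.2 ≠ 0 := fun e => hvQ ((F.conj_Q_iff hg).mp ((mem_Q_iff F.P hp).mpr e))
    exact ⟨p, hp, h3, (outside_cases _ h3 h1 h2).1, (outside_cases _ h3 h1 h2).2, h1⟩
  obtain ⟨p, hp, hp2, hpq, hp1, hps⟩ := key u huz hu huQ hux
  obtain ⟨p', hp', hp2', hpq', hp1', hps'⟩ := key u' hu'z hu'c hu'Q hu'x
  refine ⟨p, p', hp, hp', hp2, hp2', fun e => hus (F.comm_s_of_rho huz hu huQ ?_), hpq, hpq', hp1,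
    hp1', ?_⟩
  · have e1 : h.ρ (g * u * g⁻¹) = h.ρ (g * u' * g⁻¹) := by
      rw [isW_rho F.P hp, isW_rho F.P hp', e]
    rw [h.ρ_conj hg hu, h.ρ_conj hg hu'c, mul_left_inj, mul_right_inj, hu',
      h.ρ_mul _ _ (h.mul_comm' F.t_z hu) F.t_z, h.ρ_mul _ _ F.t_z hu, F.rho_t] at e1
    have h2 : E u0 * E u0 = 1 := by
      rw [← F.rho_t, ← h.ρ_mul _ _ F.t_z F.t_z, F.t2, h.ρ_one]
    conv_lhs => rw [e1, mul_assoc, h2, mul_one]
  · rw [← conj_mul, ← conj_mul, isW_sq F.P (isW_mul F.P hp hp'), sqv_add, hps, hps', zero_add,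
      zero_add]

theorem U_no {v : V6} (hv : v ∈ P4) {u : G} (hu : F.InU v u) : F.No u := by
  obtain ⟨huz, huc, huQ, hux, hus⟩ := hu
  obtain ⟨hxQ, hxπ, hx2, hx1, hxz, hxs, hxW, hxt⟩ := F.xl_props hv
  refine ⟨huz, huc, fun hz => ?_⟩
  obtain ⟨g, hg, hgx⟩ := h.exists_conj_s F.P.hs F.P.hπ hxQ hx2 hx1 hxz
  have hu'x : t * u * t * F.xl v = F.xl v * (t * u * t) :=
    (((show Commute t (F.xl v) from hxt.symm).mul_left hux).mul_left hxt.symm).eq
  obtain ⟨p, p', hp, hp', hp2, hp2', hne, hpq, hpq', hp1, hp1', heq⟩ :=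
    F.pair_frame huz huc huQ hus hg hgx hux hu'x
  -- `t` carries the residue of `u` to that of its conjugate
  set t1 := g * t * g⁻¹ with ht1
  have ht1z : t1 * z = z * t1 := h.conj_comm hg F.t_z
  have ht1s : t1 * s = s * t1 := by rw [ht1, ← hgx, conj_mul, conj_mul, hxt]
  have hconj : W[g * (t * u * t) * g⁻¹, (res (h.ρ t1) p.1, res (h.ρ t1) p.2)] := by
    have := isW_conj F.P ht1z ht1s hp
    rwa [show t1 * (g * u * g⁻¹) * t1⁻¹ = g * (t * u * t⁻¹) * g⁻¹ by rw [ht1]; group,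
      F.t_inv] at this
  have hpp := isW_unique F.P hp' hconj
  have hb : bil p p' ≠ 0 ∧ bil p p' ≠ (1, 0) := by
    obtain ⟨p1, p2⟩ := p
    obtain ⟨q1, q2⟩ := p'
    simp only [Prod.mk.injEq] at hpp
    obtain ⟨h1, h2⟩ := comm_same p2 q2 hpq hpq' hp2 hp2' hne
    rcases hp1 with e | e <;> simp only at e <;> subst e
    · rw [show q1 = 0 by rw [hpp.1, res, show emb 0 = (0 : V6) from rfl, map_zero]; rfl]
      exact h1
    · rw [show q1 = q2 by rw [hpp.1, hpp.2]]
      exact h2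
  set c := u * (t * u * t) * (u * (t * u * t)) with hc
  have hc1 : c ≠ 1 := fun e => hb.1 (by
    rw [e, mul_one, mul_inv_cancel, ← tt_zero F.P] at heq
    exact Prod.ext (F.P.tt_inj heq.symm).1 (F.P.tt_inj heq.symm).2)
  have hc2 : c * c = 1 := by
    have h2 : g * (c * c) * g⁻¹ = 1 := by rw [← conj_mul, heq, tt_self F.P]
    exact conj_eq_one_iff.mp h2
  have hcw : c ∈ zpowers (u * t) := by
    rw [hc, ← CycInvol.sq]
    exact mul_mem (mul_mem (mem_zpowers _) (mem_zpowers _)) (mul_mem (mem_zpowers _) (mem_zpowers _))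
  rw [CycInvol.unique hcw hz hc2 hc1 h.zz h.z_ne, hg, mul_inv_cancel_right] at heq
  have e' : tt z s (bil p p').1 (bil p p').2 = tt z s 1 0 := by rw [← heq]; simp [tt, zp]
  exact hb.2 (Prod.ext (F.P.tt_inj e').1 (F.P.tt_inj e').2)

theorem U_disj {v v' : V6} (hv : v ∈ P4) (hv' : v' ∈ P4) (hne : v ≠ v') {u : G}
    (hu : F.InU v u) : ¬ F.InU v' u := by
  rintro ⟨-, -, -, hux', -⟩
  obtain ⟨huz, huc, huQ, hux, hus⟩ := hu
  obtain ⟨hxQ, hxπ, hx2, hx1, hxz, hxs, hxW, hxt⟩ := F.xl_props hv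
  obtain ⟨hyQ, hyπ, hy2, hy1, hyz, hys, hyW, hyt⟩ := F.xl_props hv'
  rcases P4_pairs v hv v' hv' hne with e | e
  · refine hus (F.fix_comm huz huc huQ F.P.hs F.P.ss ?_)
    rw [F.P.hπ, ← e, map_add]
    have hfix : ∀ x, x ∈ Q → u * x = x * u →
        (h.ρ u : V6 ≃ₗ[ZMod 2] V6) (h.π x) = h.π x := fun x hx hc => by
      rw [← h.ρ_π u huc x hx, mul_inv_eq_iff_eq_mul.mpr hc]
    have h1 := hfix _ hxQ hux
    have h2 := hfix _ hyQ hux'
    rw [hxπ] at h1
    rw [hyπ] at h2
    rw [h1, h2]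
  · obtain ⟨g, hg, hgx⟩ := h.exists_conj_s F.P.hs F.P.hπ hxQ hx2 hx1 hxz
    have hz' : IsConj (g * u * g⁻¹) z :=
      (isConj_iff.mpr ⟨g, rfl⟩ : IsConj u (g * u * g⁻¹)).symm.trans huz
    obtain ⟨p, hp⟩ := F.mem_W hz' (h.conj_comm hg huc) (by rw [← hgx, conj_mul, conj_mul, hux])
    have h3 : p.2 ≠ 0 := fun e' => huQ ((F.conj_Q_iff hg).mp ((mem_Q_iff F.P hp).mpr e'))
    set y := g * F.xl v' * g⁻¹
    have hyQ' : y ∈ Q := h.norm g hg _ hyQ
    have hfix : (E p.2 : V6 ≃ₗ[ZMod 2] V6) (h.π y) = h.π y := by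
      rw [← isW_rho F.P hp, ← h.ρ_π _ (h.conj_comm hg huc) y hyQ',
        mul_inv_eq_iff_eq_mul.mpr (by rw [conj_mul, conj_mul, hux'] :
          g * u * g⁻¹ * y = y * (g * u * g⁻¹))]
    have hd : (h.π y).1.2 = 1 := by
      have h1 : polar (⇑phi) (h.π (g * F.xl v * g⁻¹)) (h.π y) = 1 := by
        rw [h.ρ_π g hg _ hxQ, h.ρ_π g hg _ hyQ, O.polar_app, hxπ, hyπ, polar_phi]
        exact e
      rwa [hgx, F.P.hπ, polar_v0] at h1
    rw [E_app, hd, one_smul] at hfix
    exact h3 (add_eq_left.mp (congrArg Prod.snd hfix))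

theorem of_point {u x : G} (huz : IsConj u z) (hu : u * z = z * u) (huQ : u ∉ Q)
    (hus : u * s ≠ s * u) (hxQ : x ∈ Q) (hxv : h.π x ∈ P4) (hux : u * x = x * u) :
    ∃ v ∈ P4, F.InU v u := by
  refine ⟨_, hxv, huz, hu, huQ, ?_, hus⟩
  obtain ⟨hQ, hπ, -⟩ := F.xl_props hxv
  rcases h.π_eq hxQ hQ hπ.symm with e | e
  · rw [e]; exact hux
  · rw [e]; exact ((show Commute u x from hux).mul_right hu).eq

theorem cover {u : G} (hu : F.No u) (hus : u * s ≠ s * u) : ∃ v ∈ P4, F.InU v u := by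
  obtain ⟨huz, huc, hno⟩ := hu
  have huQ : u ∉ Q := fun e => hno (F.Q_yes huz e hus)
  obtain ⟨hu2, hu1⟩ := F.zsq huz
  obtain ⟨c, hcw, hc2, hc1⟩ := CycInvol.exists_invol hu2 F.t2
    (fun e => F.t_not_z (e.symm.trans huz))
  have hcz : c ≠ z := fun e => hno (e ▸ hcw)
  obtain ⟨huc', htc⟩ := CycInvol.commute hu2 F.t2 hcw hc2
  have hc : c * z = z * c := by
    obtain ⟨k, hk⟩ := mem_zpowers_iff.mp hcw
    rw [← hk]
    exact ((show Commute (u * t) z from (show Commute u z from huc).mul_left F.t_z).zpow_left k).eq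
  rcases F.types (F.ord_two hc2 hc1) with hcZ | hcT
  · obtain ⟨g, hg, hgc⟩ := F.z_class htc.eq.symm hcZ
    have hcK : c ∈ F.Ksub := by
      have hk : ∀ k ∈ F.Ksub, k⁻¹ * z * k ∈ F.Ksub := fun k hk =>
        mul_mem (mul_mem (inv_mem hk) F.z_mem_K) hk
      rcases F.K_cases hg with e | e
      · have := hk g e
        rwa [show g⁻¹ * z * g = c by rw [← hgc]; group] at this
      · have := hk _ e
        rwa [show (hh * g)⁻¹ * z * (hh * g) = g⁻¹ * (hh⁻¹ * (z * hh)) * g by group, ← F.hh_z,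
          inv_mul_cancel_left, show g⁻¹ * z * g = c by rw [← hgc]; group] at this
    have hcS := F.S_of_K hcK hc
    obtain ⟨p, hp, hpE⟩ := F.zType_S hcS hcZ
    obtain ⟨hpq, hps, -⟩ := inE_props p hpE
    by_cases hp2 : p.2 = 0
    · -- `c` lies in `Q`
      have hcQ : c ∈ Q := (mem_Q_iff F.P hp).mpr hp2
      have hp1 : (h.π c).2 = p.1 :=
        congrArg Prod.fst (isW_unique F.P (isW_of_Q F.P hcQ (isW_cz F.P hp).2) hp)
      by_cases hp0 : p.1 = 0
      · exfalso
        obtain ⟨i, j, hij⟩ := isW_eq_tt F.P (show W[c, (0 : R2)] from by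
          rwa [show p = (0 : R2) from Prod.ext hp0 hp2] at hp)
        apply hus
        rcases two_cases' i with rfl | rfl <;> rcases two_cases' j with rfl | rfl <;>
          simp only [tt, zp_zero, zp_one, one_mul, mul_one] at hij
        · exact absurd hij hc1
        · rw [hij] at huc'; exact huc'.eq
        · exact absurd hij hcz
        · have h1 : Commute u (z * (z * s)) := (show Commute u z from huc).mul_right (hij ▸ huc')
          rwa [← mul_assoc, h.zz, one_mul] at h1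
      refine F.of_point huz huc huQ hus hcQ ?_ huc'.eq
      have hd : (h.π c).1.2 = 0 := (F.P.commA hcQ).mp (isW_cz F.P hp).2
      have h1 := P4_cover (h.π c).1.1 p.1 hp0 (Or.inl (by
        rwa [show (p.1, (0 : U4)) = p from Prod.ext rfl hp2.symm]))
      rwa [show (((h.π c).1.1, (0 : ZMod 2)), p.1) = h.π c from
        Prod.ext (Prod.ext rfl hd.symm) hp1.symm] at h1
    · -- `ρ u` preserves the line of `c`
      obtain ⟨hθ, hθ1⟩ := outside_cases p hp2 hps hpq
      have hρc : h.ρ c = E p.2 := isW_rho F.P hp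
      have hcomm : h.ρ u * E p.2 = E p.2 * h.ρ u := by
        rw [← hρc, ← h.ρ_mul _ _ huc hc, ← h.ρ_mul _ _ hc huc, huc'.eq]
      obtain ⟨e, he⟩ := exists_perp_one _ hp2
      rw [fU_comm] at he
      have hA : (E p.2 : V6 ≃ₗ[ZMod 2] V6) (emb e) + emb e = v0 := by
        rw [E_app]
        simp only [emb, v0, Prod.mk_add_mk, zero_smul, add_zero, mul_zero, zero_add, he,
          show e + e = 0 from congrArg Prod.snd (add_self' ((0, 0), e))]
      have h3' := congrArg (h.ρ u : V6 ≃ₗ[ZMod 2] V6) hA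
      rw [map_add, ← mul_app, ← Subgroup.coe_mul, hcomm, Subgroup.coe_mul, mul_app, E_app] at h3'
      set r := (h.ρ u : V6 ≃ₗ[ZMod 2] V6) (emb e)
      set a := (h.ρ u : V6 ≃ₗ[ZMod 2] V6) v0 with ha
      have ha2 : a.1.2 = 0 ∧ a.2 = r.1.2 • p.2 := by
        rw [← h3']
        exact ⟨CharTwo.add_self_eq_zero _,
          (show ∀ x y : U4, x + y + x = y from fun x y => by revert x y; decide) _ _⟩
      have hane : a ≠ v0 := fun e' => hus (F.fix_comm huz huc huQ F.P.hs F.P.ss (by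
        rw [F.P.hπ]; exact e'))
      have hdr : r.1.2 = 1 := by
        rcases two_cases' r.1.2 with e' | e'
        · exfalso
          apply hane
          have h0 : a ≠ 0 := fun e'' => v0_ne ((LinearEquiv.map_eq_zero_iff _).mp e'')
          rcases cases_of_snd (y := a) (by rw [polar_v0]; exact ha2.1)
            (by rw [ha2.2, e', zero_smul]) with e'' | e''
          · exact absurd e'' h0
          · exact e''
        · exact e'
      rw [hdr, one_smul] at ha2
      -- the third point is fixed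
      set y := v0 + a
      have hyfix : (h.ρ u : V6 ≃ₗ[ZMod 2] V6) y = y := by
        have h2 : (h.ρ u : V6 ≃ₗ[ZMod 2] V6) a = v0 := by
          rw [ha, ← mul_app, ← Subgroup.coe_mul, ← h.ρ_mul _ _ huc huc, hu2, h.ρ_one]; rfl
        rw [map_add, h2, ← ha, add_comm]
      have hy : y = ((1 + a.1.1, 0), p.2) := by
        refine Prod.ext (Prod.ext rfl ?_) ?_
        · show 0 + a.1.2 = 0
          rw [ha2.1, add_zero]
        · show 0 + a.2 = p.2
          rw [ha2.2, zero_add]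
      obtain ⟨x, hxQ, hxπ⟩ := h.π_surj y
      have hy4 : y ∈ P4 := by
        rw [hy]
        refine P4_cover _ _ hp2 ?_
        rcases hθ1 with e' | e'
        · exact Or.inr (by rwa [show ((0 : U4), p.2) = p from Prod.ext e'.symm rfl])
        · left
          have : ∀ q : R2, InE q → q.1 = q.2 → InE (q.2, 0) := by decide
          exact this p hpE e'
      refine F.of_point huz huc huQ hus hxQ (hxπ ▸ hy4) (F.fix_comm huz huc huQ hxQ ?_ (by
        rw [hxπ]; exact hyfix))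
      refine (h.sq_one_iff hxQ).mpr ?_
      rw [hxπ, hy, phi_apply, mul_zero, zero_add]
      exact hθ
  · -- `c` is of the second type
    obtain ⟨d, hd⟩ := isConj_iff.mp hcT
    obtain ⟨g₀, hg₀t, hg₀⟩ := F.z_class (x := d * z * d⁻¹)
      (by rw [← hd, conj_mul, conj_mul, hc]) (isConj_iff.mpr ⟨d⁻¹, by group⟩)
    set g := g₀ * d
    have hgz : g * z * g⁻¹ = z := by
      conv_rhs => rw [← hg₀]
      simp only [g]; group
    have hg : g * z = z * g := mul_inv_eq_iff_eq_mul.mp hgz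
    have hgc : g * c * g⁻¹ = t := by
      rw [show g * c * g⁻¹ = g₀ * (d * c * d⁻¹) * g₀⁻¹ by simp only [g]; group, hd,
        mul_inv_eq_iff_eq_mul.mpr hg₀t]
    set u1 := g * u * g⁻¹ with hu1
    have hu1z : IsConj u1 z := (isConj_iff.mpr ⟨g, rfl⟩ : IsConj u u1).symm.trans huz
    have hu1t : u1 * t = t * u1 := by rw [hu1, ← hgc, conj_mul, conj_mul, huc'.eq]
    have hu1K : u1 ∈ F.Ksub := by
      obtain ⟨k, hk, hkx⟩ := F.z_class hu1t hu1z
      have hk' : ∀ k ∈ F.Ksub, k⁻¹ * z * k ∈ F.Ksub := fun k hk =>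
        mul_mem (mul_mem (inv_mem hk) F.z_mem_K) hk
      rcases F.K_cases hk with e | e
      · have := hk' k e
        rwa [show k⁻¹ * z * k = u1 by rw [← hkx]; group] at this
      · have := hk' _ e
        rwa [show (hh * k)⁻¹ * z * (hh * k) = k⁻¹ * (hh⁻¹ * (z * hh)) * k by group, ← F.hh_z,
          inv_mul_cancel_left, show k⁻¹ * z * k = u1 by rw [← hkx]; group] at this
    have hu1s : u1 * s = s * u1 := F.S_comm_s (F.S_of_K hu1K (h.conj_comm hg huc))
    set t1 := g * t * g⁻¹ with ht1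
    have ht1T : t1 ∈ F.Tsub := F.mem_T.mpr ⟨h.conj_comm hg F.t_z, by
      have e1 : g * t * g⁻¹ * (g * c * g⁻¹) = g * c * g⁻¹ * (g * t * g⁻¹) := by
        rw [conj_mul, conj_mul, htc.eq]
      rwa [hgc] at e1⟩
    set x := g⁻¹ * s * g with hx
    have hgi := h.inv_comm hg
    have hxQ : x ∈ Q := by simpa [hx] using h.norm g⁻¹ hgi s F.P.hs
    have hgx : g * x * g⁻¹ = s := by rw [hx]; group
    have hx2 : x * x = 1 := by
      have : g * (x * x) * g⁻¹ = 1 := by rw [← conj_mul, hgx, F.P.ss]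
      exact conj_eq_one_iff.mp this
    have hux : u * x = x * u := by
      have e1 : g * u * g⁻¹ * (g * x * g⁻¹) = g * x * g⁻¹ * (g * u * g⁻¹) := by
        rw [hgx]; exact hu1s
      rw [conj_mul, conj_mul] at e1
      exact mul_left_cancel (mul_right_cancel e1)
    have htx : t * x * t = x ∨ t * x * t = x * z := by
      have e1 : t * x * t = g⁻¹ * (t1 * s * t1⁻¹) * g := by
        rw [ht1, hx, show g * t * g⁻¹ * s * (g * t * g⁻¹)⁻¹ = g * (t * (g⁻¹ * s * g) * t⁻¹) * g⁻¹ by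
          group, F.t_inv]
        group
      rw [e1]
      rcases F.T_s ht1T with e | e <;> rw [e]
      · exact Or.inl (hx ▸ rfl)
      · refine Or.inr ?_
        rw [hx, show g⁻¹ * (s * z) * g = g⁻¹ * s * g * (g⁻¹ * (z * g)) by group, ← hg,
          inv_mul_cancel_left]
    have hfix : (E u0 : V6 ≃ₗ[ZMod 2] V6) (h.π x) = h.π x := by
      rw [← F.rho_t, ← h.ρ_π t F.t_z x hxQ, F.t_inv]
      rcases htx with e | e <;> rw [e]
      rw [h.π_mul _ hxQ _ h.hzQ, h.π_z, add_zero]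
    rw [E_app] at hfix
    have hd : (h.π x).1.2 = 0 := by
      rcases two_cases' (h.π x).1.2 with e | e
      · exact e
      · exfalso
        have h2 := congrArg Prod.snd hfix
        simp only [e, one_smul] at h2
        exact u0_ne (add_eq_left.mp h2)
    have hf : fU u0 (h.π x).2 = 0 := by
      have h1 := congrArg (fun y : V6 => y.1.1) hfix
      simp only [hd, mul_zero, add_zero] at h1
      exact add_eq_left.mp h1
    have hsing : qU (h.π x).2 = 0 := by
      have := (h.sq_one_iff hxQ).mp hx2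
      rwa [phi_apply, hd, mul_zero, zero_add] at this
    by_cases ha0 : (h.π x).2 = 0
    · exfalso
      apply hus
      have hπ : h.π x = v0 := by
        rcases cases_of_snd (y := h.π x) (by rw [polar_v0]; exact hd) ha0 with e | e
        · exfalso
          have hx0 := (h.π_zero x hxQ).mp e
          rcases hx0 with e' | e'
          · rw [e', mul_one, mul_inv_cancel] at hgx; exact F.P.s_ne hgx.symm
          · rw [e', hgz] at hgx; exact F.P.s_ne_z hgx.symm
        · exact e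
      rcases h.π_eq F.P.hs hxQ (by rw [F.P.hπ, hπ]) with e | e
      · rwa [e] at hux
      · have h1 : Commute u (x * z) := (show Commute u x from hux).mul_right huc
        rwa [e, mul_assoc, h.zz, mul_one] at h1
    have hW := isW_of_Q F.P hxQ ((F.P.commA hxQ).mpr hd)
    rcases fix_u0 _ hsing hf with e | e | e
    · exact absurd e ha0
    · refine F.of_point huz huc huQ hus hxQ ?_ hux
      have := P4_cover (h.π x).1.1 _ ha0 (Or.inl e)
      rwa [show (((h.π x).1.1, (0 : ZMod 2)), (h.π x).2) = h.π x from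
        Prod.ext (Prod.ext rfl hd.symm) rfl] at this
    · -- then `z` is a power of `u t`
      exfalso
      have htxz : t * x * t = x * z := by
        refine htx.resolve_left fun e' => ?_
        have h1 : t * x = x * t := by
          calc t * x = t * x * t * t := by rw [mul_assoc _ t t, F.t2, mul_one]
            _ = x * t := by rw [e']
        rw [(isW_commute_iff F.P hW F.ht).mp h1.symm] at e
        exact absurd e (by decide)
      have hu'x : t * u * t * x = x * (t * u * t) := by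
        have h1 : t * x * t * (t * u * t) = t * u * t * (t * x * t) := by
          calc t * x * t * (t * u * t) = t * (x * (t * t) * u) * t := by group
            _ = t * (u * (t * t) * x) * t := by rw [F.t2, mul_one, mul_one, hux]
            _ = _ := by group
        rw [htxz] at h1
        have h2 : Commute (t * u * t) (x * z * z) :=
          (show Commute (t * u * t) (x * z) from h1.symm).mul_right
            (h.mul_comm' (h.mul_comm' F.t_z huc) F.t_z)
        rwa [mul_assoc x z z, h.zz, mul_one] at h2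
      obtain ⟨p, p', hp, hp', hp2, hp2', hne, hpq, hpq', hp1, hp1', heq⟩ :=
        F.pair_frame huz huc huQ hus hg hgx hux hu'x
      have hb : bil p p' ≠ 0 := by
        obtain ⟨p1, p2⟩ := p
        obtain ⟨q1, q2⟩ := p'
        obtain ⟨h1, h2, h3, h4⟩ := comm_ne p2 q2 hpq hpq' hp2 hp2' hne
        rcases hp1 with e1 | e1 <;> rcases hp1' with e2 | e2 <;> simp only at e1 e2 <;>
          rw [e1, e2]
        exacts [h1, h2, h3, h4]
      set c' := u * (t * u * t) * (u * (t * u * t)) with hc'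
      have hc'2 : c' * c' = 1 := by
        have h2 : g * (c' * c') * g⁻¹ = 1 := by rw [← conj_mul, heq, tt_self F.P]
        exact conj_eq_one_iff.mp h2
      have hc'1 : c' ≠ 1 := fun e' => hb (by
        rw [e', mul_one, mul_inv_cancel, ← tt_zero F.P] at heq
        exact Prod.ext (F.P.tt_inj heq.symm).1 (F.P.tt_inj heq.symm).2)
      have hc'w : c' ∈ zpowers (u * t) := by
        rw [hc', ← CycInvol.sq]
        exact mul_mem (mul_mem (mem_zpowers _) (mem_zpowers _)) (mul_mem (mem_zpowers _) (mem_zpowers _))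
      have hc't : t * c' = c' * t := (CycInvol.commute hu2 F.t2 hc'w hc'2).2.eq
      apply hno
      rcases two_cases' (bil p p').2 with e2 | e2
      · rcases two_cases' (bil p p').1 with e1 | e1
        · exact absurd (Prod.ext e1 e2) hb
        · have h5 : g * c' * g⁻¹ = g * z * g⁻¹ := by rw [heq, e1, e2, hgz]; simp [tt, zp]
          rwa [show c' = z from mul_left_cancel (mul_right_cancel h5)] at hc'w
      · exfalso
        have hcx : c' = zp z (bil p p').1 * x := by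
          have hzp : g * zp z (bil p p').1 * g⁻¹ = zp z (bil p p').1 := by
            unfold zp; split_ifs
            · group
            · exact hgz
          refine mul_left_cancel (a := g) (mul_right_cancel (b := g⁻¹) ?_)
          rw [heq, ← conj_mul, hzp, hgx, e2]
          simp [tt, zp]
        have hzt : t * zp z (bil p p').1 = zp z (bil p p').1 * t := by
          unfold zp; split_ifs
          · simp
          · exact F.t_z
        rw [hcx] at hc't
        have h1 : zp z (bil p p').1 * (t * x) = zp z (bil p p').1 * (x * t) := by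
          calc zp z (bil p p').1 * (t * x) = t * (zp z (bil p p').1 * x) := by
                rw [← mul_assoc, ← hzt, mul_assoc]
            _ = _ := by rw [hc't, mul_assoc]
        have h2 : t * x = x * t := mul_left_cancel h1
        rw [h2, mul_assoc, F.t2, mul_one] at htxz
        exact h.z_ne (left_eq_mul.mp htxz)

end Frame

end Cfsg.Agent.H55.Suz
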