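import Cfsg.Agent.H55.Suz.Types

/-!
Elements of `N(V)` normalising a subgroup of order five or seven of `K`.
-/

set_option autoImplicit false
set_option linter.unusedSectionVars false
set_option linter.style.haveILetI false

namespace Cfsg.Agent.H55.Suz

open Cfsg.Agent.H73.Suz Subgroup

theorem conj_pow_iter {G : Type*} [Group G] {a y : G} {i : ℕ} (ha : a * y * a⁻¹ = y ^ i) :
    ∀ n : ℕ, a ^ n * y * (a ^ n)⁻¹ = y ^ (i ^ n)
  | 0 => by simp
  | n + 1 => by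
    calc a ^ (n + 1) * y * (a ^ (n + 1))⁻¹ = a * (a ^ n * y * (a ^ n)⁻¹) * a⁻¹ := by
          rw [pow_succ']; group
      _ = y ^ (i ^ (n + 1)) := by rw [conj_pow_iter ha n, ← conj_pow, ha, ← pow_mul, ← pow_succ']

theorem conj_pow_mul {G : Type*} [Group G] {a b y : G} {i j : ℕ} (ha : a * y * a⁻¹ = y ^ i)
    (hb : b * y * b⁻¹ = y ^ j) : a * b * y * (a * b)⁻¹ = y ^ (i * j) := by
  calc a * b * y * (a * b)⁻¹ = a * (b * y * b⁻¹) * a⁻¹ := by group
    _ = y ^ (i * j) := by rw [hb, ← conj_pow, ha, ← pow_mul]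

/-- Exponents modulo an odd prime `p ≤ 7`: one generated by two of them. -/
theorem gen_five : ∀ e₀ : ZMod 5, e₀ ≠ 0 → e₀ ^ 2 ≠ 1 → ∀ e : ZMod 5, e ≠ 0 →
    e = e₀ ^ 0 ∨ e = e₀ ^ 1 ∨ e = e₀ ^ 2 ∨ e = e₀ ^ 3 := by decide

theorem gen_seven : ∀ e₀ i : ZMod 7, e₀ ≠ 0 → i ≠ 1 → i ^ 3 = 1 → e₀ ^ 3 ≠ 1 → ∀ e : ZMod 7, e ≠ 0 →
    e = i ^ 0 ∨ e = i ^ 1 ∨ e = i ^ 2 ∨ e = e₀ * i ^ 0 ∨ e = e₀ * i ^ 1 ∨ e = e₀ * i ^ 2 := by decide

theorem root_five : ∀ i : ZMod 5, i ≠ 1 → i ^ 2 = 1 → ∀ e : ZMod 5, e ^ 2 = 1 → e = i ^ 0 ∨ e = i ^ 1 := by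
  decide

theorem root_seven : ∀ i : ZMod 7, i ≠ 1 → i ^ 3 = 1 → ∀ e : ZMod 7, e ^ 3 = 1 →
    e = i ^ 0 ∨ e = i ^ 1 ∨ e = i ^ 2 := by decide

theorem ten_five : ∀ i : ZMod 5, i ^ 10 = 1 → i ^ 2 = 1 := by decide

theorem twentyone_seven : ∀ i : ZMod 7, i ^ 21 = 1 → i ^ 3 = 1 := by decide

theorem fourth_five : ∀ e : ZMod 5, e ≠ 0 → e ^ 4 = 1 := by decide

theorem sixth_seven : ∀ e : ZMod 7, e ≠ 0 → (e ^ 4) ^ 3 = 1 ∧ (e ^ 2) * e ^ 4 = 1 ∧ (e ^ 2) ^ 3 = 1 := by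
  decide

namespace Frame

variable {G : Type*} [Group G] [Finite G] {z : G} {Q : Subgroup G}
variable {h : Setup z Q} {s w t om hh : G} (F : Frame h s w t om hh)

include F

theorem pow_eq_iff {p : ℕ} {y : G} (hyp : orderOf y = p) (a b : ℕ) :
    y ^ a = y ^ b ↔ (a : ZMod p) = b := by
  rw [pow_eq_pow_iff_modEq, hyp, ZMod.natCast_eq_natCast_iff]

theorem exp_ne_zero {p : ℕ} (hp : p.Prime) {a y : G} {i : ℕ} (hyp : orderOf y = p)
    (ha : a * y * a⁻¹ = y ^ i) : (i : ZMod p) ≠ 0 := fun e => by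
  have h0 : y ^ i = y ^ 0 := (F.pow_eq_iff hyp i 0).mpr (by simpa using e)
  rw [h0, pow_zero, conj_eq_one_iff] at ha
  rw [ha, orderOf_one] at hyp
  exact hp.one_lt.ne hyp

/-- The normaliser in `K` induces a group of order two, respectively three. -/
theorem exists_exp_K {p : ℕ} (hp : p = 5 ∨ p = 7) {y : G} (hy : y ∈ F.Ksub) (hyp : orderOf y = p) :
    ∃ (i : ℕ), ∃ k ∈ F.Ksub, k * y * k⁻¹ = y ^ i ∧ (i : ZMod p) ≠ 1 ∧
      (i : ZMod p) ^ ((p - 1) / 2) = 1 := by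
  haveI := F.kq_main.2
  have hprime : p.Prime := by rcases hp with rfl | rfl <;> norm_num
  have hodd : Odd p := by rcases hp with rfl | rfl <;> decide
  set yK : F.Ksub := ⟨y, hy⟩
  have hord : orderOf (F.kmk yK) = p := F.kmk_order hprime hodd hyp
  set C := centralizer ({F.kmk yK} : Set F.KQ)
  set N := normalizer ((zpowers (F.kmk yK) : Subgroup F.KQ) : Set F.KQ)
  have hcard : Nat.card C < Nat.card N := by
    rcases hp with rfl | rfl
    · obtain ⟨h1, h2⟩ := CitArith.five F.kq_cit F.kq_main.1 hord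
      show Nat.card C < Nat.card N
      rw [h1, h2]; norm_num
    · obtain ⟨h1, h2⟩ := CitArith.seven F.kq_cit F.kq_main.1 hord
      show Nat.card C < Nat.card N
      rw [h1, h2]; norm_num
  obtain ⟨n, hn, hnC⟩ : ∃ n ∈ N, n ∉ C := by
    by_contra hcon
    push Not at hcon
    exact absurd (card_le_of_le (show N ≤ C from fun n hn => hcon n hn)) (not_le.mpr hcard)
  obtain ⟨i, hi⟩ := CyclicNorm.exists_pow hn
  obtain ⟨k, rfl⟩ := F.kmk_surj n
  have hi' : k * yK * k⁻¹ = yK ^ i := by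
    obtain ⟨u, hu, e⟩ := F.kmk_eq (a := yK ^ i) (b := k * yK * k⁻¹)
      (by rw [map_mul, map_mul, map_inv, map_pow]; exact hi.symm)
    have e' : (k : G) * y * (k : G)⁻¹ = y ^ i * u := by rwa [SubmonoidClass.coe_pow] at e
    have hu1 : u = 1 := by
      refine F.pow_V (pow_mem hy i) hu ?_ hodd ?_
      · rw [← pow_mul, mul_comm, pow_mul, ← hyp, pow_orderOf_eq_one, one_pow]
      · rw [← e', conj_pow, ← hyp, pow_orderOf_eq_one, mul_one, mul_inv_cancel]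
    apply Subtype.ext
    show (k : G) * y * (k : G)⁻¹ = _
    rw [e', hu1, mul_one, SubmonoidClass.coe_pow]
  have hne : (i : ZMod p) ≠ 1 := fun e => hnC (by
    have h1 : F.kmk yK ^ i = F.kmk yK ^ 1 := by
      rw [pow_eq_pow_iff_modEq, hord, ← ZMod.natCast_eq_natCast_iff, e, Nat.cast_one]
    rw [h1, pow_one] at hi
    exact mem_centralizer_singleton_iff.mpr (mul_inv_eq_iff_eq_mul.mp hi))
  refine ⟨i, k, k.2, ?_, hne, ?_⟩
  · have := congrArg Subtype.val hi'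
    rwa [SubmonoidClass.coe_pow] at this
  have hpow : (i : ZMod p) ^ Nat.card N = 1 := by
    have h1 : F.kmk k ^ Nat.card N = 1 := by
      have := pow_card_eq_one' (x := (⟨F.kmk k, hn⟩ : N))
      exact congrArg Subtype.val this
    have h2 := conj_pow_iter hi (Nat.card N)
    rw [h1, one_mul, inv_one, mul_one] at h2
    conv_lhs at h2 => rw [← pow_one (F.kmk yK)]
    rw [pow_eq_pow_iff_modEq, hord, ← ZMod.natCast_eq_natCast_iff, Nat.cast_one, Nat.cast_pow] at h2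
    exact h2.symm
  rcases hp with rfl | rfl
  · rw [show Nat.card N = 10 from (CitArith.five F.kq_cit F.kq_main.1 hord).2] at hpow
    simpa using ten_five _ hpow
  · rw [show Nat.card N = 21 from (CitArith.seven F.kq_cit F.kq_main.1 hord).2] at hpow
    simpa using twentyone_seven _ hpow

/-- An element of `C(t)` outside `K` normalising `⟨y⟩` and no power of an element of `K`. -/
theorem exists_exp_out {p : ℕ} (hp : p = 5 ∨ p = 7) {y : G} (hy : y ∈ F.Ksub) (hyp : orderOf y = p) :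
    ∃ (e : ℕ) (a : G), a * t = t * a ∧ a * y * a⁻¹ = y ^ e ∧ (e : ZMod p) ^ ((p - 1) / 2) ≠ 1 := by
  have hyt := (F.mem_K.mp hy).1
  obtain ⟨k, hk, e, he⟩ := F.conj_K hp (a := y) (b := hh * y * hh⁻¹) hyt
    (((show Commute hh t from F.hh_t).mul_left (show Commute y t from hyt)).mul_left
      (show Commute hh t from F.hh_t).inv_left).eq hyp (by rw [H65.orderOf_conj', hyp])
  set a := k * hh with ha
  have hat : a * t = t * a :=
    ((show Commute k t from (F.mem_K.mp hk).1).mul_left F.hh_t).eq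
  have haK : a ∉ F.Ksub := fun hm => by
    have h1 : hh ∈ F.Ksub := by
      have h2 := mul_mem (inv_mem hk) hm
      rwa [ha, inv_mul_cancel_left] at h2
    have h3 := F.hh_v
    rw [mul_inv_eq_iff_eq_mul.mpr (F.mem_K.mp h1).2] at h3
    exact F.t_ne (right_eq_mul.mp h3)
  have hay : a * y * a⁻¹ = y ^ e := by rw [← he, ha]; group
  refine ⟨e, a, hat, hay, fun he1 => ?_⟩
  obtain ⟨i, k', hk', hk'y, hi1, hi2⟩ := F.exists_exp_K hp hy hyp
  have hkill : ∀ n : ℕ, (i : ZMod p) ^ n * (e : ZMod p) = 1 → False := fun n hn => by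
    have h1 := conj_pow_mul (conj_pow_iter hk'y n) hay
    rw [show y ^ (i ^ n * e) = y ^ 1 from (F.pow_eq_iff hyp _ _).mpr (by push_cast; exact hn),
      pow_one] at h1
    have h2 := F.cent_mem_K hp hy hyp
      (((show Commute k' t from (F.mem_K.mp hk').1).pow_left n).mul_left hat).eq
      (mul_inv_eq_iff_eq_mul.mp h1)
    refine haK ?_
    have h3 := mul_mem (inv_mem (pow_mem hk' n)) h2
    rwa [inv_mul_cancel_left] at h3
  rcases hp with rfl | rfl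
  · simp at hi2 he1
    rcases root_five _ hi1 hi2 _ he1 with e' | e'
    · exact hkill 0 (by rw [e']; simp)
    · exact hkill 1 (by rw [e']; simp [← pow_two, hi2])
  · simp at hi2 he1
    rcases root_seven _ hi1 hi2 _ he1 with e' | e' | e'
    · exact hkill 0 (by rw [e']; simp)
    · exact hkill 2 (by rw [e', ← pow_add]; exact hi2)
    · exact hkill 1 (by rw [e', ← pow_add]; exact hi2)

/-- `C(t)` induces all automorphisms. -/
theorem exists_exp_all {p : ℕ} (hp : p = 5 ∨ p = 7) {y : G} (hy : y ∈ F.Ksub) (hyp : orderOf y = p)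
    (e : ℕ) (he : (e : ZMod p) ≠ 0) : ∃ a : G, a * t = t * a ∧ a * y * a⁻¹ = y ^ e := by
  have hprime : p.Prime := by rcases hp with rfl | rfl <;> norm_num
  obtain ⟨i, k, hk, hky, hi1, hi2⟩ := F.exists_exp_K hp hy hyp
  obtain ⟨e₀, a, hat, hay, he0⟩ := F.exists_exp_out hp hy hyp
  have hkt : Commute k t := (F.mem_K.mp hk).1
  have hfin : ∀ m n : ℕ, (e : ZMod p) = (e₀ : ZMod p) ^ m * (i : ZMod p) ^ n →
      ∃ a : G, a * t = t * a ∧ a * y * a⁻¹ = y ^ e := fun m n hmn =>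
    ⟨a ^ m * k ^ n, (((show Commute a t from hat).pow_left m).mul_left (hkt.pow_left n)).eq, by
      rw [conj_pow_mul (conj_pow_iter hay m) (conj_pow_iter hky n), F.pow_eq_iff hyp]
      push_cast; exact hmn.symm⟩
  have he00 := F.exp_ne_zero hprime hyp hay
  rcases hp with rfl | rfl
  · simp at he0
    rcases gen_five _ he00 he0 _ he with e' | e' | e' | e'
    exacts [hfin 0 0 (by simp [e']), hfin 1 0 (by simp [e']), hfin 2 0 (by simp [e']),
      hfin 3 0 (by simp [e'])]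
  · simp at he0 hi2
    rcases gen_seven _ _ he00 hi1 hi2 he0 _ he with e' | e' | e' | e' | e' | e'
    exacts [hfin 0 0 (by simp [e']), hfin 0 1 (by simp [e']), hfin 0 2 (by simp [e']),
      hfin 1 0 (by simp [e']), hfin 1 1 (by simp [e']), hfin 1 2 (by simp [e'])]

/-- An element centralising `y` and permuting the involutions of `V` cyclically. -/
theorem exists_cycler {p : ℕ} (hp : p = 5 ∨ p = 7) {y : G} (hy : y ∈ F.Ksub) (hyp : orderOf y = p) :
    ∃ m : G, m * y = y * m ∧ m * t * m⁻¹ = F.vv ∧ m * F.vv * m⁻¹ = t * F.vv := by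
  have hprime : p.Prime := by rcases hp with rfl | rfl <;> norm_num
  obtain ⟨hyt, hyv⟩ := F.mem_K.mp hy
  have hbt : om * y * om⁻¹ * t = t * (om * y * om⁻¹) := by
    have hytv : Commute y (t * F.vv) := (show Commute y t from hyt).mul_right hyv
    calc om * y * om⁻¹ * t = om * y * om⁻¹ * (om * (t * F.vv) * om⁻¹) := by rw [F.om_tv]
      _ = om * (t * F.vv) * om⁻¹ * (om * y * om⁻¹) := by rw [conj_mul, conj_mul, hytv.eq]
      _ = _ := by rw [F.om_tv]
  obtain ⟨k, hk, j, hj⟩ := F.conj_K hp (a := y) (b := om * y * om⁻¹) hyt hbt hyp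
    (by rw [H65.orderOf_conj', hyp])
  obtain ⟨hkt, hkv⟩ := F.mem_K.mp hk
  have hktv : Commute k (t * F.vv) := (show Commute k t from hkt).mul_right hkv
  set N := k * om with hN
  have hNy : N * y * N⁻¹ = y ^ j := by rw [hN, ← hj]; group
  have hN1 : N * t * N⁻¹ = F.vv := by
    rw [hN, show k * om * t * (k * om)⁻¹ = k * (om * t * om⁻¹) * k⁻¹ by group]
    exact mul_inv_eq_iff_eq_mul.mpr hkv
  have hN2 : N * F.vv * N⁻¹ = t * F.vv := by
    rw [hN, show k * om * F.vv * (k * om)⁻¹ = k * (om * F.vv * om⁻¹) * k⁻¹ by group, F.om_v,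
      hktv.eq, mul_inv_cancel_right]
  have hN3 : N * (t * F.vv) * N⁻¹ = t := by
    rw [hN, show k * om * (t * F.vv) * (k * om)⁻¹ = k * (om * (t * F.vv) * om⁻¹) * k⁻¹ by group,
      F.om_tv]
    exact mul_inv_eq_iff_eq_mul.mpr hkt
  have h4t : N ^ 4 * t * (N ^ 4)⁻¹ = F.vv := by
    calc N ^ 4 * t * (N ^ 4)⁻¹ = N * (N * (N * (N * t * N⁻¹) * N⁻¹) * N⁻¹) * N⁻¹ := by
          simp only [pow_succ, pow_zero, one_mul]; group
      _ = F.vv := by rw [hN1, hN2, hN3, hN1]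
  have h4v : N ^ 4 * F.vv * (N ^ 4)⁻¹ = t * F.vv := by
    calc N ^ 4 * F.vv * (N ^ 4)⁻¹ = N * (N * (N * (N * F.vv * N⁻¹) * N⁻¹) * N⁻¹) * N⁻¹ := by
          simp only [pow_succ, pow_zero, one_mul]; group
      _ = _ := by rw [hN2, hN3, hN1, hN2]
  have h4y := conj_pow_iter hNy 4
  have hj0 := F.exp_ne_zero hprime hyp hNy
  obtain ⟨k', hk', hk'y⟩ : ∃ k' ∈ F.Ksub, k' * (y ^ (j ^ 4)) * k'⁻¹ = y := by
    rcases hp with rfl | rfl
    · refine ⟨1, one_mem _, ?_⟩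
      rw [show y ^ (j ^ 4) = y ^ 1 from (F.pow_eq_iff hyp _ _).mpr
        (by push_cast; exact fourth_five _ hj0)]
      simp
    · obtain ⟨i, k₀, hk₀, hk₀y, hi1, hi2⟩ := F.exists_exp_K (Or.inr rfl) hy hyp
      simp at hi2
      obtain ⟨-, hinv, hcube⟩ := sixth_seven _ hj0
      obtain ⟨n, hn⟩ : ∃ n : ℕ, (j : ZMod 7) ^ 2 = (i : ZMod 7) ^ n := by
        rcases root_seven _ hi1 hi2 _ hcube with e | e | e
        exacts [⟨0, e⟩, ⟨1, e⟩, ⟨2, e⟩]
      refine ⟨k₀ ^ n, pow_mem hk₀ n, ?_⟩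
      rw [← conj_pow, conj_pow_iter hk₀y n, ← pow_mul]
      conv_rhs => rw [← pow_one y]
      rw [F.pow_eq_iff hyp]
      push_cast
      rw [← hn, hinv]
  obtain ⟨hk't, hk'v⟩ := F.mem_K.mp hk'
  refine ⟨k' * N ^ 4, mul_inv_eq_iff_eq_mul.mp ?_, ?_, ?_⟩
  · rw [show k' * N ^ 4 * y * (k' * N ^ 4)⁻¹ = k' * (N ^ 4 * y * (N ^ 4)⁻¹) * k'⁻¹ by group, h4y,
      hk'y]
  · rw [show k' * N ^ 4 * t * (k' * N ^ 4)⁻¹ = k' * (N ^ 4 * t * (N ^ 4)⁻¹) * k'⁻¹ by group, h4t]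
    exact mul_inv_eq_iff_eq_mul.mpr hk'v
  · rw [show k' * N ^ 4 * F.vv * (k' * N ^ 4)⁻¹ = k' * (N ^ 4 * F.vv * (N ^ 4)⁻¹) * k'⁻¹ by group,
      h4v]
    exact mul_inv_eq_iff_eq_mul.mpr ((show Commute k' t from hk't).mul_right hk'v).eq

end Frame

end Cfsg.Agent.H55.Suz
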