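import Cfsg.Agent.H55.Suz.VNormal
import Cfsg.Agent.Cores.PCore
import Cfsg.Agent.H65.Invol
import Cfsg.Agent.PGroups.Basic

/-!
Groups with one involution in each `2`-subgroup and small involution centraliser.
-/

set_option autoImplicit false
set_option linter.unusedSectionVars false
set_option linter.style.haveILetI false

namespace Cfsg.Agent.H55.Suz

open Subgroup

theorem inverted_odd_core {E : Type*} [Group E] [Finite E] {a : E} (ha : orderOf a = 2)
    (huniq : ∀ b c : E, orderOf b = 2 → orderOf c = 2 → b * c = c * b → b = c)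
    (hC : ∀ c : E, c * a = a * c → ∃ k : ℕ, c ^ 2 ^ k = 1) :
    (∀ o ∈ Cfsg.oddCore E, a * o * a⁻¹ = o⁻¹) ∧
      ∀ g : E, Odd (orderOf g) → g ∈ Cfsg.oddCore E := by
  haveI : Fact (Nat.Prime 2) := ⟨Nat.prime_two⟩
  set O := Cfsg.oddCore E with hO
  haveI : O.Normal := Cfsg.pPrimeCore_normal 2 E
  have hodd : Odd (Nat.card O) := odd_of_coprime_two Cores.coprime_card_pPrimeCore
  have ha2 : a * a = 1 := H65.mul_self_eq_one ha
  have hp : IsPGroup 2 (zpowers a) :=
    IsPGroup.of_card (n := 1) (by rw [Nat.card_zpowers, ha, pow_one])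
  obtain ⟨P, hP⟩ := hp.exists_le_sylow
  have haP : a ∈ (P : Subgroup E) := hP (mem_zpowers a)
  have hiso : ∀ g : E, g * a * g⁻¹ ∈ (P : Subgroup E) → g * a * g⁻¹ = a := by
    intro g hg
    haveI : Nontrivial (P : Subgroup E) :=
      ⟨⟨⟨a, haP⟩, 1, fun e => by
        have e' : a = 1 := congrArg Subtype.val e
        rw [e', orderOf_one] at ha; norm_num at ha⟩⟩
    obtain ⟨c, -, hcc, hc⟩ := PGroups.exists_mem_center_orderOf_eq P.2
      (⊤ : Subgroup (P : Subgroup E)) top_ne_bot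
    have hc' : orderOf (c : E) = 2 := by rw [Subgroup.orderOf_coe, hc]
    have hcen : ∀ b ∈ (P : Subgroup E), b * (c : E) = c * b := fun b hb =>
      congrArg Subtype.val (mem_center_iff.mp hcc ⟨b, hb⟩)
    rw [huniq _ _ ((H65.orderOf_conj' g a).trans ha) hc' (hcen _ hg),
      huniq _ _ ha hc' (hcen _ haP)]
  have hfix : ∀ n ∈ O, a * n * a⁻¹ = n → n = 1 := by
    intro n hn e
    obtain ⟨k, hk⟩ := hC n (mul_inv_eq_iff_eq_mul.mp e).symm
    exact eq_one_of_odd_pow hodd hn hk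
  have hinv : ∀ o ∈ O, a * o * a⁻¹ = o⁻¹ := fun o ho =>
    inverts_of_fpf hodd ha2 (fun m hm => ‹O.Normal›.conj_mem m hm a) hfix ho
  refine ⟨hinv, fun g hg => ?_⟩
  have hmem : a * g * a⁻¹ * g⁻¹ ∈ O := Cores.glaubermanZStar P ha haP hiso g
  set o := a * g * a⁻¹ * g⁻¹ with ho
  obtain ⟨m, hm⟩ : ∃ m, orderOf o = 2 * m + 1 := by
    obtain ⟨m, hm⟩ := Odd.of_dvd_nat hodd (Subgroup.orderOf_dvd_natCard O hmem)
    exact ⟨m, hm⟩
  set o' := o ^ (m + 1) with ho'
  have ho'2 : o' * o' = o := by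
    rw [ho', ← pow_add, show m + 1 + (m + 1) = orderOf o + 1 by omega, pow_succ, pow_orderOf_eq_one,
      one_mul]
  have ho'O : o' ∈ O := pow_mem hmem _
  have hag : a * g * a⁻¹ = o' * o' * g := by rw [ho'2, ho]; group
  have hh : (o' * g) * a = a * (o' * g) := by
    refine (mul_inv_eq_iff_eq_mul.mp ?_).symm
    calc a * (o' * g) * a⁻¹ = a * o' * a⁻¹ * (a * g * a⁻¹) := by group
      _ = o' * g := by rw [hinv o' ho'O, hag]; group
  obtain ⟨k, hk⟩ := hC _ hh
  have h1 : (QuotientGroup.mk' O) g = (QuotientGroup.mk' O) (o' * g) := by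
    rw [map_mul, (QuotientGroup.eq_one_iff o').mpr ho'O |> fun e => (show QuotientGroup.mk' O o' = 1 from e),
      one_mul]
  have h2 : (QuotientGroup.mk' O g) ^ 2 ^ k = 1 := by rw [h1, ← map_pow, hk, map_one]
  refine (QuotientGroup.eq_one_iff g).mp (?_ : QuotientGroup.mk' O g = 1)
  exact orderOf_eq_one_iff.mp (Nat.eq_one_of_dvd_coprimes
    ((Nat.coprime_two_left.mpr hg).pow_left k) (orderOf_dvd_of_pow_eq_one h2)
    (orderOf_map_dvd _ g))

end Cfsg.Agent.H55.Suz
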