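import Cfsg.Agent.H55.Suz.Kgroup
import Cfsg.Agent.H55.Suz.CitArith
import Cfsg.Agent.H55.Suz.Unique

/-!
Centralisers in `C(t)` of elements of order five and seven.
-/

set_option autoImplicit false
set_option linter.unusedSectionVars false
set_option linter.style.haveILetI false

namespace Cfsg.Agent.H55.Suz.Frame

open Cfsg.Agent.H73.Suz Cfsg.Agent.H92.ExtraForm Subgroup

variable {G : Type*} [Group G] [Finite G] {z : G} {Q : Subgroup G}
variable {h : Setup z Q} {s w t om hh : G} (F : Frame h s w t om hh)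

local notation "W[" x ", " p "]" => IsW h s w x p

include F

theorem card_K : Nat.card F.Ksub = 80640 := by
  have h1 := F.card_preimage ⊤
  rw [comap_top, ← MonoidHom.range_eq_map, range_subtype, card_top, F.kq_main.1] at h1
  exact h1

theorem sq_mem_K {g : G} (hg : g * t = t * g) : g * g ∈ F.Ksub := by
  refine F.mem_K.mpr ⟨((show Commute g t from hg).mul_left hg).eq, mul_inv_eq_iff_eq_mul.mp ?_⟩
  rw [show g * g * F.vv * (g * g)⁻¹ = g * (g * F.vv * g⁻¹) * g⁻¹ by group]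
  rcases F.v_normal hg with e | e
  · rw [e, e]
  · rw [e, ← conj_mul, mul_inv_eq_iff_eq_mul.mpr hg, e, ← mul_assoc, F.t2, one_mul]

theorem odd_mem_K {g : G} (hg : g * t = t * g) (ho : Odd (orderOf g)) : g ∈ F.Ksub := by
  obtain ⟨m, hm⟩ := ho
  have e : g = (g * g) ^ (m + 1) := by
    rw [← pow_two, ← pow_mul, show 2 * (m + 1) = orderOf g + 1 by omega, pow_succ,
      pow_orderOf_eq_one, one_mul]
  rw [e]
  exact pow_mem (F.sq_mem_K hg) _

omit F in
theorem kmk_order (F : Frame h s w t om hh) {p : ℕ} (hp : p.Prime) (hp2 : Odd p) {y : F.Ksub}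
    (hy : orderOf (y : G) = p) : orderOf (F.kmk y) = p := by
  haveI : Fact p.Prime := ⟨hp⟩
  refine orderOf_eq_prime ?_ fun e => ?_
  · rw [← map_pow, show y ^ p = 1 from Subtype.ext (by
      rw [SubmonoidClass.coe_pow, OneMemClass.coe_one, ← hy, pow_orderOf_eq_one]), map_one]
  · have h2 := F.V_sq (F.kmk_one.mp e)
    have h3 := orderOf_dvd_of_pow_eq_one (show (y : G) ^ 2 = 1 by rw [pow_two, h2])
    rw [hy] at h3
    exact hp2.not_two_dvd_nat (((Nat.prime_dvd_prime_iff_eq hp Nat.prime_two).mp h3) ▸ dvd_rfl)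

theorem pow_V {y u : G} {p : ℕ} (hy : y ∈ F.Ksub) (hu : u ∈ F.Vsub) (hyp : y ^ p = 1) (hp : Odd p)
    (h1 : (y * u) ^ p = 1) : u = 1 := by
  rw [(show Commute y u from F.V_comm hu hy).mul_pow, hyp, one_mul] at h1
  obtain ⟨m, rfl⟩ := hp
  rwa [pow_succ, pow_mul, pow_two, F.V_sq hu, one_pow, one_mul] at h1

/-- The cyclic centraliser in `K`. -/
theorem cent_K {p : ℕ} (hp : p = 5 ∨ p = 7) {y c : G} (hy : y ∈ F.Ksub) (hyp : orderOf y = p)
    (hc : c ∈ F.Ksub) (hcy : c * y = y * c) : ∃ u ∈ F.Vsub, ∃ i : ℕ, c = u * y ^ i := by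
  haveI := F.kq_main.2
  have hprime : p.Prime := by rcases hp with rfl | rfl <;> norm_num
  have hodd : Odd p := by rcases hp with rfl | rfl <;> decide
  set yK : F.Ksub := ⟨y, hy⟩
  set cK : F.Ksub := ⟨c, hc⟩
  have hord : orderOf (F.kmk yK) = p := F.kmk_order hprime hodd hyp
  have hcard : Nat.card (centralizer ({F.kmk yK} : Set F.KQ)) = p := by
    rcases hp with rfl | rfl
    · exact (CitArith.five F.kq_cit F.kq_main.1 hord).1
    · exact (CitArith.seven F.kq_cit F.kq_main.1 hord).1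
  have heq : zpowers (F.kmk yK) = centralizer ({F.kmk yK} : Set F.KQ) :=
    eq_of_le_of_card_ge (zpowers_le.mpr (mem_centralizer_singleton_iff.mpr rfl))
      (by rw [hcard, Nat.card_zpowers, hord])
  have hmem : F.kmk cK ∈ zpowers (F.kmk yK) := by
    rw [heq, mem_centralizer_singleton_iff, ← map_mul, ← map_mul]
    exact congrArg F.kmk (Subtype.ext hcy)
  rw [← mem_powers_iff_mem_zpowers, Submonoid.mem_powers_iff] at hmem
  obtain ⟨i, hi⟩ := hmem
  rw [← map_pow] at hi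
  obtain ⟨u, hu, e⟩ := F.kmk_eq hi
  refine ⟨u, hu, i, ?_⟩
  rw [show c = (yK ^ i : F.Ksub).1 * u from e, SubmonoidClass.coe_pow]
  exact ((show Commute y u from F.V_comm hu hy).pow_left i).eq

/-- Subgroups of order five or seven of `C(t)` are conjugate in `K`. -/
theorem conj_K {p : ℕ} (hp : p = 5 ∨ p = 7) {a b : G} (ha : a * t = t * a) (hb : b * t = t * b)
    (hap : orderOf a = p) (hbp : orderOf b = p) :
    ∃ k ∈ F.Ksub, ∃ i : ℕ, k * b * k⁻¹ = a ^ i := by
  have hprime : p.Prime := by rcases hp with rfl | rfl <;> norm_num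
  have hodd : Odd p := by rcases hp with rfl | rfl <;> decide
  haveI : Fact p.Prime := ⟨hprime⟩
  have haK := F.odd_mem_K ha (hap ▸ hodd)
  have hbK := F.odd_mem_K hb (hbp ▸ hodd)
  have hpg : ∀ x : G, orderOf x = p → IsPGroup p (zpowers x) := fun x hx =>
    IsPGroup.of_card (n := 1) (by rw [Nat.card_zpowers, hx, pow_one])
  obtain ⟨k, hk, hkx⟩ := exists_conj_le (p := p) (zpowers_le.mpr haK) (hpg a hap)
    (fun U hU hU' => by
      obtain ⟨n, hn⟩ := IsPGroup.iff_card.mp hU'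
      have hn1 : n ≤ 1 := by
        by_contra h2
        have h3 := (pow_dvd_pow p (by omega : 2 ≤ n)).trans (hn ▸ card_dvd_of_le hU)
        rw [F.card_K] at h3
        rcases hp with rfl | rfl <;> norm_num at h3
      rw [hn, Nat.card_zpowers, hap]
      exact (Nat.pow_le_pow_right hprime.pos hn1).trans_eq (pow_one p))
    (zpowers_le.mpr hbK) (hpg b hbp)
  have := hkx b (mem_zpowers b)
  rw [← mem_powers_iff_mem_zpowers, Submonoid.mem_powers_iff] at this
  obtain ⟨i, hi⟩ := this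
  exact ⟨k, hk, i, hi.symm⟩

/-- An element of order five or seven exists in `K`. -/
theorem exists_order {p : ℕ} (hp : p = 5 ∨ p = 7) : ∃ y ∈ F.Ksub, orderOf y = p := by
  haveI : Fact p.Prime := ⟨by rcases hp with rfl | rfl <;> norm_num⟩
  obtain ⟨y, hy⟩ := exists_prime_orderOf_dvd_card' (G := F.Ksub) p
    (by rw [F.card_K]; rcases hp with rfl | rfl <;> norm_num)
  exact ⟨y, y.2, by rw [Subgroup.orderOf_coe, hy]⟩

theorem T_out_fix {e y : G} {p : R2} (he : e ∈ F.Tsub) (heS : e ∉ F.Ssub) (hy : W[y, p])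
    (hey : e * y = y * e) : phiR p = p := by
  have := F.T_out he heS hy
  rw [hey, mul_inv_cancel_right] at this
  exact isW_unique F.P this hy

/-- An involution outside `K` centralising a conjugate of `z` meets no element of order five or
seven of `K`. -/
theorem no_outer_invol {p : ℕ} (hp : p = 5 ∨ p = 7) {y e : G} (hy : y ∈ F.Ksub)
    (hyp : orderOf y = p) (het : e * t = t * e) (heK : e ∉ F.Ksub) (he2 : e * e = 1)
    (hey : e * y = y * e) : False := by
  classical
  haveI : Fact (Nat.Prime 2) := ⟨Nat.prime_two⟩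
  haveI := F.kq_main.2
  have hprime : p.Prime := by rcases hp with rfl | rfl <;> norm_num
  have hodd : Odd p := by rcases hp with rfl | rfl <;> decide
  have he1 : e ≠ 1 := fun e' => heK (e' ▸ one_mem _)
  set E1 := ((centralizer ({e} : Set G)).subgroupOf F.Ksub).map F.kmk with hE1
  have heo : orderOf e = 2 := orderOf_eq_prime (by rw [pow_two, he2]) he1
  -- move `e` into `T`
  obtain ⟨k, hk, hke⟩ : ∃ k ∈ F.Ksub, k * e * k⁻¹ ∈ F.Tsub := by
    obtain ⟨f, hf, hfe⟩ := F.exists_conj_T (zpowers_le.mpr (mem_centralizer_singleton_iff.mpr het))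
      (IsPGroup.of_card (n := 1) (by rw [Nat.card_zpowers, heo, pow_one]))
    have h1 := hfe e (mem_zpowers e)
    rcases F.K_cases hf with e' | e'
    · exact ⟨f, e', h1⟩
    · refine ⟨hh * f, e', ?_⟩
      rw [show hh * f * e * (hh * f)⁻¹ = hh * (f * e * f⁻¹) * hh⁻¹ by group]
      exact mul_mem (mul_mem F.hh_mem_T h1) (inv_mem F.hh_mem_T)
  set e' := k * e * k⁻¹ with he'
  have he'S : e' ∉ F.Ssub := fun hS => heK (by
    have := mul_mem (mul_mem (inv_mem hk) (F.S_le_K hS)) hk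
    rwa [show k⁻¹ * e' * k = e by rw [he']; group] at this)
  have he'z : e' * z = z * e' := (F.mem_T.mp hke).1
  have hback : ∀ x ∈ F.Ksub, e' * x = x * e' →
      ∃ hx : k⁻¹ * x * k ∈ F.Ksub, F.kmk ⟨k⁻¹ * x * k, hx⟩ ∈ E1 := fun x hx hex => by
    refine ⟨mul_mem (mul_mem (inv_mem hk) hx) hk, _, mem_subgroupOf.mpr
      (mem_centralizer_singleton_iff.mpr ?_), rfl⟩
    show k⁻¹ * x * k * e = e * (k⁻¹ * x * k)
    calc k⁻¹ * x * k * e = k⁻¹ * (x * e') * k := by rw [he']; group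
      _ = e * (k⁻¹ * x * k) := by rw [← hex, he']; group
  -- lifts of involutions
  have hlift : ∀ a ∈ E1, orderOf a = 2 → ∃ x : F.Ksub, IsConj (x : G) z ∧ F.kmk x = a ∧
      e * (x : G) = x * e := by
    intro a ha ha2
    obtain ⟨x', hx', rfl⟩ := ha
    obtain ⟨x, hxz, hxe⟩ := F.kq_invol ha2
    refine ⟨x, hxz, hxe, ?_⟩
    obtain ⟨u, hu, e1⟩ := F.kmk_eq hxe
    have hx'e : e * (x' : G) * e⁻¹ = x' :=
      mul_inv_eq_iff_eq_mul.mpr (mem_centralizer_singleton_iff.mp (mem_subgroupOf.mp hx')).symm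
    have hu' : e * u * e⁻¹ ∈ F.Vsub := by
      have ht' : e * t * e⁻¹ = t := mul_inv_eq_iff_eq_mul.mpr het
      rcases F.v_normal het with ev | ev <;> rcases hu with rfl | rfl | rfl | rfl <;>
        simp only [← conj_mul, ht', ev, mul_one, mul_inv_cancel] <;>
        simp [F.mem_V, ← mul_assoc, F.t2]
    have h3 : e * (x : G) * e⁻¹ = x * (u * (e * u * e⁻¹)⁻¹) := by
      have h4 : e * (x : G) * e⁻¹ * (e * u * e⁻¹) = x * u := by
        rw [conj_mul, ← e1]; exact hx'e
      calc e * (x : G) * e⁻¹ = e * (x : G) * e⁻¹ * (e * u * e⁻¹) * (e * u * e⁻¹)⁻¹ := by group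
        _ = _ := by rw [h4]; group
    have h5 := F.coset_unique x.2 hxz (mul_mem hu (inv_mem hu')) (by
      rw [← h3]
      exact (isConj_iff.mpr ⟨e, rfl⟩ : IsConj (x : G) (e * x * e⁻¹)).symm.trans hxz)
    rw [h5, mul_one] at h3
    exact mul_inv_eq_iff_eq_mul.mp h3
  have huniq : ∀ a ∈ E1, ∀ b ∈ E1, orderOf a = 2 → orderOf b = 2 → a * b = b * a → a = b := by
    intro a ha b hb ha2 hb2 hab
    obtain ⟨x, hxz, rfl, hxe⟩ := hlift a ha ha2
    obtain ⟨y', hyz, rfl, hye⟩ := hlift b hb hb2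
    obtain ⟨m, hm, hmx⟩ := F.z_class_K x.2 hxz
    set e'' := m * e * m⁻¹ with he''
    have he''T : e'' ∈ F.Tsub := by
      refine F.mem_T.mpr ⟨?_, ?_⟩
      · rw [← hmx, he'', conj_mul, conj_mul, hxe]
      · rw [show t = m * t * m⁻¹ from (mul_inv_eq_iff_eq_mul.mpr (F.mem_K.mp hm).1).symm, he'',
          conj_mul, conj_mul, het]
    have he''S : e'' ∉ F.Ssub := fun hS => heK (by
      have := mul_mem (mul_mem (inv_mem hm) (F.S_le_K hS)) hm
      rwa [show m⁻¹ * e'' * m = e by rw [he'']; group] at this)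
    set y'' : F.Ksub := ⟨m, hm⟩ * y' * ⟨m, hm⟩⁻¹ with hy''
    have hxz' : (⟨m, hm⟩ : F.Ksub) * x * ⟨m, hm⟩⁻¹ = ⟨z, F.z_mem_K⟩ := Subtype.ext hmx
    have hyS : (y'' : G) ∈ F.Ssub := F.mem_Sbar.mp (F.kq_cent (by
      rw [hy'', kz, ← hxz', map_mul, map_mul, map_mul, map_mul, map_inv, conj_mul, conj_mul, hab]))
    have hyz' : IsConj (y'' : G) z :=
      (isConj_iff.mpr ⟨m, rfl⟩ : IsConj (y' : G) (m * y' * m⁻¹)).symm.trans hyz
    obtain ⟨r, hr, hrE⟩ := F.zType_S hyS hyz'
    have hcomm : e'' * (y'' : G) = y'' * e'' := by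
      show m * e * m⁻¹ * (m * y' * m⁻¹) = m * y' * m⁻¹ * (m * e * m⁻¹)
      rw [conj_mul, conj_mul, hye]
    have hr0 := inE_fixed r hrE (F.T_out_fix he''T he''S hr hcomm)
    subst hr0
    obtain ⟨i, j, hij⟩ := isW_eq_tt F.P hr
    have hes := F.T_out_s he''T he''S
    have hez : e'' * z * e''⁻¹ = z := mul_inv_eq_iff_eq_mul.mpr (F.mem_T.mp he''T).1
    have hfix : e'' * tt z s i j * e''⁻¹ = tt z s i j := by
      rw [← hij]; exact mul_inv_eq_iff_eq_mul.mpr hcomm
    have hy1 := (F.orderOf_zType hyz').2.1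
    rcases two_cases' i with rfl | rfl <;> rcases two_cases' j with rfl | rfl <;>
      simp only [tt, zp_zero, zp_one, one_mul, mul_one] at hij hfix
    · exact absurd hij hy1
    · rw [hes] at hfix; exact absurd (mul_eq_left.mp hfix) h.z_ne
    · congr 1
      apply Subtype.ext
      have e5 : m * (y' : G) * m⁻¹ = z := hij
      exact mul_left_cancel (mul_right_cancel (hmx.trans e5.symm))
    · rw [← conj_mul, hez, hes, mul_right_inj] at hfix
      exact absurd (mul_eq_left.mp hfix) h.z_ne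
  -- the involution of `E1`
  obtain ⟨haK, haE⟩ := hback z F.z_mem_K he'z
  have hazc : IsConj (k⁻¹ * z * k) z := isConj_iff.mpr ⟨k, by group⟩
  set a : E1 := ⟨F.kmk ⟨k⁻¹ * z * k, haK⟩, haE⟩ with ha
  have ha2 : orderOf a = 2 := by
    rw [← Subgroup.orderOf_coe]
    exact F.kq_ord (a := ⟨k⁻¹ * z * k, haK⟩) hazc
  have ha2' : orderOf (a : F.KQ) = 2 := by rw [Subgroup.orderOf_coe, ha2]
  obtain ⟨hinv, hmem⟩ := inverted_odd_core (a := a) ha2
    (fun b c hb hc hbc => Subtype.ext (huniq b b.2 c c.2 (by rw [Subgroup.orderOf_coe, hb])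
      (by rw [Subgroup.orderOf_coe, hc]) (congrArg Subtype.val hbc)))
    (fun c hc => by
      obtain ⟨n, hn⟩ := F.kq_cit (a : F.KQ) ha2'
        ⟨c, mem_centralizer_singleton_iff.mpr (congrArg Subtype.val hc)⟩
      exact ⟨n, Subtype.ext (by simpa using congrArg Subtype.val hn)⟩)
  set yK : F.Ksub := ⟨y, hy⟩
  have hord : orderOf (F.kmk yK) = p := F.kmk_order hprime hodd hyp
  set yE : E1 := ⟨F.kmk yK, yK, mem_subgroupOf.mpr (mem_centralizer_singleton_iff.mpr hey.symm), rfl⟩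
  have hyE : Odd (orderOf yE) := by rw [← Subgroup.orderOf_coe]; exact hord ▸ hodd
  have hainv : (a : F.KQ) * F.kmk yK * (a : F.KQ)⁻¹ = (F.kmk yK)⁻¹ :=
    congrArg Subtype.val (hinv _ (hmem yE hyE))
  have haN : (a : F.KQ) ∈ normalizer ((zpowers (F.kmk yK) : Subgroup F.KQ) : Set F.KQ) := by
    refine CyclicNorm.mem_normalizer_of_pow hprime hord (i := p - 1) ?_
    rw [hainv]
    refine inv_eq_of_mul_eq_one_right ?_
    rw [← pow_succ', show p - 1 + 1 = p by have := hprime.two_le; omega, ← hord, pow_orderOf_eq_one]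
  rcases hp with rfl | rfl
  swap
  · have h2 := Subgroup.orderOf_dvd_natCard _ haN
    rw [ha2', (CitArith.seven F.kq_cit F.kq_main.1 hord).2] at h2
    norm_num at h2
  obtain ⟨hC5, hN5⟩ := CitArith.five F.kq_cit F.kq_main.1 hord
  have hzp : zpowers (F.kmk yK) = centralizer ({F.kmk yK} : Set F.KQ) :=
    eq_of_le_of_card_ge (zpowers_le.mpr (mem_centralizer_singleton_iff.mpr rfl))
      (by rw [hC5, Nat.card_zpowers, hord])
  -- an element of order four in `E1`
  obtain ⟨x₀, hx₀⟩ := isW_exists F.P ((c0, 0) : R2)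
  obtain ⟨hb0, hp0, hsq0⟩ := fixed_c0
  have hxS : x₀ ∈ F.Ssub := F.mem_S.mpr ⟨_, hx₀, hb0⟩
  obtain ⟨x₁, hx₁S, hx₁W, hx₁e⟩ : ∃ x₁ ∈ F.Ssub, W[x₁, ((c0, 0) : R2)] ∧ e' * x₁ = x₁ * e' := by
    have hc := F.T_out hke he'S hx₀
    rw [hp0] at hc
    obtain ⟨i, j, hij⟩ := isW_mul_tt F.P hx₀ hc
    have he'2 : e' * e' = 1 := by rw [he', conj_mul, he2, mul_one, mul_inv_cancel]
    have hee : e' * (e' * x₀ * e'⁻¹) * e'⁻¹ = x₀ := by
      rw [show e' * (e' * x₀ * e'⁻¹) * e'⁻¹ = e' * e' * x₀ * (e' * e')⁻¹ by group, he'2]; group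
    have hes := F.T_out_s hke he'S
    have hez : e' * z * e'⁻¹ = z := mul_inv_eq_iff_eq_mul.mpr he'z
    rcases two_cases' i with rfl | rfl <;> rcases two_cases' j with rfl | rfl <;>
      simp only [tt, zp_zero, zp_one, one_mul, mul_one] at hij
    · exact ⟨x₀, hxS, hx₀, mul_inv_eq_iff_eq_mul.mp hij⟩
    · exfalso
      rw [hij, ← conj_mul, hij, hes] at hee
      exact h.z_ne (mul_left_cancel (a := x₀ * (s * s))
        (by simp [mul_assoc] at hee; rw [← mul_assoc, F.P.ss, one_mul] at hee; simp [hee]))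
    · refine ⟨x₀ * s, mul_mem hxS F.s_mem_S, by simpa using isW_mul F.P hx₀ F.isW_s,
        mul_inv_eq_iff_eq_mul.mp ?_⟩
      rw [← conj_mul, hij, hes, mul_assoc, ← mul_assoc z s z, ← F.P.sz, mul_assoc s z z, h.zz,
        mul_one]
    · exfalso
      rw [hij, ← conj_mul, hij, ← conj_mul, hez, hes] at hee
      refine h.z_ne (mul_left_cancel (a := x₀) ?_)
      rw [mul_one]
      have hz' : z * s * (z * (s * z)) = z := by
        calc z * s * (z * (s * z)) = z * (s * z) * (s * z) := by group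
          _ = z * (z * s) * (z * s) := by rw [F.P.sz]
          _ = (z * z) * (s * z) * s := by group
          _ = z * (s * s) := by rw [h.zz, one_mul, F.P.sz, mul_assoc]
          _ = z := by rw [F.P.ss, mul_one]
      rw [mul_assoc, hz'] at hee
      exact hee
  obtain ⟨hxK, hxE⟩ := hback x₁ (F.S_le_K hx₁S) hx₁e
  set xE : E1 := ⟨F.kmk ⟨k⁻¹ * x₁ * k, hxK⟩, hxE⟩
  set xK : F.Ksub := ⟨k⁻¹ * x₁ * k, hxK⟩
  have hx₁2 : x₁ * x₁ = z := by
    rw [isW_sq F.P hx₁W, hsq0]; simp [tt, zp]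
  have hsqx : (xE : F.KQ) * xE = a := by
    show F.kmk xK * F.kmk xK = _
    rw [← map_mul]
    refine congrArg F.kmk (Subtype.ext ?_)
    show k⁻¹ * x₁ * k * (k⁻¹ * x₁ * k) = k⁻¹ * z * k
    rw [← hx₁2]; group
  have h4 : orderOf (xE : F.KQ) = 4 := by
    have h1 := orderOf_eq_prime_pow (p := 2) (n := 1) (x := (xE : F.KQ))
      (by
        rw [pow_one, pow_two, hsqx]
        exact fun e1 => by rw [e1, orderOf_one] at ha2'; norm_num at ha2')
      (by rw [show 2 ^ (1 + 1) = 2 * 2 from rfl, pow_mul, pow_two (xE : F.KQ), hsqx,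
        ← ha2', pow_orderOf_eq_one])
    rw [h1]; rfl
  -- the odd core is `⟨y⟩`
  have hcomm : ∀ o ∈ Cfsg.oddCore E1, (o : F.KQ) ∈ zpowers (F.kmk yK) := by
    intro o ho
    rw [hzp, mem_centralizer_singleton_iff]
    have h1 := hinv _ (mul_mem ho (hmem yE hyE))
    rw [← conj_mul, hinv o ho, hinv yE (hmem yE hyE), ← mul_inv_rev, inv_inj] at h1
    exact (congrArg Subtype.val h1).symm
  haveI : (Cfsg.oddCore E1).Normal := Cfsg.pPrimeCore_normal 2 E1
  have hxN : (xE : F.KQ) ∈ normalizer ((zpowers (F.kmk yK) : Subgroup F.KQ) : Set F.KQ) := by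
    have := hcomm _ ((Cfsg.pPrimeCore_normal 2 E1).conj_mem yE (hmem yE hyE) xE)
    rw [← mem_powers_iff_mem_zpowers, Submonoid.mem_powers_iff] at this
    obtain ⟨i, hi⟩ := this
    exact CyclicNorm.mem_normalizer_of_pow hprime hord (i := i) hi.symm
  have h2 := Subgroup.orderOf_dvd_natCard _ hxN
  rw [h4, hN5] at h2
  norm_num at h2

/-- The centraliser in `C(t)` lies in `K`. -/
theorem cent_mem_K {p : ℕ} (hp : p = 5 ∨ p = 7) {y c : G} (hy : y ∈ F.Ksub)
    (hyp : orderOf y = p) (hct : c * t = t * c) (hcy : c * y = y * c) : c ∈ F.Ksub := by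
  by_contra hcK
  have hodd : Odd p := by rcases hp with rfl | rfl <;> decide
  obtain ⟨u, hu, i, hc2⟩ := F.cent_K hp hy hyp (F.sq_mem_K hct)
    ((show Commute c y from hcy).mul_left hcy).eq
  have hyp1 : y ^ p = 1 := by rw [← hyp, pow_orderOf_eq_one]
  set d := c ^ p with hd
  have hdK : d ∉ F.Ksub := fun e => hcK (by
    obtain ⟨m, hm⟩ := hodd
    have h1 : c = d * ((c * c) ^ m)⁻¹ := by
      rw [hd, hm, pow_succ', pow_mul, pow_two, mul_inv_cancel_right]
    rw [h1]
    exact mul_mem e (inv_mem (pow_mem (F.sq_mem_K hct) m)))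
  have hdt : d * t = t * d := ((show Commute c t from hct).pow_left p).eq
  have hdy : d * y = y * d := ((show Commute c y from hcy).pow_left p).eq
  have hd2 : d * d = u := by
    rw [hd, ← (Commute.refl c).mul_pow, hc2,
      ((show Commute y u from F.V_comm hu hy).symm.pow_right i).mul_pow, ← pow_mul, mul_comm i p,
      pow_mul, hyp1, one_pow, mul_one]
    obtain ⟨m, rfl⟩ := hodd
    rw [pow_succ, pow_mul, pow_two, F.V_sq hu, one_pow, one_mul]
  have hdv : d * F.vv * d⁻¹ = t * F.vv := by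
    rcases F.v_normal hdt with e | e
    · exact absurd (F.mem_K.mpr ⟨hdt, mul_inv_eq_iff_eq_mul.mp e⟩) hdK
    · exact e
  have hdu : d * u * d⁻¹ = u := by rw [← hd2]; group
  have hu' : u = 1 ∨ u = t := by
    rcases hu with rfl | rfl | rfl | rfl
    · exact Or.inl rfl
    · exact Or.inr rfl
    · rw [hdv] at hdu; exact absurd (mul_eq_right.mp hdu) F.t_ne
    · rw [← conj_mul, mul_inv_eq_iff_eq_mul.mpr hdt, hdv, ← mul_assoc, F.t2, one_mul] at hdu
      exact absurd (mul_eq_right.mp hdu.symm) F.t_ne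
  rcases hu' with hu' | hu' <;> rw [hu'] at hd2
  · exact F.no_outer_invol hp hy hyp hdt hdK hd2 hdy
  · refine F.no_outer_invol hp hy hyp (e := d * F.vv) ?_ ?_ ?_ ?_
    · exact ((show Commute d t from hdt).mul_left F.tv_comm.symm).eq
    · intro e
      apply hdK
      have := mul_mem e (inv_mem (F.S_le_K F.v_mem_S))
      rwa [mul_inv_cancel_right] at this
    · calc d * F.vv * (d * F.vv) = d * F.vv * d⁻¹ * (d * d) * F.vv := by group
        _ = t * (F.vv * t) * F.vv := by rw [hdv, hd2]; group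
        _ = 1 := by rw [← F.tv_comm, ← mul_assoc t t, F.t2, one_mul, F.v2]
    · exact ((show Commute d y from hdy).mul_left
        (show Commute y F.vv from (F.mem_K.mp hy).2).symm).eq

/-- The centraliser of `y` in `C(t)` has order `4 p`. -/
theorem card_cent_t {p : ℕ} (hp : p = 5 ∨ p = 7) {y : G} (hy : y ∈ F.Ksub) (hyp : orderOf y = p) :
    Nat.card ↥(centralizer ({t} : Set G) ⊓ centralizer ({y} : Set G)) = 4 * p := by
  haveI := F.kq_main.2
  have hprime : p.Prime := by rcases hp with rfl | rfl <;> norm_num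
  have hodd : Odd p := by rcases hp with rfl | rfl <;> decide
  set yK : F.Ksub := ⟨y, hy⟩
  have hord : orderOf (F.kmk yK) = p := F.kmk_order hprime hodd hyp
  have h1 := F.card_preimage (zpowers (F.kmk yK))
  rw [Nat.card_zpowers, hord] at h1
  rw [← h1]
  congr 2
  ext c
  constructor
  · rintro ⟨hct, hcy⟩
    have hct' := mem_centralizer_singleton_iff.mp hct
    have hcy' := mem_centralizer_singleton_iff.mp hcy
    have hcK := F.cent_mem_K hp hy hyp hct' hcy'
    obtain ⟨u, hu, i, e⟩ := F.cent_K hp hy hyp hcK hcy'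
    refine ⟨⟨c, hcK⟩, ?_, rfl⟩
    show F.kmk ⟨c, hcK⟩ ∈ zpowers (F.kmk yK)
    rw [show (⟨c, hcK⟩ : F.Ksub) = ⟨u, F.S_le_K (F.V_le_S hu)⟩ * yK ^ i from Subtype.ext e,
      map_mul, (F.kmk_one (a := ⟨u, F.S_le_K (F.V_le_S hu)⟩)).mpr hu, one_mul, map_pow]
    exact pow_mem (mem_zpowers _) i
  · rintro ⟨c, hc, rfl⟩
    refine ⟨c.2.1, mem_centralizer_singleton_iff.mpr ?_⟩
    have hc' : F.kmk c ∈ zpowers (F.kmk yK) := hc
    rw [← mem_powers_iff_mem_zpowers, Submonoid.mem_powers_iff] at hc'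
    obtain ⟨i, hi⟩ := hc'
    rw [← map_pow] at hi
    obtain ⟨u, hu, e⟩ := F.kmk_eq hi
    show (c : G) * y = y * c
    rw [e, SubmonoidClass.coe_pow]
    exact (((Commute.refl y).pow_left i).mul_left (show Commute y u from F.V_comm hu hy).symm).eq

end Cfsg.Agent.H55.Suz.Frame
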