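import Cfsg.Agent.H55.Suz.Alt
import Cfsg.Agent.H55.Suz.OrderExact

/-!
The involution of `C_Q(f, g)` fixed by the point stabiliser.
-/

set_option autoImplicit false
set_option linter.unusedSectionVars false
set_option linter.style.haveILetI false
set_option synthInstance.maxSize 4000
set_option synthInstance.maxHeartbeats 400000
set_option maxRecDepth 20000

namespace Cfsg.Agent.H55.Suz

open Cfsg.Agent.H73.Suz QuadraticMap Cfsg.Agent.Orthogonal Cfsg.Agent.H92.ExtraForm Subgroup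

/-- The polar form in coordinates. -/
def pol (v w : V6) : ZMod 2 := v.1.1 * w.1.2 + w.1.1 * v.1.2 + fU v.2 w.2

theorem polar_pol (v w : V6) : polar (⇑phi) v w = pol v w := polar_phi v w

/-- The singular points perpendicular to two vectors. -/
def perpPts (p r : V6) : Finset V6 := Sing.filter fun y => pol y p = 0 ∧ pol y r = 0

theorem perpPts_spec : ∀ p ∈ Sing, ∀ r ∈ Sing, pol p r = 1 →
    (perpPts p r).card = 5 ∧ ∀ y ∈ perpPts p r, ∀ y' ∈ perpPts p r, y ≠ y' → pol y y' = 1 := by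
  decide +kernel

namespace Frame

variable {G : Type*} [Group G] [Finite G] {z : G} {Q : Subgroup G}
variable {h : Setup z Q} {s w t om hh : G} (F : Frame h s w t om hh)

omit [Finite G] in
/-- An involution of `Q` other than `z` commuting with `f` and `g`. -/
def InFG (_F : Frame h s w t om hh) (f g c : G) : Prop :=
  c ∈ Q ∧ c * c = 1 ∧ c ≠ 1 ∧ c ≠ z ∧ c * f = f * c ∧ c * g = g * c

include F

theorem exists_c {b f g u : G} (H : F.Hex b f g u) (E : F.Five5 b f g u) :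
    ∃ c, F.InFG f g c ∧ (∀ q, Six.Fix4 q → E.χ q * c = c * E.χ q) ∧
      ∀ c', F.InFG f g c' → c' ≠ c → c' ≠ c * z → c * c' * (c * c') = z := by
  classical
  haveI : Finite (O phi) := Nat.finite_of_card_ne_zero (by rw [card_O_six]; norm_num)
  have hfgc : f * g ≠ g * f := fun e => h.z_ne (by
    rw [← H.fg2]
    calc f * g * (f * g) = f * g * (g * f) := by rw [← e]
      _ = f * (g * g) * f := by group
      _ = 1 := by rw [H.sq.2.2, mul_one, H.sq.2.1])
  have hinv : ∀ x ∈ Q, x * x = 1 → x ≠ 1 → x ≠ z → h.π x ∈ Sing := fun x hx h2 h1 hz =>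
    (noncentral_iff h hx).mp ⟨h2, h1, hz⟩
  set p := h.π f
  set r := h.π g
  have hpS : p ∈ Sing := hinv f H.fQ H.sq.2.1 (fun e => hfgc (by rw [e]; simp))
    (fun e => hfgc (by rw [e]; exact (h.le g H.gQ).symm))
  have hrS : r ∈ Sing := hinv g H.gQ H.sq.2.2 (fun e => hfgc (by rw [e]; simp))
    (fun e => hfgc (by rw [e]; exact h.le f H.fQ))
  have hpr : pol p r = 1 := (two_cases' _).resolve_left fun e => hfgc
    ((h.commute_iff H.fQ H.gQ).mpr ((polar_pol p r).trans e))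
  obtain ⟨hcard, hnp⟩ := perpPts_spec p hpS r hrS hpr
  have hpts : ∀ x, F.InFG f g x → h.π x ∈ perpPts p r := by
    rintro x ⟨hx, h2, h1, hz, hf, hg⟩
    exact Finset.mem_filter.mpr ⟨hinv x hx h2 h1 hz,
      (polar_pol _ _).symm.trans ((h.commute_iff hx H.fQ).mp hf),
      (polar_pol _ _).symm.trans ((h.commute_iff hx H.gQ).mp hg)⟩
  have hfix : ∀ q, (h.ρ (E.χ q) : V6 ≃ₗ[ZMod 2] V6) p = p ∧
      (h.ρ (E.χ q) : V6 ≃ₗ[ZMod 2] V6) r = r := fun q => by
    constructor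
    · rw [← h.ρ_π _ (E.cz q) f H.fQ, mul_inv_eq_iff_eq_mul.mpr (E.cf q)]
    · rw [← h.ρ_π _ (E.cz q) g H.gQ, mul_inv_eq_iff_eq_mul.mpr (E.cg q)]
  let T := {y : V6 // y ∈ perpPts p r}
  have hmap : ∀ q (y : T), (h.ρ (E.χ q) : V6 ≃ₗ[ZMod 2] V6) y.1 ∈ perpPts p r := fun q y => by
    obtain ⟨hy, h1, h2⟩ := Finset.mem_filter.mp y.2
    obtain ⟨hy0, hy1⟩ := mem_Sing.mp hy
    refine Finset.mem_filter.mpr ⟨mem_Sing.mpr ⟨fun e => hy0 ((LinearEquiv.map_eq_zero_iff _).mp e),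
      by rw [O.map_app, hy1]⟩, ?_, ?_⟩
    · have e := O.polar_app (h.ρ (E.χ q)) y.1 p
      rw [(hfix q).1] at e
      rw [← polar_pol, e, polar_pol, h1]
    · have e := O.polar_app (h.ρ (E.χ q)) y.1 r
      rw [(hfix q).2] at e
      rw [← polar_pol, e, polar_pol, h2]
  let act : alternatingGroup (Fin 5) → T → T := fun q y => ⟨_, hmap q y⟩
  have hact1 : ∀ y, act 1 y = y := fun y => Subtype.ext (by
    show (h.ρ (E.χ 1) : V6 ≃ₗ[ZMod 2] V6) y.1 = y.1
    rw [map_one, h.ρ_one]; rfl)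
  have hactm : ∀ q q' y, act (q * q') y = act q (act q' y) := fun q q' y => Subtype.ext (by
    show (h.ρ (E.χ (q * q')) : V6 ≃ₗ[ZMod 2] V6) y.1 =
      (h.ρ (E.χ q) : V6 ≃ₗ[ZMod 2] V6) ((h.ρ (E.χ q') : V6 ≃ₗ[ZMod 2] V6) y.1)
    rw [map_mul, h.ρ_mul _ _ (E.cz q) (E.cz q'), Subgroup.coe_mul, mul_app])
  letI : MulAction (alternatingGroup (Fin 5)) T :=
    { smul := act, one_smul := hact1, mul_smul := hactm }
  let ε : T ≃ Fin 5 := Fintype.equivFinOfCardEq (by rw [Fintype.card_coe, hcard])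
  let Φ : alternatingGroup (Fin 5) →* Equiv.Perm (Fin 5) :=
    ε.permCongrHom.toMonoidHom.comp (MulAction.toPermHom _ T)
  obtain ⟨rt, -, rY, -, -, -, -, rYt, rYv, rtv, -, -⟩ := Six.five_rels
  have hYt : Φ Six.Y5 * Φ Six.t5 * (Φ Six.Y5)⁻¹ = Φ Six.v5 := by
    rw [← map_inv, ← map_mul, ← map_mul, rYt]
  obtain ⟨i, hit, hiY⟩ := Six.point_fix (Φ Six.t5) (Φ Six.Y5)
    (by rw [← map_mul, rt, map_one]) (by rw [← map_pow, rY, map_one])
    (by rw [hYt, ← map_mul, ← map_mul, rtv])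
    (by rw [hYt, ← map_inv, ← map_mul, ← map_mul, ← map_mul, rYv])
  set y := ε.symm i
  have hsmul : ∀ q, Φ q i = i → (h.ρ (E.χ q) : V6 ≃ₗ[ZMod 2] V6) y.1 = y.1 := fun q hq => by
    have h1 : ε (act q (ε.symm i)) = i := hq
    exact congrArg Subtype.val (ε.injective (h1.trans (ε.apply_symm_apply i).symm))
  obtain ⟨hy, hy1, hy2⟩ := Finset.mem_filter.mp y.2
  obtain ⟨c, hcQ, hcπ⟩ := h.π_surj y.1
  obtain ⟨hc2, hc1, hcz⟩ := (noncentral_iff h hcQ).mpr (hcπ.symm ▸ hy)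
  have hcf : c * f = f * c := (h.commute_iff hcQ H.fQ).mpr (by rw [polar_pol, hcπ]; exact hy1)
  have hcg : c * g = g * c := (h.commute_iff hcQ H.gQ).mpr (by rw [polar_pol, hcπ]; exact hy2)
  have htwo : ∀ q, Φ q i = i → E.χ q * c * (E.χ q)⁻¹ = c ∨ E.χ q * c * (E.χ q)⁻¹ = c * z :=
    fun q hq => h.π_eq hcQ (h.norm _ (E.cz q) c hcQ)
      (by rw [h.ρ_π _ (E.cz q) c hcQ, hcπ, hsmul q hq])
  have hzc : ∀ q, E.χ q * (c * z) * (E.χ q)⁻¹ = E.χ q * c * (E.χ q)⁻¹ * z := fun q => by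
    rw [← conj_mul, mul_inv_eq_iff_eq_mul.mpr (E.cz q)]
  have hY : E.χ Six.Y5 * c * (E.χ Six.Y5)⁻¹ = c := by
    refine (htwo _ hiY).resolve_right fun e => h.z_ne (left_eq_mul (a := c).mp ?_)
    have h3 : E.χ Six.Y5 ^ 3 = 1 := by rw [← map_pow, rY, map_one]
    rw [pow_succ, pow_two] at h3
    calc c = E.χ Six.Y5 * E.χ Six.Y5 * E.χ Six.Y5 * c *
          (E.χ Six.Y5 * E.χ Six.Y5 * E.χ Six.Y5)⁻¹ := by rw [h3]; simp
      _ = E.χ Six.Y5 * (E.χ Six.Y5 * (E.χ Six.Y5 * c * (E.χ Six.Y5)⁻¹) * (E.χ Six.Y5)⁻¹) *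
          (E.χ Six.Y5)⁻¹ := by group
      _ = c * z := by
        simp only [e, hzc, mul_assoc, h.zz, mul_one]
  have hYi : (E.χ Six.Y5)⁻¹ * c * E.χ Six.Y5 = c := by
    rw [mul_assoc, ← mul_inv_eq_iff_eq_mul.mp hY, inv_mul_cancel_left]
  have hYz : (E.χ Six.Y5) * (c * z) * (E.χ Six.Y5)⁻¹ = c * z := by rw [hzc, hY]
  have hflip : ∀ q q', Six.Y5 * q * Six.Y5⁻¹ = q' → E.χ q * c * (E.χ q)⁻¹ = c * z →
      E.χ q' * c * (E.χ q')⁻¹ = c * z := by
    intro q q' e e'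
    rw [← e, map_mul, map_mul, map_inv]
    calc E.χ Six.Y5 * E.χ q * (E.χ Six.Y5)⁻¹ * c * (E.χ Six.Y5 * E.χ q * (E.χ Six.Y5)⁻¹)⁻¹
        = E.χ Six.Y5 * (E.χ q * ((E.χ Six.Y5)⁻¹ * c * E.χ Six.Y5) * (E.χ q)⁻¹) * (E.χ Six.Y5)⁻¹ := by
          group
      _ = c * z := by rw [hYi, e', hYz]
  have ht : E.χ Six.t5 * c * (E.χ Six.t5)⁻¹ = c := by
    refine (htwo _ hit).resolve_right fun e => h.z_ne (left_eq_mul (a := c).mp ?_)
    have hv := hflip _ _ rYt e
    have htv := hflip _ _ rYv hv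
    rw [map_mul] at htv
    calc c = E.χ Six.t5 * (E.χ Six.v5 * c * (E.χ Six.v5)⁻¹) * (E.χ Six.t5)⁻¹ := by
          rw [hv, hzc, e, mul_assoc, h.zz, mul_one]
      _ = c * z := by rw [← htv]; group
  have hct := mul_inv_eq_iff_eq_mul.mp ht
  have hcY := mul_inv_eq_iff_eq_mul.mp hY
  have hcv : E.χ Six.v5 * c = c * E.χ Six.v5 := by
    rw [← rYt, map_mul, map_mul, map_inv]
    exact (((show Commute (E.χ Six.Y5) c from hcY).mul_left hct).mul_left
      (show Commute (E.χ Six.Y5) c from hcY).inv_left).eq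
  refine ⟨c, ⟨hcQ, hc2, hc1, hcz, hcf, hcg⟩, fun q hq => ?_, fun c' hc' hne hnez => ?_⟩
  · obtain ⟨v, hv, y', hy', rfl⟩ := Six.five_A4 q hq
    have hv' : Commute (E.χ v) c := by
      simp only [List.mem_cons, List.not_mem_nil, or_false] at hv
      rcases hv with rfl | rfl | rfl | rfl
      · rw [map_one]; exact Commute.one_left _
      · exact hct
      · exact hcv
      · rw [map_mul]; exact (show Commute _ c from hct).mul_left hcv
    have hy'' : Commute (E.χ y') c := by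
      simp only [List.mem_cons, List.not_mem_nil, or_false] at hy'
      rcases hy' with rfl | rfl | rfl
      · rw [map_one]; exact Commute.one_left _
      · exact hcY
      · rw [map_inv]; exact (show Commute _ c from hcY).inv_left
    rw [map_mul]
    exact (hv'.mul_left hy'').eq
  · have hne' : h.π c ≠ h.π c' := fun e => (h.π_eq hcQ hc'.1 e).elim hne hnez
    have hpol := hnp _ (hpts c ⟨hcQ, hc2, hc1, hcz, hcf, hcg⟩) _ (hpts c' hc') hne'
    have hc := h.comm c hcQ c' hc'.1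
    rw [polar_pol, hpol, zp_one] at hc
    calc c * c' * (c * c') = c * (c' * c) * c' := by group
      _ = c * (c * c' * z) * c' := by rw [hc]
      _ = c * c * (c' * (z * c')) := by group
      _ = z := by rw [hc2, ← h.le c' hc'.1, ← mul_assoc c' c' z, hc'.2.1, one_mul, one_mul]

end Frame

end Cfsg.Agent.H55.Suz
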