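import Cfsg.Agent.H55.Suz.Types

/-!
Pairs of commuting elements of order five and their subgroup of order 25.
-/

set_option autoImplicit false
set_option linter.unusedSectionVars false
set_option linter.style.haveILetI false

namespace Cfsg.Agent.H55.Suz

open Subgroup

/-- Two commuting elements of order five generating a group of order 25. -/
structure Rank2 {G : Type*} [Group G] (w c : G) : Prop where
  hw : orderOf w = 5
  hc : orderOf c = 5
  comm : c * w = w * c
  nmem : c ∉ zpowers w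

namespace Rank2

variable {G : Type*} [Group G] [Finite G] {w c : G} (D : Rank2 w c)

include D

theorem mk_mul (a b a' b' : ℕ) : w ^ a * c ^ b * (w ^ a' * c ^ b') = w ^ (a + a') * c ^ (b + b') := by
  have e : c ^ b * w ^ a' = w ^ a' * c ^ b := ((show Commute c w from D.comm).pow_pow b a').eq
  rw [pow_add, pow_add]
  calc w ^ a * c ^ b * (w ^ a' * c ^ b') = w ^ a * (c ^ b * w ^ a') * c ^ b' := by group
    _ = _ := by rw [e]; group

theorem pow_congr_w {a a' : ℕ} (e : (a : ZMod 5) = a') : w ^ a = w ^ a' := by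
  rw [pow_eq_pow_iff_modEq, D.hw]; exact (ZMod.natCast_eq_natCast_iff _ _ 5).mp e

theorem pow_congr_c {b b' : ℕ} (e : (b : ZMod 5) = b') : c ^ b = c ^ b' := by
  rw [pow_eq_pow_iff_modEq, D.hc]; exact (ZMod.natCast_eq_natCast_iff _ _ 5).mp e

theorem congr {a b a' b' : ℕ} (ea : (a : ZMod 5) = a') (eb : (b : ZMod 5) = b') :
    w ^ a * c ^ b = w ^ a' * c ^ b' := by rw [D.pow_congr_w ea, D.pow_congr_c eb]

/-- The element with given coordinates. -/
def el (_D : Rank2 w c) (k : ZMod 5 × ZMod 5) : G := w ^ k.1.val * c ^ k.2.val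

theorem el_cast (a b : ℕ) : D.el ((a : ZMod 5), (b : ZMod 5)) = w ^ a * c ^ b :=
  D.congr (by simp) (by simp)

theorem el_mul (k k' : ZMod 5 × ZMod 5) : D.el k * D.el k' = D.el (k + k') := by
  rw [el, el, D.mk_mul, el]
  exact D.congr (by simp) (by simp)

theorem el_zero : D.el 0 = 1 := by simp [el]

theorem el_eq_one {k : ZMod 5 × ZMod 5} (e : D.el k = 1) : k = 0 := by
  obtain ⟨a, b⟩ := k
  haveI : Fact (Nat.Prime 5) := ⟨by norm_num⟩
  have hb : b = 0 := by
    by_contra hb
    apply D.nmem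
    have h1 : c ^ b.val ∈ zpowers w := by
      have : c ^ b.val = (w ^ a.val)⁻¹ := eq_inv_of_mul_eq_one_right e
      rw [this]; exact inv_mem (pow_mem (mem_zpowers w) _)
    have h2 := pow_mem h1 (b⁻¹).val
    rw [← pow_mul] at h2
    rwa [D.pow_congr_c (b' := 1) (by simp [hb]), pow_one] at h2
  subst hb
  have h1 : w ^ a.val = w ^ 0 := by simpa [el] using e
  rw [pow_eq_pow_iff_modEq, D.hw, ← ZMod.natCast_eq_natCast_iff] at h1
  simp at h1
  simp [h1]

theorem el_inj : Function.Injective D.el := fun k k' e => by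
  have h1 : D.el (k + (-k')) = 1 := by
    rw [← D.el_mul, e, D.el_mul, add_neg_cancel, D.el_zero]
  exact add_neg_eq_zero.mp (D.el_eq_one h1)

/-- The group of order 25. -/
def R : Subgroup G where
  carrier := Set.range D.el
  one_mem' := ⟨0, D.el_zero⟩
  mul_mem' := by rintro _ _ ⟨k, rfl⟩ ⟨k', rfl⟩; exact ⟨k + k', (D.el_mul k k').symm⟩
  inv_mem' := by
    rintro _ ⟨k, rfl⟩
    exact ⟨-k, eq_inv_of_mul_eq_one_right (by rw [D.el_mul, add_neg_cancel, D.el_zero])⟩

theorem mem_R {x : G} : x ∈ D.R ↔ ∃ k, D.el k = x := Iff.rfl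

theorem w_mem : w ∈ D.R := ⟨((1 : ℕ), (0 : ℕ)), by rw [D.el_cast]; simp⟩

theorem c_mem : c ∈ D.R := ⟨((0 : ℕ), (1 : ℕ)), by rw [D.el_cast]; simp⟩

theorem card_R : Nat.card D.R = 25 := by
  rw [show Nat.card D.R = Nat.card (Set.range D.el) from rfl,
    ← Nat.card_congr (Equiv.ofInjective _ D.el_inj)]
  simp

theorem exists_pow_of_mem {x : G} (hx : x ∈ D.R) : ∃ a b : ℕ, x = w ^ a * c ^ b := by
  obtain ⟨k, rfl⟩ := hx
  exact ⟨_, _, rfl⟩

theorem R_comm {x y : G} (hx : x ∈ D.R) (hy : y ∈ D.R) : x * y = y * x := by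
  obtain ⟨k, rfl⟩ := hx
  obtain ⟨k', rfl⟩ := hy
  rw [D.el_mul, D.el_mul, add_comm]

end Rank2

theorem pow_four_five : ∀ b : ZMod 5, b * b = 1 → b = 1 ∨ b = 4 := by decide

theorem fixed_five : ∀ a : ZMod 5, a ^ 5 = a := by decide

theorem pow_five_pow (a : ZMod 5) : ∀ m : ℕ, a ^ (5 ^ m) = a
  | 0 => by simp
  | m + 1 => by rw [pow_succ, pow_mul, pow_five_pow a m, fixed_five]

theorem div_seventytwo : ∀ n : ℕ, n < 73 → n ∣ 72 → n % 5 = 1 → n = 1 ∨ n = 6 ∨ n = 36 := by decide

theorem div_twelve : ∀ n : ℕ, n < 13 → n ∣ 12 → n % 5 = 1 → n = 1 ∨ n = 6 := by decide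

/-- Some involution normalises a Sylow 5-subgroup of order 25. -/
theorem even_normalizer {X : Type*} [Group X] [Finite X] (R : Subgroup X) (hR : Nat.card R = 25)
    (hX : Nat.card X = 1800 ∨ Nat.card X = 300) :
    ∃ i : X, orderOf i = 2 ∧ i ∈ normalizer (R : Set X) := by
  classical
  haveI : Fact (Nat.Prime 5) := ⟨by norm_num⟩
  haveI : Fact (Nat.Prime 2) := ⟨Nat.prime_two⟩
  have hfac : (Nat.card X).factorization 5 = 2 := by
    rcases hX with e | e <;> rw [e]
    · rw [show 1800 = 5 ^ 2 * 72 by norm_num, Nat.factorization_mul (by norm_num) (by norm_num),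
        Finsupp.add_apply, (show Nat.Prime 5 by norm_num).factorization_pow, Finsupp.single_eq_same,
        Nat.factorization_eq_zero_of_not_dvd (by norm_num)]
    · rw [show 300 = 5 ^ 2 * 12 by norm_num, Nat.factorization_mul (by norm_num) (by norm_num),
        Finsupp.add_apply, (show Nat.Prime 5 by norm_num).factorization_pow, Finsupp.single_eq_same,
        Nat.factorization_eq_zero_of_not_dvd (by norm_num)]
  set S : Sylow 5 X := Sylow.ofCard R (by rw [hfac, hR]; norm_num)
  have hS : (S : Subgroup X) = R := rfl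
  have h1 := card_sylow_modEq_one 5 X
  have h2 := S.card_dvd_index
  have h3 := S.card_eq_index_normalizer
  have h4 := (normalizer (R : Set X)).card_mul_index
  replace h3 : Nat.card (Sylow 5 X) = (normalizer (R : Set X)).index := h3
  replace h2 : Nat.card (Sylow 5 X) ∣ R.index := h2
  have h5 := R.card_mul_index
  rw [hR] at h5
  set n := Nat.card (Sylow 5 X)
  rw [← h3] at h4
  have hn1 : n % 5 = 1 := h1
  have he : Even (Nat.card (normalizer (R : Set X))) := by
    rcases hX with e | e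
    · rw [e] at h4 h5
      rw [show R.index = 72 by omega] at h2
      rcases div_seventytwo n (Nat.lt_succ_of_le (Nat.le_of_dvd (by norm_num) h2)) h2 hn1 with
        r | r | r <;> rw [r] at h4 <;> exact Nat.even_iff.mpr (by omega)
    · rw [e] at h4 h5
      rw [show R.index = 12 by omega] at h2
      rcases div_twelve n (Nat.lt_succ_of_le (Nat.le_of_dvd (by norm_num) h2)) h2 hn1 with
        r | r <;> rw [r] at h4 <;> exact Nat.even_iff.mpr (by omega)
  obtain ⟨i, hi⟩ := exists_prime_orderOf_dvd_card' 2 he.two_dvd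
  exact ⟨i, by rw [Subgroup.orderOf_coe, hi], i.2⟩

end Cfsg.Agent.H55.Suz
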