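import Cfsg.Agent.H55.Suz.Points
import Cfsg.Agent.H55.Suz.LThreeModel
import Cfsg.Agent.H55.Suz.CertTriple
import Cfsg.Agent.H55.Suz.CertPair
import Cfsg.Agent.H45.CosetPres

/-!
Seven involutions satisfying the relators of the presentation.
-/

set_option autoImplicit false
set_option linter.unusedSectionVars false
set_option linter.style.haveILetI false

namespace Cfsg.Agent.H55.Suz

open Cfsg.Agent.H73.Suz Subgroup Cfsg.Agent.H45

theorem five_out : ∀ q : alternatingGroup (Fin 5), ¬ Six.Fix4 q →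
    ∃ w, Six.Fix4 w ∧ (q * w) ^ 5 = 1 ∧ q * w ≠ 1 := by decide +kernel

theorem d5_out : ¬ Six.Fix4 Six.d5 := by decide

theorem evalW_pow {M : Type*} [Group M] (e : ℕ → M) (n : ℕ) (w : List ℕ) :
    evalW e (List.replicate n w).flatten = evalW e w ^ n := by
  induction n with
  | zero => simp [evalW]
  | succ m ih => rw [List.replicate_succ, List.flatten_cons, evalW_append, ih, pow_succ']

theorem conj_conj_comm {M : Type*} [Group M] {p c d c' : M} (hd : d * d = 1) (hc' : c' = d * c * d)
    (h : p * c' = c' * p) : d * p * d * c = c * (d * p * d) := by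
  subst hc'
  calc d * p * d * c = d * (p * (d * c * d)) * d := by simp only [mul_assoc, hd, mul_one]
    _ = d * (d * c * d * p) * d := by rw [h]
    _ = c * (d * p * d) := by simp only [← mul_assoc, hd, one_mul]

theorem conj_pow_two {M : Type*} [Group M] {d u v : M} (hd : d * d = 1) (h : d * u * d⁻¹ = v) :
    d * v * d⁻¹ = u := by
  rw [← h, show d * (d * u * d⁻¹) * d⁻¹ = d * d * u * (d * d)⁻¹ by group, hd]; simp

/-- The relators. -/
structure Rels {G : Type*} [Group G] (a b c d e f g : G) : Prop where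
  aa : a * a = 1
  bb : b * b = 1
  cc : c * c = 1
  dd : d * d = 1
  ee : e * e = 1
  ff : f * f = 1
  gg : g * g = 1
  ab : (a * b) ^ 5 = 1
  ac : a * c = c * a
  ad : a * d = d * a
  ae : a * e = e * a
  af : a * f = f * a
  ag : a * g = g * a
  bc : (b * c) ^ 3 = 1
  bd : b * d = d * b
  be : b * e = e * b
  bf : (b * f) ^ 3 = 1
  bg : (b * g) ^ 3 = 1
  cd : (c * d) ^ 8 = 1
  ce : c * e = e * c
  cf : c * f = f * c
  cg : c * g = g * c
  de : (d * e) ^ 3 = 1
  df : d * f = f * d
  dg : d * g = g * d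
  ef : e * f = f * e
  eg : e * g = g * e
  fg : (f * g) ^ 4 = 1
  a_cd : a = (c * d) ^ 4
  a_fg : a = (f * g) ^ 2
  abcf : (a * b * c * f) ^ 5 = 1
  bfg : (b * f * g) ^ 5 = 1
  last : ((b * c * d * c * d) ^ 5 * e) ^ 3 = 1

namespace Frame

variable {G : Type*} [Group G] [Finite G] {z : G} {Q : Subgroup G}
variable {h : Setup z Q} {s w t om hh : G} (F : Frame h s w t om hh)
variable {s' w' g r : G}

include F

theorem V_Y_trivial {b f g u x : G} (E : F.Five5 b f g u) (hx : x ∈ F.Vsub)
    (hc : x * E.χ Six.Y5 = E.χ Six.Y5 * x) : x = 1 := by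
  have hcases : x = 1 ∨ x = E.χ Six.t5 ∨ x = E.χ Six.v5 ∨ x = E.χ (Six.t5 * Six.v5) := by
    have hv1 : E.χ Six.v5 ≠ 1 := fun e => Six.five_klein.2.1 (by
      rw [E.inj (e.trans (map_one E.χ).symm), mul_one, one_mul])
    have hvt : E.χ Six.v5 ≠ t := fun e => by
      have h1 := E.inj (e.trans E.ht.symm)
      revert h1; decide
    rcases E.hv with e | e | e | e
    · exact absurd e hv1
    · exact absurd e hvt
    · rw [map_mul, E.ht, e]; exact hx
    · rw [map_mul, E.ht, e, ← mul_assoc, F.t2, one_mul]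
      rcases hx with e' | e' | e' | e'
      exacts [Or.inl e', Or.inr (Or.inl e'), Or.inr (Or.inr (Or.inr e')), Or.inr (Or.inr (Or.inl e'))]
  obtain ⟨k1, k2, k3⟩ := Six.five_klein
  rcases hcases with e | e | e | e
  · exact e
  all_goals rw [e, ← map_mul, ← map_mul] at hc
  exacts [absurd (E.inj hc).symm k1, absurd (E.inj hc).symm k2, absurd (E.inj hc).symm k3]

theorem fix_of_comm {b f g u c : G} (H : F.Hex b f g u) (E : F.Five5 b f g u)
    (hc : F.InFG f g c) (hA : ∀ q, Six.Fix4 q → E.χ q * c = c * E.χ q) {q : alternatingGroup (Fin 5)}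
    (hq : E.χ q * c = c * E.χ q) : Six.Fix4 q := by
  by_contra hne
  haveI : Fact (Nat.Prime 5) := ⟨by norm_num⟩
  haveI : Fact (Nat.Prime 3) := ⟨by norm_num⟩
  haveI : Fact (Nat.Prime 2) := ⟨Nat.prime_two⟩
  let N : Subgroup (alternatingGroup (Fin 5)) := (centralizer ({c} : Set G)).comap E.χ
  have hN : ∀ p, p ∈ N ↔ E.χ p * c = c * E.χ p := fun p => mem_centralizer_singleton_iff
  obtain ⟨w5, hw, hw5, hw1⟩ := five_out q hne
  have hd : ∀ p n, n.Prime → p ^ n = 1 → p ≠ 1 → p ∈ N → n ∣ Nat.card N := by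
    intro p n hn hp hp1 hpN
    haveI := Fact.mk hn
    have := orderOf_dvd_natCard (⟨p, hpN⟩ : N)
    rwa [← Subgroup.orderOf_coe, orderOf_eq_prime hp hp1] at this
  have h5 := hd _ 5 (by norm_num) hw5 hw1 (mul_mem ((hN q).mpr hq) ((hN _).mpr (hA _ hw)))
  obtain ⟨st, -, -, sY, -⟩ := Six.five_stab
  have h3 := hd _ 3 (by norm_num) Six.five_rels.2.2.1 Six.five_rels.2.2.2.1 ((hN _).mpr (hA _ sY))
  have h2 := hd _ 2 Nat.prime_two (by rw [pow_two]; exact Six.five_rels.1) (by decide) ((hN _).mpr (hA _ st))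
  have h30 : 30 ∣ Nat.card N := (show Nat.lcm (Nat.lcm 2 3) 5 ∣ _ from
    Nat.lcm_dvd (Nat.lcm_dvd h2 h3) h5)
  have h60 : Nat.card (alternatingGroup (Fin 5)) = 60 := by
    rw [nat_card_alternatingGroup, Nat.card_fin]; rfl
  haveI := alternatingGroup.isSimpleGroup_five
  have htop : N = ⊤ := by
    have h1 := N.card_mul_index
    rw [h60] at h1
    obtain ⟨k, hk⟩ := h30
    rw [hk] at h1
    have hk2 : N.index = 1 ∨ N.index = 2 := by
      have : k * N.index = 2 := by rw [mul_assoc] at h1; omega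
      exact (Nat.dvd_prime Nat.prime_two).mp ⟨k, by rw [mul_comm]; exact this.symm⟩
    rcases hk2 with e | e
    · exact index_eq_one.mp e
    · rcases (normal_of_index_eq_two e).eq_bot_or_eq_top with e' | e'
      · rw [e', index_bot, h60] at e; norm_num at e
      · exact e'
  obtain ⟨hcQ, hc2, hc1, hcz, hcf, hcg⟩ := hc
  obtain ⟨p, hp⟩ := E.hu
  rcases H.centU c hc2 (by rw [← hp]; exact ((hN p).mp (htop ▸ mem_top p)).symm) (h.le c hcQ) hcf hcg
    with e | e
  · exact hc1 e
  · exact hcz e

set_option maxHeartbeats 800000 in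
theorem choose_c {b f g u : G} (H : F.Hex b f g u) (E : F.Five5 b f g u) :
    ∃ c, F.InFG f g c ∧ (∀ q, Six.Fix4 q → E.χ q * c = c * E.χ q) ∧
      (∀ c', F.InFG f g c' → c' ≠ c → c' ≠ c * z → c * c' * (c * c') = z) ∧
      (b * c) ^ 3 = 1 ∧ (z * b * c * f) ^ 5 = 1 ∧ (z * b * c) ^ 5 = 1 := by
  obtain ⟨c, hc, hA, hnp⟩ := F.exists_c H E
  obtain ⟨hcQ, hc2, hc1, hcz, hcf, hcg⟩ := id hc
  have hct : t * c = c * t := by
    have := hA _ Six.five_stab.1
    rwa [E.ht] at this
  have hczc : c * z = z * c := h.le c hcQ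
  have hcconj : IsConj c z := F.P.conj_Q hcQ hc2 hc1
  have hcK := (F.zK hct.symm hcconj).1
  have hbK := (F.zK H.tc.1.symm H.bz).1
  have hfK := (F.zK H.tc.2.1.symm H.fz).1
  have hgK := (F.zK H.tc.2.2.symm H.gz).1
  obtain ⟨K, iK, iKt, hK, ⟨e⟩⟩ := F.kq_iso
  set za : F.Ksub := ⟨z, F.z_mem_K⟩
  set ba : F.Ksub := ⟨b, hbK⟩
  set fa : F.Ksub := ⟨f, hfK⟩
  set ga : F.Ksub := ⟨g, hgK⟩
  set ca : F.Ksub := ⟨c, hcK⟩
  have hz' : z * f = f * z ∧ z * g = g * z := ⟨(h.le f H.fQ).symm, (h.le g H.gQ).symm⟩
  obtain ⟨c', hc', e1, e2, e3⟩ := LThreeModel.model_of_iso hK e (a := F.kmk za) (b := F.kmk ba)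
    (f := F.kmk fa) (g := F.kmk ga) (c := F.kmk ca)
    (by rw [← map_mul, show ba * ba = 1 from Subtype.ext H.sq.1, map_one])
    (by rw [← map_mul, show fa * fa = 1 from Subtype.ext H.sq.2.1, map_one])
    (by rw [← map_mul, show ga * ga = 1 from Subtype.ext H.sq.2.2, map_one])
    (by rw [← map_mul, show ca * ca = 1 from Subtype.ext hc2, map_one])
    (by rw [← map_mul, show za * za = 1 from Subtype.ext h.zz, map_one])
    (fun e' => (F.orderOf_zType (IsConj.refl z)).2.2 (F.kmk_one.mp e'))
    (fun e' => (F.orderOf_zType hcconj).2.2 (F.kmk_one.mp e'))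
    (fun e' => by
      obtain ⟨x, hx, ex⟩ := F.kmk_eq e'
      have ex' : z = c * x := ex
      have := F.coset_unique hcK hcconj hx (by rw [← ex'])
      rw [this, mul_one] at ex'
      exact hcz ex'.symm)
    (by rw [← map_mul, ← map_pow, show (za * ba) ^ 5 = 1 from Subtype.ext (by simpa using H.zb), map_one])
    (by rw [← map_mul, ← map_pow, show (ba * fa) ^ 3 = 1 from Subtype.ext (by simpa using H.bf), map_one])
    (by rw [← map_mul, ← map_pow, show (ba * ga) ^ 3 = 1 from Subtype.ext (by simpa using H.bg), map_one])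
    (by rw [← map_mul, ← map_mul, ← map_pow,
      show (ba * fa * ga) ^ 5 = 1 from Subtype.ext (by simpa using H.bfg), map_one])
    (by rw [← map_mul, ← map_mul, show fa * ga * (fa * ga) = za from Subtype.ext H.fg2])
    (by rw [← map_mul, show ca * za = za * ca from Subtype.ext hczc, map_mul])
    (by rw [← map_mul, show ca * fa = fa * ca from Subtype.ext hcf, map_mul])
    (by rw [← map_mul, show ca * ga = ga * ca from Subtype.ext hcg, map_mul])
    (by rw [← map_mul, show fa * za = za * fa from Subtype.ext hz'.1.symm, map_mul])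
    (by rw [← map_mul, show ga * za = za * ga from Subtype.ext hz'.2.symm, map_mul])
  obtain ⟨c₁, hc₁, hc₁'⟩ : ∃ c₁ : F.Ksub, (c₁ = ca ∨ c₁ = ca * za) ∧ F.kmk c₁ = c' := by
    rcases hc' with e' | e'
    · exact ⟨ca, Or.inl rfl, e'.symm⟩
    · exact ⟨ca * za, Or.inr rfl, by rw [map_mul, e']⟩
  have hin : F.InFG f g (c₁ : G) := by
    rcases hc₁ with rfl | rfl
    · exact hc
    · refine ⟨mul_mem hcQ h.hzQ, ?_, fun e' => hcz ?_, fun e' => hc1 (mul_eq_right.mp e'), ?_, ?_⟩
      · show c * z * (c * z) = 1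
        calc c * z * (c * z) = c * (z * c) * z := by group
          _ = c * (c * z) * z := by rw [← hczc]
          _ = 1 := by rw [← mul_assoc c c z, hc2, one_mul, h.zz]
      · have e'' : c * z = 1 := e'
        rw [eq_inv_of_mul_eq_one_left e'', h.z_inv]
      · exact ((show Commute c f from hcf).mul_left hz'.1).eq
      · exact ((show Commute c g from hcg).mul_left hz'.2).eq
  have hA₁ : ∀ q, Six.Fix4 q → E.χ q * c₁ = c₁ * E.χ q := by
    rcases hc₁ with rfl | rfl
    · exact hA
    · exact fun q hq => ((show Commute _ c from hA q hq).mul_right (E.cz q)).eq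
  have hnp₁ : ∀ x, F.InFG f g x → x ≠ c₁ → x ≠ c₁ * z → (c₁ : G) * x * (c₁ * x) = z := by
    rcases hc₁ with rfl | rfl
    · exact hnp
    · intro x hx hne hnez
      have e' := hnp x hx (fun e1 => hnez (by rw [e1]; show c = c * z * z; rw [mul_assoc, h.zz, mul_one]))
        (fun e1 => hne e1)
      show c * z * x * (c * z * x) = z
      have hcx : c * x * z = z * (c * x) := h.mul_comm' hczc (h.le x hx.1)
      calc c * z * x * (c * z * x) = c * (z * x) * (c * (z * x)) := by group
        _ = c * x * z * (c * x * z) := by rw [← h.le x hx.1]; group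
        _ = z * (c * x) * (c * x * z) := by rw [hcx]
        _ = z * (c * x * (c * x)) * z := by group
        _ = z := by rw [e', mul_assoc, h.zz, mul_one]
  have hY := Six.five_stab.2.2.2.1
  have hYc : Commute (c₁ : G) (E.χ Six.Y5) := (hA₁ _ hY).symm
  have hYz : Commute z (E.χ Six.Y5) := (E.cz _).symm
  have hYb : Commute b (E.χ Six.Y5) := (E.cb _).symm
  have hYf : Commute f (E.χ Six.Y5) := (E.cf _).symm
  subst hc₁'
  refine ⟨c₁, hin, hA₁, hnp₁, ?_, ?_, ?_⟩
  · refine F.V_Y_trivial E ?_ ((hYb.mul_left hYc).pow_left 3).eq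
    rw [← map_mul, ← map_pow, F.kmk_one] at e1
    simpa using e1
  · refine F.V_Y_trivial E ?_ ((((hYz.mul_left hYb).mul_left hYc).mul_left hYf).pow_left 5).eq
    rw [← map_mul, ← map_mul, ← map_mul, ← map_pow, F.kmk_one] at e2
    simpa using e2
  · refine F.V_Y_trivial E ?_ (((hYz.mul_left hYb).mul_left hYc).pow_left 5).eq
    rw [← map_mul, ← map_mul, ← map_pow, F.kmk_one] at e3
    simpa using e3

set_option maxHeartbeats 1600000 in
theorem exists_rels (D : Five h s' w' g r) : ∃ b c d e f gg, Rels z b c d e f gg := by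
  classical
  haveI : Fact (Nat.Prime 5) := ⟨by norm_num⟩
  obtain ⟨b, f, gg, u, H⟩ := F.exists_hex D
  obtain ⟨E⟩ := F.exists_five5 D H
  obtain ⟨c, hc, hA, hnp, hbc, habcf, habc⟩ := F.choose_c H E
  obtain ⟨hcQ, hc2, hc1, hcz, hcf, hcg⟩ := id hc
  obtain ⟨rt, rd, rY, -, rdt, rYt, rYit, -, -, -, -, -⟩ := Six.five_rels
  obtain ⟨st, -, -, sY, sdtd⟩ := Six.five_stab
  set d := E.χ Six.d5 with hd
  have hdd : d * d = 1 := by rw [hd, ← map_mul, rd, map_one]
  have hdi : d⁻¹ = d := inv_eq_of_mul_eq_one_left hdd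
  have hct : t * c = c * t := by
    have := hA _ st
    rwa [E.ht] at this
  have hdt : (d * t) ^ 3 = 1 := by simpa [E.ht, hd] using congrArg E.χ rdt
  have hzc : z * c = c * z := (h.le c hcQ).symm
  set c' := d * c * d with hc'
  have hc'conj : d * c * d⁻¹ = c' := by rw [hdi]
  have hc'2 : c' * c' = 1 := by rw [← hc'conj, conj_mul, hc2, mul_one, mul_inv_cancel]
  have hc'Q : c' ∈ Q := by rw [← hc'conj]; exact h.norm d (E.cz _) c hcQ
  have hdz : d * z * d⁻¹ = z := mul_inv_eq_iff_eq_mul.mpr (E.cz _)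
  have hdb : d * b * d⁻¹ = b := mul_inv_eq_iff_eq_mul.mpr (E.cb _)
  have hdf : d * f * d⁻¹ = f := mul_inv_eq_iff_eq_mul.mpr (E.cf _)
  have hdg : d * gg * d⁻¹ = gg := mul_inv_eq_iff_eq_mul.mpr (E.cg _)
  have hc'in : F.InFG f gg c' := by
    refine ⟨hc'Q, hc'2, ?_, ?_, ?_, ?_⟩ <;> rw [← hc'conj]
    · exact fun e => hc1 (conj_eq_one_iff.mp e)
    · exact fun e => hcz (mul_left_cancel (mul_right_cancel (e.trans hdz.symm)))
    · rw [← hdf, conj_mul, conj_mul, hcf]
    · rw [← hdg, conj_mul, conj_mul, hcg]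
  have hne : c' ≠ c := fun e => d5_out (F.fix_of_comm H E hc hA (by
    rw [← hd]
    exact mul_inv_eq_iff_eq_mul.mp (hc'conj.trans e)))
  have hnez : c' ≠ c * z := fun e => by
    have step : ∀ x, d * t * x * (d * t)⁻¹ = d * (t * x * t⁻¹) * d⁻¹ := fun x => by group
    have htc : t * c * t⁻¹ = c := mul_inv_eq_iff_eq_mul.mpr hct
    have htz : t * z * t⁻¹ = z := mul_inv_eq_iff_eq_mul.mpr F.t_z
    have h1 : d * t * c * (d * t)⁻¹ = c * z := by rw [step, htc, hc'conj, e]
    have h1z : d * t * z * (d * t)⁻¹ = z := by rw [step, htz, hdz]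
    apply h.z_ne
    have hs : ∀ v, d * t * (v * z) * (d * t)⁻¹ = d * t * v * (d * t)⁻¹ * z := fun v => by
      conv_rhs => rw [← h1z]
      group
    have h3 : (d * t) ^ 3 * c * ((d * t) ^ 3)⁻¹ = c * z * z * z := by
      calc (d * t) ^ 3 * c * ((d * t) ^ 3)⁻¹
          = d * t * (d * t * (d * t * c * (d * t)⁻¹) * (d * t)⁻¹) * (d * t)⁻¹ := by
            simp only [pow_succ, pow_zero, one_mul, mul_inv_rev]; group
        _ = c * z * z * z := by rw [h1, hs, h1, hs, hs, h1]
    rw [hdt, one_mul, inv_one, mul_one, mul_assoc (c * z), h.zz, mul_one] at h3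
    exact left_eq_mul.mp h3
  have hcc : c * c' * (c * c') = z := hnp c' hc'in hne hnez
  have hzc' : z * c' = c' * z := (h.le c' hc'Q).symm
  have hbc' : (b * c') ^ 3 = 1 := by
    rw [← hc'conj, ← hdb, conj_mul, conj_pow, hbc, mul_one, mul_inv_cancel]
  have sq2 : ∀ {x y : G}, x * x = 1 → y * y = 1 → x * y = y * x → (x * y) ^ 2 = 1 :=
    fun {x y} hx hy hxy => by
      rw [(show Commute x y from hxy).mul_pow, pow_two, pow_two, hx, hy, one_mul]
  -- the element of order three
  set y := (b * c * c') ^ 5 with hy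
  let e4 : ℕ → G := fun l => [z, b, c, c'].getD l 1
  have he4 : ∀ l, e4 l * e4 l = 1 := by
    intro l
    rcases l with _ | _ | _ | _ | l
    exacts [h.zz, H.sq.1, hc2, hc'2, by simp [e4]]
  have hpair := dagMany_sound (e := e4) (H := (⊥ : Subgroup G)) he4 (fun v hv => by
    have hall : ∀ v ∈ CertPair.relWords, v ∈ [(List.replicate 2 [0, 2]).flatten,
        (List.replicate 2 [0, 3]).flatten, (List.replicate 3 [1, 2]).flatten,
        (List.replicate 3 [1, 3]).flatten, (List.replicate 5 [0, 1]).flatten, [2, 3, 2, 3, 0],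
        (List.replicate 5 [0, 1, 2]).flatten] := by decide
    have := hall v hv
    simp only [List.mem_cons, List.not_mem_nil, or_false] at this
    rcases this with rfl | rfl | rfl | rfl | rfl | rfl | rfl
    all_goals first
      | (rw [evalW_pow]; simp only [evalW, List.map_cons, List.map_nil, List.prod_cons, List.prod_nil,
          e4, List.getD_cons_zero, List.getD_cons_succ, mul_one, ← mul_assoc]
         first
          | exact sq2 h.zz hc2 hzc
          | exact sq2 h.zz hc'2 hzc'
          | exact hbc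
          | exact hbc'
          | exact H.zb
          | exact habc)
      | (simp only [evalW, List.map_cons, List.map_nil, List.prod_cons, List.prod_nil,
          e4, List.getD_cons_zero, List.getD_cons_succ, mul_one, ← mul_assoc]
         rw [show c * c' * c * c' = z by rw [mul_assoc (c * c'), hcc], h.zz]))
    (by simp [CertPair.subLetters]) (by simp [CertPair.subLetters]) (by norm_num) CertPair.ok
  have hyE : evalW e4 (List.replicate 5 [1, 2, 3]).flatten = y := by
    rw [evalW_pow, hy]
    simp [evalW, e4, mul_assoc]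
  have hyiE : evalW e4 (List.replicate 5 [3, 2, 1]).flatten = y⁻¹ := by
    rw [evalW_pow, hy, ← inv_pow]
    congr 1
    simp only [evalW, List.map_cons, List.map_nil, List.prod_cons, List.prod_nil,
      e4, List.getD_cons_zero, List.getD_cons_succ, mul_one, mul_inv_rev,
      inv_eq_of_mul_eq_one_left hc'2, inv_eq_of_mul_eq_one_left hc2,
      inv_eq_of_mul_eq_one_left H.sq.1]
  have hy3 : y ^ 3 = 1 := by
    have := hpair ((List.replicate 3 (List.replicate 5 [1, 2, 3]).flatten).flatten) (by decide)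
    rwa [evalW_pow, hyE, mem_bot] at this
  have hone : ∀ l, e4 l = evalW e4 [l] := fun l => by simp [evalW]
  have hcommT : ∀ w wi : List ℕ, (List.replicate 5 [1, 2, 3]).flatten ++ w ++
      (List.replicate 5 [3, 2, 1]).flatten ++ wi ∈ CertPair.targets →
      evalW e4 wi = (evalW e4 w)⁻¹ → y * evalW e4 w = evalW e4 w * y := by
    intro w wi hmem hinv
    have := hpair _ hmem
    rw [evalW_append, evalW_append, evalW_append, hyE, hyiE, hinv, mem_bot] at this
    exact mul_inv_eq_iff_eq_mul.mp (mul_inv_eq_one.mp this)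
  have hyc : y * c = c * y := by
    have := hcommT [2] [2] (by decide) (by simp [evalW, e4, inv_eq_of_mul_eq_one_left hc2])
    simpa [evalW, e4] using this
  have hyc' : y * c' = c' * y := by
    have := hcommT [3] [3] (by decide) (by simp [evalW, e4, inv_eq_of_mul_eq_one_left hc'2])
    simpa [evalW, e4] using this
  have hyab : y * (z * b) = z * b * y := by
    have := hcommT [0, 1] [1, 0] (by decide) (by
      simp [evalW, e4, inv_eq_of_mul_eq_one_left H.sq.1, h.z_inv])
    simpa [evalW, e4] using this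
  obtain ⟨p, n, hn, hp⟩ := E.decomp y hyab
  have hpn : Commute (E.χ p) n := by
    obtain ⟨k, rfl⟩ := mem_zpowers_iff.mp hn
    exact (show Commute (E.χ p) (z * b) from
      (show Commute (E.χ p) z from E.cz p).mul_right (E.cb p)).zpow_right k
  have h3 := hy3
  rw [hp, hpn.mul_pow, ← map_pow] at h3
  have hp3 : p ^ 3 = 1 := E.disj _ (by
    rw [eq_inv_of_mul_eq_one_left h3]; exact inv_mem (pow_mem hn 3))
  rw [hp3, map_one, one_mul] at h3
  have hn1 : n = 1 := orderOf_eq_one_iff.mp (Nat.eq_one_of_dvd_coprimes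
    (by norm_num : Nat.Coprime 3 5) (orderOf_dvd_of_pow_eq_one h3)
    (H.yB.1 ▸ orderOf_dvd_of_mem_zpowers hn))
  rw [hn1, mul_one] at hp
  have hp4 : Six.Fix4 p := F.fix_of_comm H E hc hA (by rw [← hp]; exact hyc)
  have hp4' : Six.Fix4 (Six.d5 * p * Six.d5) := F.fix_of_comm H E hc hA (by
    rw [map_mul, map_mul, ← hd]
    exact conj_conj_comm hdd hc' (by rw [← hp]; exact hyc'))
  have hy1 : y ≠ 1 := by
    intro hy1
    set x := t * c' * t⁻¹ with hx
    have htz : t * z * t⁻¹ = z := mul_inv_eq_iff_eq_mul.mpr F.t_z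
    have htb : t * b * t⁻¹ = b := mul_inv_eq_iff_eq_mul.mpr H.tc.1
    have htc : t * c * t⁻¹ = c := mul_inv_eq_iff_eq_mul.mpr hct
    have hdc' : d * c' * d⁻¹ = c := conj_pow_two hdd hc'conj
    have hx2 : x * x = 1 := by rw [hx, conj_mul, hc'2, mul_one, mul_inv_cancel]
    have hdx : d * x * d⁻¹ = x := by
      have hdtd : d * t * d = t * d * t := by
        have h1 : d * t * d * (t * d * t) = 1 := by rw [← hdt]; simp only [pow_succ, pow_zero, one_mul, mul_assoc]
        have h2 := eq_inv_of_mul_eq_one_left h1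
        rw [h2, mul_inv_rev, mul_inv_rev, F.t_inv, hdi, mul_assoc]
      calc d * x * d⁻¹ = (d * t * d) * c * (d * t * d)⁻¹ := by rw [hx, ← hc'conj]; group
        _ = t * (d * (t * c * t⁻¹) * d⁻¹) * t⁻¹ := by rw [hdtd]; group
        _ = x := by rw [htc, hc'conj, hx]
    have hzx : z * x = x * z := by rw [hx, ← htz, conj_mul, conj_mul, hzc']
    have hbx : (b * x) ^ 3 = 1 := by
      rw [hx, ← htb, conj_mul, conj_pow, hbc', mul_one, mul_inv_cancel]
    have hcx : c * x * (c * x) = z := by
      rw [hx]; conv_lhs => rw [← htc]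
      rw [conj_mul, conj_mul, hcc, htz]
    have hc'x : c' * x * (c' * x) = z := by
      rw [← hc'conj]; nth_rewrite 1 [← hdx]; nth_rewrite 2 [← hdx]
      rw [conj_mul, conj_mul, hcx, hdz]
    have hycx : (b * c * x) ^ 5 = 1 := by
      rw [hx]; conv_lhs => rw [← htb, ← htc]
      rw [conj_mul, conj_mul, conj_pow, ← hy, hy1, mul_one, mul_inv_cancel]
    have hyc'x : (b * c' * x) ^ 5 = 1 := by
      rw [← hc'conj, ← hdb]; nth_rewrite 1 [← hdx]
      rw [conj_mul, conj_mul, conj_pow, hycx, mul_one, mul_inv_cancel]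
    let e5 : ℕ → G := fun l => [z, b, c, c', x].getD l 1
    have he5 : ∀ l, e5 l * e5 l = 1 := by
      intro l
      rcases l with _ | _ | _ | _ | _ | l
      exacts [h.zz, H.sq.1, hc2, hc'2, hx2, by simp [e5]]
    have htri := dagMany_sound (e := e5) (H := Subgroup.closure ({z, b, c} : Set G)) he5 (fun v hv => by
      have hall : ∀ v ∈ CertTriple.relWords, v ∈ [(List.replicate 2 [0, 2]).flatten,
          (List.replicate 2 [0, 3]).flatten, (List.replicate 2 [0, 4]).flatten,
          (List.replicate 3 [1, 2]).flatten, (List.replicate 3 [1, 3]).flatten,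
          (List.replicate 3 [1, 4]).flatten, (List.replicate 5 [0, 1]).flatten,
          (List.replicate 5 [1, 2, 3]).flatten, (List.replicate 5 [1, 3, 4]).flatten,
          (List.replicate 5 [1, 2, 4]).flatten,
          [2, 3, 2, 3, 0], [3, 4, 3, 4, 0], [2, 4, 2, 4, 0]] := by decide
      have := hall v hv
      simp only [List.mem_cons, List.not_mem_nil, or_false] at this
      rcases this with rfl | rfl | rfl | rfl | rfl | rfl | rfl | rfl | rfl | rfl | rfl | rfl | rfl
      all_goals first
        | (rw [evalW_pow]; simp only [evalW, List.map_cons, List.map_nil, List.prod_cons,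
            List.prod_nil, e5, List.getD_cons_zero, List.getD_cons_succ, mul_one, ← mul_assoc]
           first
            | exact sq2 h.zz hc2 hzc
            | exact sq2 h.zz hc'2 hzc'
            | exact sq2 h.zz hx2 hzx
            | exact hbc
            | exact hbc'
            | exact hbx
            | exact H.zb
            | exact hy1
            | exact hyc'x
            | exact hycx)
        | (simp only [evalW, List.map_cons, List.map_nil, List.prod_cons, List.prod_nil,
            e5, List.getD_cons_zero, List.getD_cons_succ, mul_one, ← mul_assoc]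
           first
            | rw [show c * c' * c * c' = z by rw [mul_assoc (c * c'), hcc], h.zz]
            | rw [show c' * x * c' * x = z by rw [mul_assoc (c' * x), hc'x], h.zz]
            | rw [show c * x * c * x = z by rw [mul_assoc (c * x), hcx], h.zz]))
      (fun l hl => by
        simp only [CertTriple.subLetters, List.mem_cons, List.not_mem_nil, or_false] at hl
        rcases hl with rfl | rfl | rfl <;> exact Subgroup.subset_closure (by simp [e5]))
      (by simp [CertTriple.subLetters]) (by norm_num) CertTriple.ok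
    have hmem := htri [3] (by decide)
    simp only [evalW, List.map_cons, List.map_nil, List.prod_cons, List.prod_nil, e5,
      List.getD_cons_zero, List.getD_cons_succ, mul_one] at hmem
    have hle : Subgroup.closure ({z, b, c} : Set G) ≤ centralizer ({t} : Set G) :=
      (Subgroup.closure_le _).mpr fun v hv => mem_centralizer_singleton_iff.mpr (by
        rcases hv with rfl | rfl | rfl
        exacts [F.t_z.symm, H.tc.1.symm, hct.symm])
    have htc' := mem_centralizer_singleton_iff.mp (hle hmem)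
    exact sdtd (F.fix_of_comm H E hc hA (by
      rw [map_mul, map_mul, ← hd, E.ht]
      exact conj_conj_comm hdd hc' htc'.symm))
  have hlast : (y * t) ^ 3 = 1 := by
    rcases Six.five_fix p hp4 hp4' with e | e | e
    · exact absurd (by rw [hp, e, map_one]) hy1
    · rw [hp, e]; simpa [E.ht] using congrArg E.χ rYt
    · rw [hp, e]; simpa [E.ht] using congrArg E.χ rYit
  have hcd2 : (c * d) ^ 2 = c * c' := by rw [pow_two, hc']; group
  refine ⟨b, c, d, t, f, gg,
    { aa := h.zz
      bb := H.sq.1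
      cc := hc2
      dd := hdd
      ee := F.t2
      ff := H.sq.2.1
      gg := H.sq.2.2
      ab := H.zb
      ac := hzc
      ad := (E.cz _).symm
      ae := F.t_z.symm
      af := (h.le f H.fQ).symm
      ag := (h.le gg H.gQ).symm
      bc := hbc
      bd := (E.cb _).symm
      be := H.tc.1.symm
      bf := H.bf
      bg := H.bg
      cd := ?_
      ce := hct.symm
      cf := hcf
      cg := hcg
      de := hdt
      df := E.cf _
      dg := E.cg _
      ef := H.tc.2.1
      eg := H.tc.2.2
      fg := H.fg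
      a_cd := ?_
      a_fg := by rw [pow_two]; exact H.fg2.symm
      abcf := habcf
      bfg := H.bfg
      last := ?_ }⟩
  · rw [show 8 = 2 * (2 * 2) from rfl, pow_mul, pow_mul, hcd2, pow_two (c * c'), hcc, pow_two, h.zz]
  · rw [show 4 = 2 * 2 from rfl, pow_mul, hcd2, pow_two, hcc]
  · rw [show b * c * d * c * d = b * c * c' by rw [hc']; group, ← hy]; exact hlast

end Frame

end Cfsg.Agent.H55.Suz
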