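import Cfsg.Agent.H55.Suz.SylowFive
import Cfsg.Agent.H34.SelfCentV4
import Cfsg.Agent.Hall.Existence
import Cfsg.Agent.S0205

/-!
The centraliser and normaliser of an element of order seven.
-/

set_option autoImplicit false
set_option linter.unusedSectionVars false
set_option linter.style.haveILetI false

namespace Cfsg.Agent.H55.Suz

open Cfsg.Agent.H73.Suz Subgroup

theorem unit_root_seven : ∀ i : ZMod 7, i ^ 25 = 1 → i = 1 := by decide

theorem div_twentyfive : ∀ n : ℕ, n < 26 → n ∣ 25 → n % 7 = 1 → n = 1 := by decide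

variable {G : Type*} [Group G] [Finite G]

/-- Elements of prime order `p` generate conjugate subgroups if `p ^ 2` does not divide the order. -/
theorem conj_of_not_sq {p : ℕ} (hp : p.Prime) (hd : ¬ p ^ 2 ∣ Nat.card G) {a b : G}
    (ha : orderOf a = p) (hb : orderOf b = p) : ∃ (d : G) (i : ℕ), d * b * d⁻¹ = a ^ i := by
  haveI : Fact p.Prime := ⟨hp⟩
  have hpg : ∀ x : G, orderOf x = p → IsPGroup p (zpowers x) := fun x hx =>
    IsPGroup.of_card (n := 1) (by rw [Nat.card_zpowers, hx, pow_one])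
  obtain ⟨P, hP⟩ := (hpg a ha).exists_le_sylow
  obtain ⟨P', hP'⟩ := (hpg b hb).exists_le_sylow
  obtain ⟨d, hd'⟩ := MulAction.exists_smul_eq G P' P
  have hPa : zpowers a = (P : Subgroup G) := by
    refine eq_of_le_of_card_ge hP ?_
    obtain ⟨n, hn⟩ := IsPGroup.iff_card.mp P.2
    have hn1 : n ≤ 1 := by
      by_contra h
      exact hd ((pow_dvd_pow p (by omega : 2 ≤ n)).trans (hn ▸ card_subgroup_dvd_card _))
    rw [Nat.card_zpowers, ha, hn]
    exact (Nat.pow_le_pow_right hp.pos hn1).trans_eq (pow_one p)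
  have hmem : d * b * d⁻¹ ∈ (P : Subgroup G) := by
    rw [← hd']; exact ⟨b, hP' (mem_zpowers b), rfl⟩
  rw [← hPa, ← mem_powers_iff_mem_zpowers, Submonoid.mem_powers_iff] at hmem
  obtain ⟨i, hi⟩ := hmem
  exact ⟨d, i, hi.symm⟩

namespace Frame

variable {z : G} {Q : Subgroup G} {h : Setup z Q} {s w t om hh : G} (F : Frame h s w t om hh)
variable {s' w' g r : G}

include F

theorem X_seven (D : Five h s' w' g r) {y : G} (hy : y ∈ F.Ksub) (hyp : orderOf y = 7) :
    Nat.card (CentQuot.XQ y) = 12 := by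
  classical
  haveI : Fact (Nat.Prime 5) := ⟨by norm_num⟩
  haveI : Fact (Nat.Prime 7) := ⟨by norm_num⟩
  refine (F.X_y D (Or.inr rfl) hy hyp).2.2.2.resolve_right fun h60 => ?_
  have hcard : Nat.card (centralizer ({y} : Set G)) = 420 := by
    rw [← CentQuot.card_mul hyp, h60]
  obtain ⟨u, hu⟩ := exists_prime_orderOf_dvd_card' (G := ↥(centralizer ({y} : Set G))) 5
    (by rw [hcard]; norm_num)
  have hu5 : orderOf (u : G) = 5 := by rw [Subgroup.orderOf_coe, hu]
  have hyu : y ∈ centralizer ({(u : G)} : Set G) :=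
    mem_centralizer_singleton_iff.mpr (mem_centralizer_singleton_iff.mp u.2).symm
  set C := centralizer ({(u : G)} : Set G) with hCdef
  have h7C : 7 ∣ Nat.card C := hyp ▸ Subgroup.orderOf_dvd_natCard _ hyu
  have hodd : Odd (Nat.card C) := odd_cent fun i hi e => by
    rcases F.cent_five D hu5 hi e with ⟨-, e'⟩ | ⟨-, e'⟩ <;> rw [← hCdef] at e' <;>
      rw [e'] at h7C <;> norm_num at h7C
  haveI : Group.IsSolvable C := S0205.result hodd
  have h25 : 5 ^ 2 ∣ Nat.card C := sq_dvd_cent (by norm_num) (F.twentyfive_dvd D) hu5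
  obtain ⟨⟨H, hHp, hHi⟩, -⟩ := Hall.hallDom_of_isSolvable ({5, 7} : Set ℕ) C
  have hH175 : Nat.card H = 175 := by
    have hmul := H.card_mul_index
    obtain ⟨m, hm⟩ : 175 ∣ Nat.card C := by
      rw [show 175 = 5 ^ 2 * 7 by norm_num]
      exact Nat.Coprime.mul_dvd_of_dvd_of_dvd (by norm_num) h25 h7C
    apply Nat.dvd_antisymm
    · refine Nat.Coprime.dvd_of_dvd_mul_right ?_
        (show Nat.card H ∣ 175 * m from ⟨H.index, by rw [← hm, hmul]⟩)
      refine Nat.coprime_of_dvd fun k hk hkH hkm => ?_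
      rcases hHp k hk hkH with rfl | rfl
      · apply F.not_125 D
        refine dvd_trans ?_ (card_subgroup_dvd_card C)
        rw [hm]; exact (mul_dvd_mul (by norm_num : 25 ∣ 175) hkm).trans dvd_rfl
      · apply F.not_49 D
        refine dvd_trans ?_ (card_subgroup_dvd_card C)
        rw [hm]; exact (mul_dvd_mul (by norm_num : 7 ∣ 175) hkm).trans dvd_rfl
    · refine Nat.Coprime.dvd_of_dvd_mul_right ?_
        (show 175 ∣ Nat.card H * H.index by rw [hmul, hm]; exact dvd_mul_right _ _)
      refine Nat.coprime_of_dvd fun k hk hk1 hk2 => ?_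
      rw [show 175 = 5 ^ 2 * 7 by norm_num] at hk1
      rcases (Nat.Prime.dvd_mul hk).mp hk1 with e | e
      · rw [(Nat.prime_dvd_prime_iff_eq hk (by norm_num)).mp (hk.dvd_of_dvd_pow e)] at hk2
        exact hHi 5 (by norm_num) (Or.inl rfl) hk2
      · rw [(Nat.prime_dvd_prime_iff_eq hk (by norm_num)).mp e] at hk2
        exact hHi 7 (by norm_num) (Or.inr rfl) hk2
  -- the Sylow 7-subgroup of `H` is normal
  obtain ⟨b, hb⟩ := exists_prime_orderOf_dvd_card' (G := H) 7 (by rw [hH175]; norm_num)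
  have hbc : Nat.card (zpowers b) = 7 := by rw [Nat.card_zpowers, hb]
  have hfac : (Nat.card H).factorization 7 = 1 := by
    rw [hH175, show 175 = 7 ^ 1 * 25 by norm_num, Nat.factorization_mul (by norm_num) (by norm_num),
      Finsupp.add_apply, (show Nat.Prime 7 by norm_num).factorization_pow, Finsupp.single_eq_same,
      Nat.factorization_eq_zero_of_not_dvd (by norm_num)]
  set S : Sylow 7 H := Sylow.ofCard (zpowers b) (by rw [hfac, hbc]; norm_num)
  have hidx : (zpowers b).index = 25 := by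
    have := (zpowers b).card_mul_index
    rw [hbc, hH175] at this
    omega
  have hn : Nat.card (Sylow 7 H) = 1 := by
    have h1 : Nat.card (Sylow 7 H) % 7 = 1 := card_sylow_modEq_one 7 H
    have h2 : Nat.card (Sylow 7 H) ∣ 25 := hidx ▸ S.card_dvd_index
    exact div_twentyfive _ (Nat.lt_succ_of_le (Nat.le_of_dvd (by norm_num) h2)) h2 h1
  have hN : normalizer ((zpowers b : Subgroup H) : Set H) = ⊤ := by
    rw [← index_eq_one]
    exact (S.card_eq_index_normalizer).symm.trans hn
  obtain ⟨R, hR⟩ := Sylow.exists_subgroup_card_pow_prime (G := H) 5 (n := 2) (by rw [hH175]; norm_num)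
  have hRb : R ≤ centralizer ({b} : Set H) := fun x hx => by
    obtain ⟨i, hi⟩ := CyclicNorm.exists_pow (g := b) (x := x) (by rw [hN]; trivial)
    have h25x : x ^ 25 = 1 := orderOf_dvd_iff_pow_eq_one.mp (by
      have := Subgroup.orderOf_dvd_natCard R hx
      rwa [hR] at this)
    have h2 := conj_pow_iter hi 25
    rw [h25x, one_mul, inv_one, mul_one] at h2
    conv_lhs at h2 => rw [← pow_one b]
    rw [pow_eq_pow_iff_modEq, hb, ← ZMod.natCast_eq_natCast_iff] at h2
    push_cast at h2
    have h3 : b ^ i = b ^ 1 := by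
      rw [pow_eq_pow_iff_modEq, hb, ← ZMod.natCast_eq_natCast_iff, unit_root_seven _ h2.symm,
        Nat.cast_one]
    rw [h3, pow_one] at hi
    exact mem_centralizer_singleton_iff.mpr (mul_inv_eq_iff_eq_mul.mp hi)
  have hbG : orderOf ((b : C) : G) = 7 := by rw [Subgroup.orderOf_coe, Subgroup.orderOf_coe, hb]
  have hle : (R.map H.subtype).map C.subtype ≤ centralizer ({((b : C) : G)} : Set G) := by
    rintro _ ⟨_, ⟨x, hx, rfl⟩, rfl⟩
    exact mem_centralizer_singleton_iff.mpr
      (congrArg (fun a : H => ((a : C) : G)) (mem_centralizer_singleton_iff.mp (hRb hx)))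
  have h1 := card_dvd_of_le hle
  rw [← Nat.card_congr (equivMapOfInjective _ _ C.subtype_injective).toEquiv,
    ← Nat.card_congr (equivMapOfInjective _ _ H.subtype_injective).toEquiv, hR] at h1
  obtain ⟨d, i, hd⟩ := conj_of_not_sq (by norm_num) (F.not_49 D) hyp hbG
  rw [card_cent_transfer (by norm_num) hbG hyp hd, hcard] at h1
  norm_num at h1

theorem card_C7 (D : Five h s' w' g r) {y : G} (hy : y ∈ F.Ksub) (hyp : orderOf y = 7) :
    Nat.card (centralizer ({y} : Set G)) = 84 := by
  rw [← CentQuot.card_mul hyp, F.X_seven D hy hyp]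

/-- The normaliser induces all automorphisms. -/
theorem card_N {p : ℕ} (hp : p = 5 ∨ p = 7) {y : G} (hy : y ∈ F.Ksub) (hyp : orderOf y = p) :
    Nat.card (normalizer ((zpowers y : Subgroup G) : Set G)) =
      (p - 1) * Nat.card (centralizer ({y} : Set G)) := by
  classical
  have hprime : p.Prime := by rcases hp with rfl | rfl <;> norm_num
  haveI : Fact p.Prime := ⟨hprime⟩
  obtain ⟨k, hk, hN⟩ := CyclicNorm.card_normalizer hprime hyp
  choose a ha using fun e : (ZMod p)ˣ =>
    F.exists_exp_all hp hy hyp (e : ZMod p).val (by rw [ZMod.natCast_zmod_val]; exact e.ne_zero)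
  let f : (ZMod p)ˣ × centralizer ({y} : Set G) → normalizer ((zpowers y : Subgroup G) : Set G) :=
    fun x => ⟨a x.1 * x.2, mul_mem (CyclicNorm.mem_normalizer_of_pow hprime hyp (ha x.1).2)
      (CyclicNorm.centralizer_le_normalizer y x.2.2)⟩
  have hf : Function.Injective f := by
    rintro ⟨e, c⟩ ⟨e', c'⟩ eq
    have eq' : a e * (c : G) = a e' * c' := congrArg Subtype.val eq
    have hc : ∀ (e : (ZMod p)ˣ) (c : centralizer ({y} : Set G)),
        a e * (c : G) * y * (a e * c)⁻¹ = y ^ (e : ZMod p).val := fun e c => by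
      rw [show a e * (c : G) * y * (a e * c)⁻¹ = a e * ((c : G) * y * (c : G)⁻¹) * (a e)⁻¹ by group,
        mul_inv_eq_iff_eq_mul.mpr (mem_centralizer_singleton_iff.mp c.2), (ha e).2]
    have h1 := hc e c
    rw [eq', hc e' c', F.pow_eq_iff hyp, ZMod.natCast_zmod_val, ZMod.natCast_zmod_val] at h1
    have he : e = e' := (Units.ext h1).symm
    subst he
    exact Prod.ext rfl (Subtype.ext (mul_left_cancel eq'))
  have h1 := Nat.card_le_card_of_injective f hf
  rw [Nat.card_prod, Nat.card_eq_fintype_card (α := (ZMod p)ˣ), ZMod.card_units, hN] at h1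
  have h2 := Nat.le_of_dvd (Nat.sub_pos_of_lt hprime.one_lt) hk
  have h3 : 0 < Nat.card (centralizer ({y} : Set G)) := Nat.card_pos
  rw [hN, le_antisymm h2 (Nat.le_of_mul_le_mul_right h1 h3)]

theorem X_seven_equiv (D : Five h s' w' g r) {y : G} (hy : y ∈ F.Ksub) (hyp : orderOf y = 7) :
    Nonempty (CentQuot.XQ y ≃* alternatingGroup (Fin 4)) := by
  classical
  haveI := Fintype.ofFinite (CentQuot.XQ y)
  obtain ⟨hC, hone, ⟨v, hv⟩, -⟩ := F.X_y D (Or.inr rfl) hy hyp
  have h12 := F.X_seven D hy hyp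
  have hi := H65.FourCount.card_eq_four_mul hC hone hv
  rw [← Nat.card_eq_fintype_card, h12] at hi
  set V := centralizer ({v} : Set (CentQuot.XQ y))
  have hV4 : Nat.card V = 4 := (hC v hv).1
  have hVinv : ∀ x ∈ V, x = 1 ∨ orderOf x = 2 := fun x hx =>
    (eq_or_ne x 1).imp_right fun h1 => orderOf_eq_prime ((hC v hv).2 x hx) h1
  set W : Finset (CentQuot.XQ y) := (Finset.univ.filter fun x => x ∈ V).erase 1
  have hW : W.card = 3 := by
    rw [Finset.card_erase_of_mem (by simp), ← Fintype.card_subtype, ← Nat.card_eq_fintype_card, hV4]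
  have hWeq : W = H65.FourCount.invs := by
    refine Finset.eq_of_subset_of_card_le (fun x hx => ?_) (by omega)
    obtain ⟨hx1, hx⟩ := Finset.mem_erase.mp hx
    simp [H65.FourCount.invs, (hVinv x (Finset.mem_filter.mp hx).2).resolve_left hx1]
  have hinV : ∀ x : CentQuot.XQ y, orderOf x = 2 → x ∈ V := fun x hx => by
    have : x ∈ W := by rw [hWeq]; simp [H65.FourCount.invs, hx]
    exact (Finset.mem_filter.mp (Finset.mem_erase.mp this).2).2
  haveI : V.Normal := ⟨fun n hn a => by
    rcases hVinv n hn with rfl | e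
    · simp
    · exact hinV _ ((H65.orderOf_conj' a n).trans e)⟩
  exact H34.equiv_alt_four V hV4
    (fun a ha => mem_centralizer_singleton_iff.mpr (ha v (mem_centralizer_singleton_iff.mpr rfl))) h12

theorem C7_equiv (D : Five h s' w' g r) {y : G} (hy : y ∈ F.Ksub) (hyp : orderOf y = 7) :
    Nonempty (↥(centralizer ({y} : Set G)) ≃* Multiplicative (ZMod 7) × alternatingGroup (Fin 4)) := by
  classical
  obtain ⟨eX⟩ := F.X_seven_equiv D hy hyp
  set N := CentQuot.Nx y
  have hN7 : Nat.card N = 7 := CentQuot.card_Nx hyp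
  have hidx : N.index = 12 := by rw [index_eq_card]; exact F.X_seven D hy hyp
  obtain ⟨K, hK⟩ := exists_right_complement'_of_coprime (N := N) (by rw [hN7, hidx]; norm_num)
  have hcent : ∀ (n : N) (k : K), Commute (n : ↥(centralizer ({y} : Set G))) (k : ↥(centralizer ({y} : Set G))) :=
    fun n k => Subtype.ext (CentQuot.commute_N (c := (k : ↥(centralizer ({y} : Set G))))
      (mem_subgroupOf.mp n.2)).eq.symm
  let f : N × K →* ↥(centralizer ({y} : Set G)) := MonoidHom.noncommCoprod N.subtype K.subtype hcent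
  have hf : Function.Bijective f := hK
  haveI : Fact (Nat.Prime 7) := ⟨by norm_num⟩
  haveI : IsCyclic N := isCyclic_of_prime_card hN7
  let eN : Multiplicative (ZMod 7) ≃* N :=
    mulEquivOfCyclicCardEq (by rw [hN7]; simp [Nat.card_eq_fintype_card])
  let q : K →* CentQuot.XQ y := (CentQuot.pr y).comp K.subtype
  have hq : Function.Bijective q := by
    constructor
    · rw [injective_iff_map_eq_one]
      intro k hk
      have h1 : (k : ↥(centralizer ({y} : Set G))) ∈ N :=
        (QuotientGroup.eq_one_iff (N := N) _).mp hk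
      have h2 : f (⟨k, h1⟩, 1) = f (1, k) := by
        show (k : ↥(centralizer ({y} : Set G))) * 1 = 1 * k
        rw [one_mul, mul_one]
      exact ((Prod.ext_iff.mp (hf.1 h2)).2).symm
    · intro a
      obtain ⟨c, rfl⟩ := CentQuot.pr_surj y a
      obtain ⟨⟨n, k⟩, rfl⟩ := hf.2 c
      refine ⟨k, ?_⟩
      show CentQuot.pr y k = CentQuot.pr y (n * k)
      rw [map_mul, (QuotientGroup.eq_one_iff (N := N) _).mpr n.2 |> fun e =>
        (show CentQuot.pr y (n : ↥(centralizer ({y} : Set G))) = 1 from e), one_mul]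
  exact ⟨(MulEquiv.ofBijective f hf).symm.trans
    (MulEquiv.prodCongr eN.symm ((MulEquiv.ofBijective q hq).trans eX))⟩

end Frame

/-- Transport of centraliser and normaliser along a conjugation of cyclic subgroups. -/
theorem transport {p : ℕ} (hp : p.Prime) {a b d : G} {i : ℕ} (ha : orderOf a = p)
    (hb : orderOf b = p) (e : d * a * d⁻¹ = b ^ i) :
    Nonempty (↥(centralizer ({a} : Set G)) ≃* ↥(centralizer ({b} : Set G))) ∧
      Nat.card (normalizer ((zpowers a : Subgroup G) : Set G)) =
        Nat.card (normalizer ((zpowers b : Subgroup G) : Set G)) := by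
  constructor
  · refine ⟨{ toEquiv := Equiv.subtypeEquiv (MulAut.conj d).toEquiv fun c => ?_
              map_mul' := fun x y => Subtype.ext (map_mul (MulAut.conj d) (x : G) y) }⟩
    simp only [mem_centralizer_singleton_iff]
    exact cent_transfer hp ha hb e c
  · have hz := zpowers_pow_eq hp ((H65.orderOf_conj' d a).trans ha) hb e
    refine Nat.card_congr (Equiv.subtypeEquiv (MulAut.conj d).toEquiv fun c => ?_)
    have hca : orderOf (c * a * c⁻¹) = p := (H65.orderOf_conj' c a).trans ha
    constructor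
    · intro hc
      obtain ⟨n, hn⟩ := CyclicNorm.exists_pow hc
      rw [← hz]
      refine CyclicNorm.mem_normalizer_of_pow hp ((H65.orderOf_conj' d a).trans ha) (i := n) ?_
      show d * c * d⁻¹ * (d * a * d⁻¹) * (d * c * d⁻¹)⁻¹ = (d * a * d⁻¹) ^ n
      rw [conj_pow, ← hn]; group
    · intro hc
      rw [← hz] at hc
      obtain ⟨n, hn⟩ := CyclicNorm.exists_pow hc
      refine CyclicNorm.mem_normalizer_of_pow hp ha (i := n) ?_
      have hn' : d * c * d⁻¹ * (d * a * d⁻¹) * (d * c * d⁻¹)⁻¹ = (d * a * d⁻¹) ^ n := hn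
      rw [conj_pow, conj_mul] at hn'
      rw [show (d * (c * a) * d⁻¹) * (d * c * d⁻¹)⁻¹ = d * (c * a * c⁻¹) * d⁻¹ by group] at hn'
      simpa using hn'

end Cfsg.Agent.H55.Suz
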