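import Cfsg.Agent.H55.Suz.FourX
import Cfsg.Agent.H55.Suz.Rank
import Cfsg.Agent.H26.Invol

/-!
The Sylow 5-subgroups have order 25.
-/

set_option autoImplicit false
set_option linter.unusedSectionVars false
set_option linter.style.haveILetI false

namespace Cfsg.Agent.H55.Suz

open Cfsg.Agent.H73.Suz Subgroup

variable {G : Type*} [Group G] [Finite G]

/-- An element commuting with no involution has a centraliser of odd order. -/
theorem odd_cent {c : G} (hc : ∀ i : G, orderOf i = 2 → i * c ≠ c * i) :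
    Odd (Nat.card (centralizer ({c} : Set G))) := by
  haveI : Fact (Nat.Prime 2) := ⟨Nat.prime_two⟩
  refine Nat.not_even_iff_odd.mp fun he => ?_
  obtain ⟨a, ha⟩ := exists_prime_orderOf_dvd_card' 2 he.two_dvd
  exact hc a (by rw [Subgroup.orderOf_coe, ha]) (mem_centralizer_singleton_iff.mp a.2)

/-- An element of order five commuting with `w` and moved by a 5-element fixing it is inverted by an
involution of `C(w)`. -/
theorem Rank2.inverter {w c x : G} (D : Rank2 w c) {j : ℕ}
    (hxc : x * c = c * x) (hxw : x * w * x⁻¹ = w * c ^ j) (hj : (j : ZMod 5) ≠ 0)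
    (hcard : Nat.card (centralizer ({w} : Set G)) = 1800 ∨
      Nat.card (centralizer ({w} : Set G)) = 300)
    (h125 : 125 ∣ Nat.card (centralizer ({c} : Set G)))
    (hodd : ∀ i : G, orderOf i = 2 → i * c ≠ c * i) :
    ∃ i : G, orderOf i = 2 ∧ i * w = w * i ∧ i * c * i⁻¹ = c⁻¹ := by
  haveI : Fact (Nat.Prime 5) := ⟨by norm_num⟩
  have hle : D.R ≤ centralizer ({w} : Set G) := fun r hr =>
    mem_centralizer_singleton_iff.mpr (D.R_comm hr D.w_mem)
  obtain ⟨i, hi, hiN⟩ := even_normalizer (D.R.subgroupOf (centralizer ({w} : Set G)))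
    (by rw [Nat.card_congr (subgroupOfEquivOfLe hle).toEquiv, D.card_R]) hcard
  have hi2 : orderOf (i : G) = 2 := by rw [Subgroup.orderOf_coe, hi]
  have hiw : (i : G) * w = w * i := mem_centralizer_singleton_iff.mp i.2
  have hcR : (i : G) * c * (i : G)⁻¹ ∈ D.R :=
    mem_subgroupOf.mp ((mem_normalizer_iff.mp hiN ⟨c, hle D.c_mem⟩).mp D.c_mem)
  obtain ⟨a, b, hab⟩ := D.exists_pow_of_mem hcR
  refine ⟨i, hi2, hiw, ?_⟩
  have ha : (a : ZMod 5) = 0 := by
    by_contra ha
    obtain ⟨m, hm⟩ : ∃ m : ℕ, ((j * m * a : ℕ) : ZMod 5) = b := by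
      refine ⟨((b : ZMod 5) * ((j : ZMod 5) * a)⁻¹).val, ?_⟩
      have h0 : (j : ZMod 5) * a ≠ 0 := mul_ne_zero hj ha
      push_cast
      rw [ZMod.natCast_zmod_val]
      field_simp
    have hstep : ∀ n : ℕ, x ^ n * w * (x ^ n)⁻¹ = w * c ^ (j * n) := by
      intro n
      induction n with
      | zero => simp
      | succ n ih =>
        calc x ^ (n + 1) * w * (x ^ (n + 1))⁻¹ = x * (x ^ n * w * (x ^ n)⁻¹) * x⁻¹ := by
              rw [pow_succ']; group
          _ = x * w * x⁻¹ * (x * c ^ (j * n) * x⁻¹) := by rw [ih]; group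
          _ = w * c ^ j * c ^ (j * n) := by
              rw [hxw, ((show Commute x c from hxc).pow_right _).eq, mul_inv_cancel_right]
          _ = _ := by rw [mul_assoc, ← pow_add, mul_add, mul_one, add_comm j]
    have hd : (i : G)⁻¹ * x ^ m * (i : G) * w * ((i : G)⁻¹ * x ^ m * (i : G))⁻¹ = (i : G)⁻¹ * (w * c ^ (j * m)) * i := by
      rw [← hstep m]
      calc _ = (i : G)⁻¹ * (x ^ m * ((i : G) * w) * ((i : G)⁻¹ * (x ^ m)⁻¹)) * i := by group
        _ = _ := by rw [hiw]; group
    have he : x ^ m * w ^ a * (x ^ m)⁻¹ = (i : G) * c * (i : G)⁻¹ := by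
      rw [hab, ← conj_pow, hstep, (show Commute w (c ^ (j * m)) from
        ((show Commute c w from D.comm).symm.pow_right _)).mul_pow, ← pow_mul]
      exact D.congr rfl hm
    have hwa : orderOf (w ^ a) = 5 := by
      rw [← H65.orderOf_conj' (x ^ m) (w ^ a), he, H65.orderOf_conj', D.hc]
    have h1 : Nat.card (centralizer ({c} : Set G)) = Nat.card (centralizer ({w} : Set G)) := by
      refine card_cent_transfer (d := (x ^ m)⁻¹ * (i : G)) (i := a) (by norm_num) D.hc D.hw ?_
      calc (x ^ m)⁻¹ * (i : G) * c * ((x ^ m)⁻¹ * (i : G))⁻¹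
          = (x ^ m)⁻¹ * ((i : G) * c * (i : G)⁻¹) * x ^ m := by group
        _ = w ^ a := by rw [← he]; group
    rw [h1] at h125
    rcases hcard with e | e <;> rw [e] at h125 <;> norm_num at h125
  rw [D.pow_congr_w (a' := 0) (by rw [ha]; simp), pow_zero, one_mul] at hab
  have hb : (b : ZMod 5) * b = 1 := by
    have h2 : c ^ (b * b) = c ^ 1 := by
      rw [pow_mul, ← hab, conj_pow, ← hab, pow_one]
      rw [show (i : G) * ((i : G) * c * (i : G)⁻¹) * (i : G)⁻¹ =
        ((i : G) * i) * c * ((i : G) * i)⁻¹ by group, H65.mul_self_eq_one hi2]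
      simp
    rw [pow_eq_pow_iff_modEq, D.hc, ← ZMod.natCast_eq_natCast_iff] at h2
    simpa using h2
  rcases pow_four_five _ hb with e | e
  · exfalso
    rw [D.pow_congr_c (b' := 1) (by rw [e]; simp), pow_one] at hab
    exact hodd i hi2 (mul_inv_eq_iff_eq_mul.mp hab)
  · rw [hab, D.pow_congr_c (b' := 4) (by rw [e]; simp)]
    refine eq_inv_of_mul_eq_one_left ?_
    rw [← pow_succ, show 4 + 1 = orderOf c from D.hc.symm, pow_orderOf_eq_one]

namespace Frame

variable {z : G} {Q : Subgroup G} {h : Setup z Q} {s w t om hh : G} (F : Frame h s w t om hh)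
variable {s' w' g r : G}

include F

/-- The centraliser order of an element of order five commuting with an involution. -/
theorem cent_five (D : Five h s' w' g r) {u i : G} (hu : orderOf u = 5) (hi : orderOf i = 2)
    (hiu : i * u = u * i) :
    (IsConj i z ∧ Nat.card (centralizer ({u} : Set G)) = 1800) ∨
      (IsConj i t ∧ Nat.card (centralizer ({u} : Set G)) = 300) := by
  rcases F.types hi with e | e
  · obtain ⟨d, n, hd, -⟩ := to_g D hu e hiu
    exact Or.inl ⟨e, by rw [card_cent_transfer (by norm_num) hu D.ord hd, F.card_Cg D]⟩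
  · obtain ⟨y, hy, hyp⟩ := F.exists_order (p := 5) (Or.inl rfl)
    obtain ⟨d, n, hd, -⟩ := F.to_y (Or.inl rfl) hy hyp hu e hiu
    exact Or.inr ⟨e, by
      rw [card_cent_transfer (by norm_num) hu hyp hd, F.card_Cy_five D hy hyp]⟩

theorem not_125 (D : Five h s' w' g r) : ¬ 125 ∣ Nat.card G := by
  classical
  haveI : Fact (Nat.Prime 5) := ⟨by norm_num⟩
  intro hd
  obtain ⟨P, hgP⟩ := (IsPGroup.of_card (p := 5) (n := 1) (G := zpowers g)
    (by rw [Nat.card_zpowers, D.ord, pow_one])).exists_le_sylow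
  have hP : 125 ∣ Nat.card (P : Subgroup G) :=
    P.pow_dvd_card_of_pow_dvd_card (n := 3) (by norm_num; exact hd)
  haveI : Nontrivial (P : Subgroup G) :=
    ⟨⟨⟨g, hgP (mem_zpowers g)⟩, 1, fun e => D.g_ne (congrArg Subtype.val e)⟩⟩
  obtain ⟨c, -, hcc, hc⟩ := PGroups.exists_mem_center_orderOf_eq P.2
    (⊤ : Subgroup (P : Subgroup G)) top_ne_bot
  have hc5 : orderOf (c : G) = 5 := by rw [Subgroup.orderOf_coe, hc]
  have hcen : ∀ b ∈ (P : Subgroup G), b * (c : G) = c * b := fun b hb =>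
    congrArg Subtype.val (mem_center_iff.mp hcc ⟨b, hb⟩)
  have h125 : 125 ∣ Nat.card (centralizer ({(c : G)} : Set G)) :=
    hP.trans (card_dvd_of_le fun b hb => mem_centralizer_singleton_iff.mpr (hcen b hb))
  have hodd : ∀ i : G, orderOf i = 2 → i * (c : G) ≠ c * i := fun i hi e => by
    rcases F.cent_five D hc5 hi e with ⟨-, e'⟩ | ⟨-, e'⟩ <;> rw [e'] at h125 <;> norm_num at h125
  -- apply to an element of `P` of order five with a small centraliser
  have main : ∀ v : G, v ∈ (P : Subgroup G) → orderOf v = 5 →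
      (Nat.card (centralizer ({v} : Set G)) = 1800 ∨ Nat.card (centralizer ({v} : Set G)) = 300) →
      ∃ i : G, orderOf i = 2 ∧ i * v = v * i ∧ i * (c : G) * i⁻¹ = (c : G)⁻¹ := by
    intro v hv hv5 hcard
    have D2 : Rank2 v (c : G) :=
      { hw := hv5, hc := hc5, comm := (hcen v hv).symm
        nmem := fun e => by
          rw [← mem_powers_iff_mem_zpowers, Submonoid.mem_powers_iff] at e
          obtain ⟨n, hn⟩ := e
          have h1 := card_cent_transfer (by norm_num) hc5 hv5 (d := 1) (i := n) (by simp [hn])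
          rw [h1] at h125
          rcases hcard with e' | e' <;> rw [e'] at h125 <;> norm_num at h125 }
    have hRP : D2.R ≤ (P : Subgroup G) := by
      rintro _ ⟨k, rfl⟩
      exact mul_mem (pow_mem hv _) (pow_mem c.2 _)
    obtain ⟨x, hxP, hxR, hxN⟩ := exists_normalizing hRP P.2 (fun e => by
      have := D2.card_R
      rw [e] at this
      rw [this] at hP
      norm_num at hP)
    obtain ⟨a, j, haj⟩ := D2.exists_pow_of_mem (hxN v D2.w_mem).2
    have hstep : ∀ n : ℕ, ∃ j', x ^ n * v * (x ^ n)⁻¹ = v ^ (a ^ n) * (c : G) ^ j' := by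
      intro n
      induction n with
      | zero => exact ⟨0, by simp⟩
      | succ n ih =>
        obtain ⟨j', hj'⟩ := ih
        refine ⟨j * a ^ n + j', ?_⟩
        calc x ^ (n + 1) * v * (x ^ (n + 1))⁻¹ = x * (x ^ n * v * (x ^ n)⁻¹) * x⁻¹ := by
              rw [pow_succ']; group
          _ = (x * v * x⁻¹) ^ (a ^ n) * (x * (c : G) ^ j' * x⁻¹) := by
              rw [hj', conj_pow]; group
          _ = _ := by
              rw [haj, ((show Commute x (c : G) from hcen x hxP).pow_right j').eq,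
                mul_inv_cancel_right, ((show Commute (c : G) v from D2.comm).symm.pow_pow a j).mul_pow,
                ← pow_mul, ← pow_mul, ← pow_succ', mul_assoc, ← pow_add]
    obtain ⟨m, hm⟩ := P.2 ⟨x, hxP⟩
    have hm' : x ^ (5 ^ m) = 1 := congrArg Subtype.val hm
    obtain ⟨j', hj'⟩ := hstep (5 ^ m)
    rw [hm', one_mul, inv_one, mul_one] at hj'
    have ha1 : (a : ZMod 5) = 1 := by
      have h1 : D2.el ((1 : ℕ), (0 : ℕ)) = D2.el (((a ^ (5 ^ m) : ℕ) : ZMod 5), (j' : ZMod 5)) := by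
        rw [D2.el_cast, D2.el_cast, ← hj']; simp
      have h2 := congrArg Prod.fst (D2.el_inj h1)
      simp only [Nat.cast_pow, Nat.cast_one] at h2
      rw [pow_five_pow] at h2
      exact h2.symm
    rw [D2.pow_congr_w (a' := 1) (by rw [ha1]; simp), pow_one] at haj
    refine D2.inverter (hcen x hxP) haj (fun hj0 => ?_) hcard h125 hodd
    rw [D2.pow_congr_c (b' := 0) (by rw [hj0]; simp), pow_zero, mul_one] at haj
    -- then `x` centralises `v`
    have hle : D2.R ⊔ zpowers x ≤ (P : Subgroup G) ⊓ centralizer ({v} : Set G) :=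
      sup_le (le_inf hRP fun r hr => mem_centralizer_singleton_iff.mpr (D2.R_comm hr D2.w_mem))
        (zpowers_le.mpr ⟨hxP, mem_centralizer_singleton_iff.mpr (mul_inv_eq_iff_eq_mul.mp haj)⟩)
    obtain ⟨k, hk⟩ := IsPGroup.iff_card.mp (P.2.to_le (hle.trans inf_le_left))
    have h2 := (card_dvd_of_le (hle.trans inf_le_right))
    have h3 : Nat.card D2.R < Nat.card ↥(D2.R ⊔ zpowers x) := by
      refine lt_of_le_of_ne (card_le_of_le le_sup_left) fun e => hxR ?_
      rw [eq_of_le_of_card_ge le_sup_left e.ge]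
      exact mem_sup_right (mem_zpowers x)
    rw [D2.card_R, hk] at h3
    rw [hk] at h2
    have hk3 : 3 ≤ k := by
      by_contra hk3
      have : (5 : ℕ) ^ k ≤ 5 ^ 2 := Nat.pow_le_pow_right (by norm_num) (by omega)
      omega
    have h4 := (pow_dvd_pow 5 hk3).trans h2
    rcases hcard with e | e <;> rw [e] at h4 <;> norm_num at h4
  obtain ⟨i, hi, hig, hic⟩ := main g (hgP (mem_zpowers g)) D.ord (Or.inl (F.card_Cg D))
  obtain ⟨y, hy, hyp⟩ := F.exists_order (p := 5) (Or.inl rfl)
  obtain ⟨P', hyP'⟩ := (IsPGroup.of_card (p := 5) (n := 1) (G := zpowers y)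
    (by rw [Nat.card_zpowers, hyp, pow_one])).exists_le_sylow
  obtain ⟨d, hd'⟩ := MulAction.exists_smul_eq G P' P
  have hdy : d * y * d⁻¹ ∈ (P : Subgroup G) := by
    rw [← hd']; exact ⟨y, hyP' (mem_zpowers y), rfl⟩
  have hdy5 : orderOf (d * y * d⁻¹) = 5 := (H65.orderOf_conj' d y).trans hyp
  have hback : d⁻¹ * (d * y * d⁻¹) * d⁻¹⁻¹ = y ^ 1 := by group
  obtain ⟨i', hi', hi'y, hi'c⟩ := main _ hdy hdy5 (Or.inr (by
    rw [card_cent_transfer (by norm_num) hdy5 hyp hback, F.card_Cy_five D hy hyp]))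
  have hiz : IsConj i z := (F.types hi).resolve_right fun e => F.g_all_z D hig e
  have hi't : IsConj i' t := (F.types hi').resolve_left fun e => by
    refine F.y_no_z D (Or.inl rfl) hy hyp (i := d⁻¹ * i' * d⁻¹⁻¹)
      ((isConj_iff.mpr ⟨d⁻¹, rfl⟩ : IsConj i' (d⁻¹ * i' * d⁻¹⁻¹)).symm.trans e) ?_
    exact (cent_transfer (by norm_num) hdy5 hyp hback i').mp hi'y
  have hcomm : Commute (i * i') (c : G) := by
    refine mul_inv_eq_iff_eq_mul.mp ?_
    calc i * i' * (c : G) * (i * i')⁻¹ = i * (i' * (c : G) * i'⁻¹) * i⁻¹ := by group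
      _ = (i * (c : G) * i⁻¹)⁻¹ := by rw [hi'c]; group
      _ = c := by rw [hic, inv_inv]
  have hprod : Odd (orderOf (i * i')) := (odd_cent hodd).of_dvd_nat
    (Subgroup.orderOf_dvd_natCard _ (mem_centralizer_singleton_iff.mpr hcomm.eq))
  exact F.not_both hiz ((H26.isConj_of_odd (H65.mul_self_eq_one hi) (H65.mul_self_eq_one hi')
    hprod).trans hi't)

theorem dvd_25 (D : Five h s' w' g r) {P : Sylow 5 G} : Nat.card (P : Subgroup G) = 25 := by
  haveI : Fact (Nat.Prime 5) := ⟨by norm_num⟩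
  obtain ⟨n, hn⟩ := IsPGroup.iff_card.mp P.2
  have h1 : 5 ^ 2 ∣ Nat.card (P : Subgroup G) := P.pow_dvd_card_of_pow_dvd_card (F.twentyfive_dvd D)
  rw [hn, Nat.pow_dvd_pow_iff_le_right (by norm_num)] at h1
  have h2 : n ≤ 2 := by
    by_contra h3
    exact F.not_125 D ((pow_dvd_pow 5 (by omega : 3 ≤ n)).trans
      (hn ▸ card_subgroup_dvd_card _))
  rw [hn, show n = 2 by omega]
  norm_num

end Frame

end Cfsg.Agent.H55.Suz
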