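import Cfsg.Agent.H55.Suz.Outer
import Cfsg.Agent.H55.Suz.FiveX

/-!
The two types of involutions, the order of `C(z)` and general facts on elements of prime order.
-/

set_option autoImplicit false
set_option linter.unusedSectionVars false
set_option linter.style.haveILetI false

namespace Cfsg.Agent.H55.Suz

open Cfsg.Agent.H73.Suz QuadraticMap Cfsg.Agent.Orthogonal Cfsg.Agent.H92.ExtraForm Subgroup

variable {G : Type*} [Group G] [Finite G]

/-- If `p ^ 2` divides the group order then it divides the centraliser of every element of order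
`p`. -/
theorem sq_dvd_cent {p : ℕ} (hp : p.Prime) (hd : p ^ 2 ∣ Nat.card G) {x : G} (hx : orderOf x = p) :
    p ^ 2 ∣ Nat.card (centralizer ({x} : Set G)) := by
  haveI : Fact p.Prime := ⟨hp⟩
  obtain ⟨R, hR, hle⟩ := Sylow.exists_subgroup_card_pow_succ (p := p) (n := 1) hd
    (H := zpowers x) (by rw [Nat.card_zpowers, hx, pow_one])
  have hR' : Nat.card R = p ^ 2 := hR
  rw [← hR']
  refine card_dvd_of_le fun r hr => mem_centralizer_singleton_iff.mpr ?_
  have := IsPGroup.isMulCommutative_of_card_eq_prime_sq hR'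
  exact congrArg Subtype.val
    (this.is_comm.comm (⟨r, hr⟩ : R) ⟨x, hle (mem_zpowers x)⟩)

theorem zpowers_pow_eq {p : ℕ} (hp : p.Prime) {a b : G} {i : ℕ} (ha : orderOf a = p)
    (hb : orderOf b = p) (e : a = b ^ i) : zpowers a = zpowers b :=
  eq_of_le_of_card_ge (zpowers_le.mpr (e ▸ pow_mem (mem_zpowers b) i))
    (by rw [Nat.card_zpowers, Nat.card_zpowers, ha, hb])

theorem commute_pow_iff {p : ℕ} (hp : p.Prime) {a b : G} {i : ℕ} (ha : orderOf a = p)
    (hb : orderOf b = p) (e : a = b ^ i) (c : G) : c * a = a * c ↔ c * b = b * c := by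
  constructor
  · intro hc
    obtain ⟨k, hk⟩ := mem_zpowers_iff.mp
      (show b ∈ zpowers a from (zpowers_pow_eq hp ha hb e) ▸ mem_zpowers b)
    rw [← hk]
    exact ((show Commute c a from hc).zpow_right k).eq
  · intro hc
    rw [e]
    exact ((show Commute c b from hc).pow_right i).eq

/-- Centralisers of elements generating conjugate subgroups of prime order. -/
theorem cent_transfer {p : ℕ} (hp : p.Prime) {a b d : G} {i : ℕ} (ha : orderOf a = p)
    (hb : orderOf b = p) (e : d * a * d⁻¹ = b ^ i) (c : G) :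
    c * a = a * c ↔ d * c * d⁻¹ * b = b * (d * c * d⁻¹) := by
  rw [← commute_pow_iff hp ((H65.orderOf_conj' d a).trans ha) hb e, conj_mul, conj_mul]
  simp

theorem card_cent_transfer {p : ℕ} (hp : p.Prime) {a b d : G} {i : ℕ} (ha : orderOf a = p)
    (hb : orderOf b = p) (e : d * a * d⁻¹ = b ^ i) :
    Nat.card (centralizer ({a} : Set G)) = Nat.card (centralizer ({b} : Set G)) := by
  refine Nat.card_congr (Equiv.subtypeEquiv (MulAut.conj d).toEquiv fun c => ?_)
  simp only [mem_centralizer_singleton_iff]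
  exact cent_transfer hp ha hb e c

theorem sq_of_isConj {z x : G} (hz : z * z = 1) (hxz : IsConj x z) : x * x = 1 := by
  obtain ⟨c, hc⟩ := isConj_iff.mp hxz.symm
  rw [← hc, conj_mul, hz, mul_one, mul_inv_cancel]

variable {z : G} {Q : Subgroup G}

theorem card_Q (h : Setup z Q) : Nat.card Q = 128 := by
  classical
  choose f hfQ hfπ using h.π_surj
  let e : V6 × ZMod 2 → Q := fun k => ⟨f k.1 * zp z k.2, mul_mem (hfQ _) (by
    unfold zp; split_ifs
    exacts [one_mem _, h.hzQ])⟩
  have hz : ∀ i : ZMod 2, zp z i ∈ Q ∧ h.π (zp z i) = 0 := fun i => by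
    unfold zp; split_ifs
    exacts [⟨one_mem _, h.π_one⟩, ⟨h.hzQ, h.π_z⟩]
  have he : Function.Bijective e := by
    constructor
    · rintro ⟨v, i⟩ ⟨v', i'⟩ ee
      have e1 : f v * zp z i = f v' * zp z i' := congrArg Subtype.val ee
      have e2 := congrArg h.π e1
      rw [h.π_mul _ (hfQ _) _ (hz i).1, h.π_mul _ (hfQ _) _ (hz i').1, (hz i).2, (hz i').2,
        add_zero, add_zero, hfπ, hfπ] at e2
      subst e2
      rw [zp_inj h.z_ne (mul_left_cancel e1)]
    · rintro ⟨q, hq⟩
      rcases h.π_eq (hfQ (h.π q)) hq (hfπ _) with e' | e'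
      · exact ⟨(h.π q, 0), Subtype.ext (by simp [e, zp, ← e'])⟩
      · exact ⟨(h.π q, 1), Subtype.ext (by simp [e, zp, ← e'])⟩
  rw [← Nat.card_congr (Equiv.ofBijective e he)]
  simp [V6, U4]

theorem card_Cz (h : Setup z Q) : Nat.card (centralizer ({z} : Set G)) = 3317760 := by
  haveI : Finite (O phi) := Nat.finite_of_card_ne_zero (by rw [card_O_six]; norm_num)
  let f : ↥(centralizer ({z} : Set G)) →* O phi :=
    { toFun := fun x => h.ρ x
      map_one' := h.ρ_one
      map_mul' := fun a b => h.ρ_mul _ _ (mem_centralizer_singleton_iff.mp a.2)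
        (mem_centralizer_singleton_iff.mp b.2) }
  have hr : f.range = commutator (O phi) := by
    ext k
    constructor
    · rintro ⟨c, rfl⟩
      exact h.ρ_mem _ (mem_centralizer_singleton_iff.mp c.2)
    · intro hk
      obtain ⟨c, hc, e⟩ := h.ρ_surj k hk
      exact ⟨⟨c, mem_centralizer_singleton_iff.mpr hc⟩, e⟩
  have hk : Nat.card f.ker = 128 := by
    rw [← card_Q h]
    exact Nat.card_congr
      { toFun := fun x => ⟨x.1.1, (h.ρ_ker _ (mem_centralizer_singleton_iff.mp x.1.2)).mp
          (MonoidHom.mem_ker.mp x.2)⟩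
        invFun := fun q => ⟨⟨q, mem_centralizer_singleton_iff.mpr (h.le _ q.2)⟩,
          MonoidHom.mem_ker.mpr ((h.ρ_ker _ (h.le _ q.2)).mpr q.2)⟩
        left_inv := fun x => rfl
        right_inv := fun q => rfl }
  rw [← f.ker.card_mul_index, index_ker, hr, hk, H73.Suz.card_K]

namespace Frame

variable {h : Setup z Q} {s w t om hh : G} (F : Frame h s w t om hh)

include F

/-- There are two types of involutions. -/
theorem types {x : G} (hx : orderOf x = 2) : IsConj x z ∨ IsConj x t := by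
  obtain ⟨a, b, -, -, -, hall⟩ := F.P.two_classes
  rcases hall x hx with ex | ex <;> rcases hall z h.hzo with ez | ez <;>
    rcases hall t (F.ord_two F.t2 F.t_ne) with et | et
  all_goals first
    | exact Or.inl (ex.trans ez.symm)
    | exact Or.inr (ex.trans et.symm)
    | exact absurd (et.trans ez.symm) F.t_not_z

theorem not_both {x : G} (hz : IsConj x z) (ht : IsConj x t) : False :=
  F.t_not_z (ht.symm.trans hz)

/-- An element of order five or seven commuting with an involution of the second type. -/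
theorem to_y {p : ℕ} (hp : p = 5 ∨ p = 7) {y u i : G} (hy : y ∈ F.Ksub) (hyp : orderOf y = p)
    (hu : orderOf u = p) (hi : IsConj i t) (hui : i * u = u * i) :
    ∃ (d : G) (n : ℕ), d * u * d⁻¹ = y ^ n ∧ d * i * d⁻¹ = t := by
  obtain ⟨c, hc⟩ := isConj_iff.mp hi
  obtain ⟨k, hk, n, e⟩ := F.conj_K hp (a := y) (b := c * u * c⁻¹) (F.mem_K.mp hy).1
    (by rw [← hc, conj_mul, conj_mul, hui]) hyp (by rw [H65.orderOf_conj', hu])
  refine ⟨k * c, n, by rw [← e]; group, ?_⟩
  rw [show k * c * i * (k * c)⁻¹ = k * (c * i * c⁻¹) * k⁻¹ by group, hc, (F.mem_K.mp hk).1,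
    mul_inv_cancel_right]

omit F in
/-- An element of order five commuting with a conjugate of `z`. -/
theorem to_g {s' w' g r u i : G} (D : Five h s' w' g r) (hu : orderOf u = 5) (hi : IsConj i z)
    (hui : i * u = u * i) : ∃ (d : G) (n : ℕ), d * u * d⁻¹ = g ^ n ∧ d * i * d⁻¹ = z := by
  obtain ⟨c, hc⟩ := isConj_iff.mp hi
  obtain ⟨d, hd, n, e⟩ := conj_zpowers (not_25 h (M := centralizer ({z} : Set G))
    fun x hx => mem_centralizer_singleton_iff.mp hx) (a := g) (b := c * u * c⁻¹)
    (mem_centralizer_singleton_iff.mpr D.gz)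
    (mem_centralizer_singleton_iff.mpr (by rw [← hc, conj_mul, conj_mul, hui])) D.ord
    (by rw [H65.orderOf_conj', hu])
  refine ⟨d * c, n, by rw [← e]; group, ?_⟩
  rw [show d * c * i * (d * c)⁻¹ = d * (c * i * c⁻¹) * d⁻¹ by group, hc,
    mem_centralizer_singleton_iff.mp hd, mul_inv_cancel_right]

omit F in
/-- No element of order seven commutes with a conjugate of `z`. -/
theorem no_seven_z (h : Setup z Q) {u i : G} (hu : orderOf u = 7) (hi : IsConj i z)
    (hui : i * u = u * i) : False := by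
  haveI : Finite (O phi) := Nat.finite_of_card_ne_zero (by rw [card_O_six]; norm_num)
  obtain ⟨c, hc⟩ := isConj_iff.mp hi
  have hb : c * u * c⁻¹ * z = z * (c * u * c⁻¹) := by rw [← hc, conj_mul, conj_mul, hui]
  have h7 : (c * u * c⁻¹) ^ 7 = 1 := by rw [conj_pow, ← hu, pow_orderOf_eq_one]; group
  have h1 : h.ρ (c * u * c⁻¹) ^ 7 = 1 := by rw [← h.ρ_pow hb, h7, h.ρ_one]
  have h2 : orderOf (h.ρ (c * u * c⁻¹)) ∣ 51840 := card_O_six ▸ orderOf_dvd_natCard _
  have h3 := Nat.eq_one_of_dvd_coprimes (by norm_num : Nat.Coprime 7 51840)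
    (orderOf_dvd_of_pow_eq_one h1) h2
  have h4 := h.pow_four ((h.ρ_ker _ hb).mp (orderOf_eq_one_iff.mp h3))
  have h5 : orderOf (c * u * c⁻¹) ∣ 4 := orderOf_dvd_of_pow_eq_one h4
  rw [H65.orderOf_conj', hu] at h5
  norm_num at h5

end Frame

end Cfsg.Agent.H55.Suz
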