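import Cfsg.Agent.H73.Suz.Main

/-!
The group `W = A B` of a swapped pair in coordinates: every element has a residue in `U4 × U4`.
-/

set_option autoImplicit false
set_option linter.unusedSectionVars false

namespace Cfsg.Agent.H55.Suz

open Cfsg.Agent.H73.Suz QuadraticMap Cfsg.Agent.Orthogonal Cfsg.Agent.H92.ExtraForm

/-- Residues. -/
abbrev R2 : Type := U4 × U4

/-- The commutator of two residues. -/
def bil (p p' : R2) : ZMod 2 × ZMod 2 :=
  (fU p.1 p'.1 + fU p.1 p'.2 + fU p'.1 p.2, fU p.1 p'.2 + fU p'.1 p.2 + fU p.2 p'.2)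

/-- The square of a residue. -/
def sqv (p : R2) : ZMod 2 × ZMod 2 := (qU p.1 + fU p.1 p.2, fU p.1 p.2 + qU p.2)

theorem fU_add_right (a b c : U4) : fU a (b + c) = fU a b + fU a c := by
  rw [fU_comm, fU_add_left, fU_comm b, fU_comm c]

theorem sqv_add (p p' : R2) : sqv (p + p') = sqv p + sqv p' + bil p p' := by
  simp only [sqv, bil, Prod.fst_add, Prod.snd_add, qU_add, fU_add_left, fU_add_right,
    Prod.mk_add_mk]
  ext <;> simp only [] <;> ring

theorem add_self_R2 : ∀ p : R2, p + p = 0 := fun p => by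
  have h : ∀ a : U4, a + a = 0 := by decide
  exact Prod.ext (h _) (h _)

theorem res_E (u a : U4) : res (E u) a = a := by
  rw [res, E_app]; simp [emb]

variable {G : Type*} [Group G] [Finite G] {z : G} {Q : Subgroup G}

/-- `x` lies in `W` with residue `p`. -/
def IsW (h : Setup z Q) (s w x : G) (p : R2) : Prop :=
  ∃ q b, InA Q s q ∧ InB z Q w b ∧ x = q * b ∧ alpha h q = p.1 ∧ theta h b = p.2

variable {h : Setup z Q} {s w : G} (P : Pair h s w)

theorem isW_A (P : Pair h s w) {q : G} (hq : InA Q s q) : IsW h s w q (alpha h q, 0) :=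
  ⟨q, 1, hq, by simpa [tt, zp] using P.tt_InB 0 0, (mul_one q).symm, rfl,
    by simpa [tt, zp] using P.theta_tt 0 0⟩

theorem isW_B (P : Pair h s w) {b : G} (hb : InB z Q w b) : IsW h s w b (0, theta h b) :=
  ⟨1, b, ⟨one_mem Q, by simp⟩, hb, (one_mul b).symm, by simp [alpha, h.π_one], rfl⟩

include P

theorem isW_one : IsW h s w 1 0 := by
  have := isW_A P (q := (1 : G)) ⟨one_mem Q, show (1 : G) * s = s * 1 by simp⟩
  simpa [alpha, h.π_one, Prod.mk_zero_zero] using this

theorem isW_exists (p : R2) : ∃ x, IsW h s w x p := by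
  obtain ⟨q, hq, hπ⟩ := P.exists_A p.1
  obtain ⟨b, hb, hu⟩ := P.exists_B p.2
  exact ⟨q * b, q, b, hq, hb, rfl, by simp [alpha, hπ], hu⟩

theorem isW_tt (i j : ZMod 2) : IsW h s w (tt z s i j) 0 := by
  simpa [P.alpha_tt, Prod.mk_zero_zero] using isW_A P (P.tt_InA i j)

theorem isW_cz {x : G} {p : R2} (hx : IsW h s w x p) : x * z = z * x ∧ x * s = s * x := by
  obtain ⟨q, b, hq, hb, rfl, -, -⟩ := hx
  exact ⟨h.mul_comm' (P.zc hq) hb.2,
    ((show Commute q s from hq.2).mul_left (show Commute b s from P.sB hb)).eq⟩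

theorem isW_mul {x y : G} {p p' : R2} (hx : IsW h s w x p) (hy : IsW h s w y p') :
    IsW h s w (x * y) (p + p') := by
  obtain ⟨q, b, hq, hb, rfl, e1, e2⟩ := hx
  obtain ⟨q', b', hq', hb', rfl, e1', e2'⟩ := hy
  have hc := P.InA_conj hb.2 (P.sB hb) hq'
  refine ⟨q * (b * q' * b⁻¹), b * b', P.InA_mul hq hc, P.InB_mul hb hb', by group, ?_, ?_⟩
  · rw [P.alpha_mul hq.1 hc.1, P.alpha_conj hb.2 (P.sB hb) hq', P.rho_B hb, res_E, e1, e1']
    rfl
  · rw [P.theta_mul hb hb', e2, e2']; rfl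

theorem isW_unique {x : G} {p p' : R2} (hx : IsW h s w x p) (hx' : IsW h s w x p') : p = p' := by
  obtain ⟨q, b, hq, hb, rfl, e1, e2⟩ := hx
  obtain ⟨q', b', hq', hb', e, e1', e2'⟩ := hx'
  have hB := P.InB_mul hb (P.InB_inv hb')
  have he : q⁻¹ * q' = b * b'⁻¹ := by
    rw [eq_mul_inv_iff_mul_eq, mul_assoc, ← e, inv_mul_cancel_left]
  obtain ⟨f1, f2⟩ := P.eq_of_mem_inter (P.InA_mul (P.InA_inv hq) hq').1 hB he
  rw [P.alpha_mul (inv_mem hq.1) hq'.1, P.alpha_inv hq.1, e1, e1'] at f1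
  have h4 : ∀ a c : U4, a + c = 0 → a = c := by decide
  have f3 := P.theta_mul hB hb'
  rw [f2, zero_add, inv_mul_cancel_right, e2, e2'] at f3
  exact Prod.ext (h4 _ _ f1) f3

theorem isW_sq {x : G} {p : R2} (hx : IsW h s w x p) :
    x * x = tt z s (sqv p).1 (sqv p).2 := by
  obtain ⟨q, b, hq, hb, rfl, e1, e2⟩ := hx
  rw [P.sq_AB hq hb, e1, e2]; rfl

theorem tt_zero : tt z s 0 0 = 1 := by simp [tt, zp]

theorem tt_self (i j : ZMod 2) : tt z s i j * tt z s i j = 1 := by
  rw [P.tt_mul, CharTwo.add_self_eq_zero, CharTwo.add_self_eq_zero, tt_zero P]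

theorem tt_inv (i j : ZMod 2) : (tt z s i j)⁻¹ = tt z s i j :=
  inv_eq_of_mul_eq_one_left (tt_self P i j)

theorem commute_tt {c : G} (hc : c * z = z * c) (hcs : c * s = s * c) (i j : ZMod 2) :
    Commute c (tt z s i j) := by
  refine (show Commute c (zp z i) from ?_).mul_right (show Commute c (zp s j) from ?_) <;>
    unfold zp <;> split_ifs
  exacts [Commute.one_right _, hc, Commute.one_right _, hcs]

theorem isW_commute_tt {x : G} {p : R2} (hx : IsW h s w x p) (i j : ZMod 2) :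
    Commute x (tt z s i j) := commute_tt P (isW_cz P hx).1 (isW_cz P hx).2 i j

theorem isW_inv {x : G} {p : R2} (hx : IsW h s w x p) : IsW h s w x⁻¹ p := by
  have e : x⁻¹ = x * tt z s (sqv p).1 (sqv p).2 := by
    refine inv_eq_of_mul_eq_one_right ?_
    rw [← mul_assoc, isW_sq P hx, tt_self P]
  rw [e]
  simpa using isW_mul P hx (isW_tt P _ _)

theorem isW_comm {x y : G} {p p' : R2} (hx : IsW h s w x p) (hy : IsW h s w y p') :
    y * x = x * y * tt z s (bil p p').1 (bil p p').2 := by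
  have e1 := isW_sq P hx
  have e2 := isW_sq P hy
  have e3 := isW_sq P (isW_mul P hx hy)
  set A := tt z s (sqv p).1 (sqv p).2 with hA
  set B := tt z s (sqv p').1 (sqv p').2 with hB
  set C := tt z s (sqv (p + p')).1 (sqv (p + p')).2 with hC
  have hx' : x⁻¹ = x * A := inv_eq_of_mul_eq_one_right (by rw [← mul_assoc, e1, tt_self P])
  have hy' : y⁻¹ = y * B := inv_eq_of_mul_eq_one_right (by rw [← mul_assoc, e2, tt_self P])
  have hc : Commute y (A * C) :=
    (isW_commute_tt P hy _ _).mul_right (isW_commute_tt P hy _ _)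
  have hz : A * C * B = tt z s (bil p p').1 (bil p p').2 := by
    rw [hA, hB, hC, P.tt_mul, P.tt_mul, sqv_add]
    congr 1 <;> simp only [Prod.fst_add, Prod.snd_add] <;>
      generalize (sqv p).1 = a, (sqv p').1 = b, (bil p p').1 = c,
        (sqv p).2 = a', (sqv p').2 = b', (bil p p').2 = c' <;>
      revert a b c a' b' c' <;> decide
  calc y * x = x⁻¹ * (x * y * (x * y)) * y⁻¹ := by group
    _ = x * A * C * (y * B) := by rw [e3, hx', hy']
    _ = x * ((A * C) * y) * B := by group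
    _ = x * (y * (A * C)) * B := by rw [hc.eq]
    _ = _ := by rw [← hz]; group

theorem isW_commute_iff {x y : G} {p p' : R2} (hx : IsW h s w x p) (hy : IsW h s w y p') :
    x * y = y * x ↔ bil p p' = 0 := by
  rw [isW_comm P hx hy]
  constructor
  · intro e
    have e' : tt z s (bil p p').1 (bil p p').2 = tt z s 0 0 := by
      rw [tt_zero P]; exact left_eq_mul.mp e
    obtain ⟨a, b⟩ := P.tt_inj e'
    exact Prod.ext a b
  · intro e
    rw [e]; simp [tt, zp]

theorem isW_eq_tt {x : G} (hx : IsW h s w x 0) : ∃ i j, x = tt z s i j := by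
  obtain ⟨q, b, hq, hb, rfl, e1, e2⟩ := hx
  obtain ⟨i, j, rfl⟩ := P.eq_mul_tt_A (q := 1) ⟨one_mem Q, by simp⟩ hq
    (by rw [e1]; simp [alpha, h.π_one])
  obtain ⟨k, l, rfl⟩ := P.eq_mul_tt_B (b := 1)
    (by simpa [tt, zp] using P.tt_InB 0 0) hb
    (by rw [e2]; simpa [tt, zp] using P.theta_tt 0 0)
  exact ⟨i + k, j + l, by rw [one_mul, one_mul, P.tt_mul]⟩

theorem isW_mul_tt {x y : G} {p : R2} (hx : IsW h s w x p) (hy : IsW h s w y p) :
    ∃ i j, y = x * tt z s i j := by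
  obtain ⟨i, j, e⟩ := isW_eq_tt P (by simpa [add_self_R2] using isW_mul P (isW_inv P hx) hy)
  exact ⟨i, j, by rw [← e, mul_inv_cancel_left]⟩

theorem isW_conj {c x : G} {p : R2} (hc : c * z = z * c) (hcs : c * s = s * c)
    (hx : IsW h s w x p) :
    IsW h s w (c * x * c⁻¹) (res (h.ρ c) p.1, res (h.ρ c) p.2) := by
  obtain ⟨q, b, hq, hb, rfl, e1, e2⟩ := hx
  exact ⟨_, _, P.InA_conj hc hcs hq, P.InB_conj hc hcs hb, by group,
    by rw [P.alpha_conj hc hcs hq, e1], by rw [P.theta_conj hc hcs hb, e2]⟩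

theorem isW_conj_W {x y : G} {p p' : R2} (hy : IsW h s w y p') (hx : IsW h s w x p) :
    IsW h s w (y * x * y⁻¹) p := by
  have := isW_mul P (isW_mul P hy hx) (isW_inv P hy)
  rwa [add_comm p' p, add_assoc, add_self_R2, add_zero] at this

/-- An element of the double centraliser inducing the identity residue lies in `W`. -/
theorem isW_of_res {c : G} (hc : c * z = z * c) (hcs : c * s = s * c)
    (hres : ∀ a, res (h.ρ c) a = a) : ∃ p, IsW h s w c p := by
  obtain ⟨u, hu⟩ := eq_E (P.rho_fix hc hcs) fun p hp => by rw [P.res_spec hc hcs hp, hres]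
  obtain ⟨b, hb, hbu⟩ := P.exists_B u
  have hq : c * b⁻¹ ∈ Q := (h.ρ_ker _ (h.mul_comm' hc (h.inv_comm hb.2))).mp (by
    rw [h.ρ_mul _ _ hc (h.inv_comm hb.2), h.ρ_inv hb.2, P.rho_B hb, hbu, hu, mul_inv_cancel])
  have hqA : InA Q s (c * b⁻¹) :=
    ⟨hq, ((show Commute c s from hcs).mul_left (show Commute b s from P.sB hb).inv_left).eq⟩
  exact ⟨(alpha h (c * b⁻¹), u), c * b⁻¹, b, hqA, hb, by group, rfl, hbu⟩

end Cfsg.Agent.H55.Suz
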