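import Cfsg.Agent.H55.Suz.Types

/-!
The conjugates of `z` in `C(z)`.
-/

set_option autoImplicit false
set_option linter.unusedSectionVars false
set_option linter.style.haveILetI false
set_option synthInstance.maxSize 4000
set_option synthInstance.maxHeartbeats 400000
set_option maxRecDepth 20000

namespace Cfsg.Agent.H55.Suz

open Cfsg.Agent.H73.Suz QuadraticMap Cfsg.Agent.Orthogonal Cfsg.Agent.H92.ExtraForm Subgroup

theorem outside_cases : ∀ p : R2, p.2 ≠ 0 → sqv p = 0 → qU p.1 = 0 →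
    qU p.2 = 0 ∧ (p.1 = 0 ∨ p.1 = p.2) := by decide

theorem fixed_perp : ∀ θ a : U4, qU θ = 0 → θ ≠ 0 → qU a = 0 → fU θ a = 0 →
    bil ((0 : U4), θ) (a, 0) = 0 ∧ bil (θ, θ) (a, 0) = 0 := by decide

theorem proj_eq : ∀ a b : U4, qU a = 0 → qU b = 0 → qU (a + b) = 0 → a = 0 ∨ b = 0 ∨ a = b := by decide

theorem perp_of_q : ∀ a θ : U4, qU θ = 0 → qU (a + θ) = qU a → fU a θ = 0 := by decide

theorem exists_perp_one : ∀ θ : U4, θ ≠ 0 → ∃ b, fU b θ = 1 := by decide

variable {G : Type*} [Group G] [Finite G] {z : G} {Q : Subgroup G} {h : Setup z Q}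
variable {s w : G}

/-- The image of an element of `W` in the orthogonal group. -/
theorem isW_rho (P : Pair h s w) {x : G} {p : R2} (hx : IsW h s w x p) : h.ρ x = E p.2 := by
  obtain ⟨q, b, hq, hb, rfl, -, e2⟩ := hx
  rw [h.ρ_mul _ _ (P.zc hq) hb.2, h.ρ_Q hq.1, one_mul, P.rho_B hb, e2]

theorem mem_Q_iff (P : Pair h s w) {x : G} {p : R2} (hx : IsW h s w x p) : x ∈ Q ↔ p.2 = 0 := by
  rw [← h.ρ_ker _ (isW_cz P hx).1, isW_rho P hx]
  exact ⟨fun e => E_injective (e.trans E_zero.symm), fun e => by rw [e, E_zero]⟩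

/-- Elements of `Q` in `C(s)` in coordinates. -/
theorem isW_of_Q (P : Pair h s w) {x : G} (hx : x ∈ Q) (hxs : x * s = s * x) :
    IsW h s w x ((h.π x).2, 0) := isW_A P ⟨hx, hxs⟩

namespace Frame

variable {t om hh : G} (F : Frame h s w t om hh)

include F

local notation "W[" x ", " p "]" => IsW h s w x p

theorem zsq {u : G} (huz : IsConj u z) : u * u = 1 ∧ u ≠ 1 :=
  ⟨(F.orderOf_zType huz).1, (F.orderOf_zType huz).2.1⟩

/-- The residue of a conjugate of `z` in `W`. -/
theorem zres {u : G} {p : R2} (hu : W[u, p]) (huz : IsConj u z) : sqv p = 0 ∧ qU p.1 = 0 :=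
  ⟨F.sqv_zero hu (F.zsq huz).1, (F.isConj_z_iff hu (F.zsq huz).1 (F.zsq huz).2).mp huz⟩

/-- A conjugate of `z` outside `Q` is conjugate in `C(z)` to a standard element of `W`. -/
theorem outside_normal {u : G} (huz : IsConj u z) (hu : u * z = z * u) (huQ : u ∉ Q) :
    ∃ (c : G) (p : R2), c * z = z * c ∧ W[c * u * c⁻¹, p] ∧ p.2 ≠ 0 ∧ qU p.2 = 0 ∧
      (p.1 = 0 ∨ p.1 = p.2) := by
  obtain ⟨c, q, b, hc, hq, hb, hθ, e⟩ := F.P.conj_into_W hu (F.zsq huz).1 huQ
  have hW : W[c * u * c⁻¹, (Cfsg.Agent.H73.Suz.alpha h q, Cfsg.Agent.H73.Suz.theta h b)] := ⟨q, b, hq, hb, e, rfl, rfl⟩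
  have hz' : IsConj (c * u * c⁻¹) z :=
    (isConj_iff.mpr ⟨c, rfl⟩ : IsConj u (c * u * c⁻¹)).symm.trans huz
  obtain ⟨h1, h2⟩ := F.zres hW hz'
  exact ⟨c, _, hc, hW, hθ, outside_cases _ hθ h1 h2⟩

/-- The action of a conjugate of `z` outside `Q` has totally singular range. -/
theorem singular {u : G} (huz : IsConj u z) (hu : u * z = z * u) (huQ : u ∉ Q) :
    SingularRange h u := by
  obtain ⟨c, p, hc, hW, -, hq, -⟩ := F.outside_normal huz hu huQ
  refine singularRange_conj h hc hu fun y => ?_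
  rw [isW_rho F.P hW, E_app, phi_apply]
  obtain ⟨⟨yc, yd⟩, yu⟩ := y
  simp only [Prod.mk_add_mk, show (yd : ZMod 2) + yd = 0 from CharTwo.add_self_eq_zero yd, mul_zero,
    zero_add, show ∀ a b : U4, a + b + a = b from fun a b => by revert a b; decide, hq, zero_mul,
    add_zero]
  rcases two_cases' yd with rfl | rfl
  · simp [show qU 0 = 0 by decide]
  · simp [hq]

/-- A conjugate of `z` outside `Q` fixing the image of an involution of `Q` commutes with it. -/
theorem fix_comm {u x : G} (huz : IsConj u z) (hu : u * z = z * u) (huQ : u ∉ Q) (hx : x ∈ Q)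
    (hx2 : x * x = 1) (hfix : (h.ρ u : V6 ≃ₗ[ZMod 2] V6) (h.π x) = h.π x) : u * x = x * u := by
  obtain ⟨c, p, hc, hW, hθ, hq, hp1⟩ := F.outside_normal huz hu huQ
  set x' := c * x * c⁻¹ with hx'
  have hx'Q : x' ∈ Q := h.norm c hc x hx
  have hx'2 : x' * x' = 1 := by rw [hx', conj_mul, hx2, mul_one, mul_inv_cancel]
  have hfix' : (E p.2 : V6 ≃ₗ[ZMod 2] V6) (h.π x') = h.π x' := by
    rw [← isW_rho F.P hW, hx', h.ρ_conj hc hu, h.ρ_π c hc x hx, Subgroup.coe_mul, Subgroup.coe_mul,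
      mul_app, mul_app, ← mul_app (((h.ρ c)⁻¹ : O phi).1), ← Subgroup.coe_mul, inv_mul_cancel]
    show (h.ρ c : V6 ≃ₗ[ZMod 2] V6) ((h.ρ u : V6 ≃ₗ[ZMod 2] V6) (h.π x)) = _
    rw [hfix]
  have hsing : phi (h.π x') = 0 := (h.sq_one_iff hx'Q).mp hx'2
  rw [E_app] at hfix'
  rw [phi_apply] at hsing
  have hd : (h.π x').1.2 = 0 := by
    rcases two_cases' (h.π x').1.2 with e | e
    · exact e
    · exfalso
      have h2 := congrArg Prod.snd hfix'
      simp only [e, one_smul] at h2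
      exact hθ (add_eq_left.mp h2)
  have hf : fU p.2 (h.π x').2 = 0 := by
    have h1 := congrArg (fun y : V6 => y.1.1) hfix'
    simp only [hd, mul_zero, add_zero] at h1
    exact add_eq_left.mp h1
  rw [hd, mul_zero, zero_add] at hsing
  have hW' := isW_of_Q F.P hx'Q ((F.P.commA hx'Q).mpr hd)
  obtain ⟨hb1, hb2⟩ := fixed_perp _ _ hq hθ hsing hf
  have hcomm : c * u * c⁻¹ * x' = x' * (c * u * c⁻¹) :=
    (isW_commute_iff F.P hW hW').mpr (by
      obtain ⟨p1, p2⟩ := p
      rcases hp1 with e | e <;> simp only at e <;> rw [e]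
      exacts [hb1, hb2])
  rw [hx', conj_mul, conj_mul] at hcomm
  exact mul_left_cancel (mul_right_cancel hcomm)

/-- A conjugate of `z` in `C(z) ∩ C(s)` lies in `W`. -/
theorem mem_W {u : G} (huz : IsConj u z) (hu : u * z = z * u) (hus : u * s = s * u) :
    ∃ p, W[u, p] := by
  by_cases huQ : u ∈ Q
  · exact ⟨_, isW_of_Q F.P huQ hus⟩
  refine isW_of_res F.P hu hus fun a => ?_
  have hS := F.singular huz hu huQ
  have hv := F.P.rho_fix hu hus
  set l := (h.ρ u : V6 ≃ₗ[ZMod 2] V6) with hl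
  set δ : U4 → V6 := fun a => l (emb a) + emb a with hδ
  have hd : ∀ a, (δ a).1.2 = 0 := fun a => by
    have h1 : polar (⇑phi) v0 (l (emb a)) = polar (⇑phi) v0 (emb a) := polar_fixed hv _
    rw [polar_v0, polar_v0] at h1
    show (l (emb a)).1.2 + (emb a).1.2 = 0
    rw [h1, CharTwo.add_self_eq_zero]
  have hq : ∀ a, qU (δ a).2 = 0 := fun a => by
    have := hS (emb a)
    rw [phi_apply, show (h.ρ u : V6 ≃ₗ[ZMod 2] V6) (emb a) + emb a = δ a from rfl, hd, mul_zero,
      zero_add] at this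
    exact this
  have hadd : ∀ a b, (δ (a + b)).2 = (δ a).2 + (δ b).2 := fun a b => by
    simp only [hδ, show emb (a + b) = emb a + emb b from by simp [emb], map_add, Prod.snd_add,
      emb_snd]
    abel
  have hres : ∀ a, res (h.ρ u) a = a + (δ a).2 := fun a => by
    show (l (emb a)).2 = a + ((l (emb a)).2 + a)
    exact (show ∀ x y : U4, x = y + (x + y) by decide) _ _
  have hperp : ∀ a, fU a (δ a).2 = 0 := fun a => by
    refine perp_of_q _ _ (hq a) ?_
    rw [← hres]
    have h1 : phi (l (emb a)) = phi (emb a) := O.map_app _ _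
    have h2 : (l (emb a)).1.2 = 0 := by
      have := hd a
      simpa [hδ, emb] using this
    rw [phi_apply, phi_emb, h2, mul_zero, zero_add] at h1
    exact h1
  have hzero : (δ a).2 = 0 := by
    by_contra hne
    obtain ⟨b, hb⟩ := exists_perp_one _ hne
    have hpair : ∀ b, (δ b).2 = 0 ∨ (δ b).2 = (δ a).2 := fun b => by
      rcases proj_eq _ _ (hq b) (hq a) (by rw [← hadd]; exact hq _) with e | e | e
      exacts [Or.inl e, absurd e hne, Or.inr e]
    rcases hpair b with e | e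
    · have h1 := hperp (b + a)
      rw [hadd, e, zero_add, fU_add_left, hb, hperp a, add_zero] at h1
      exact one_ne_zero h1
    · have h1 := hperp b
      rw [e, hb] at h1
      exact one_ne_zero h1
  rw [hres, hzero, add_zero]

end Frame

end Cfsg.Agent.H55.Suz
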